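import Mathlib.RingTheory.Localization.Away.Basic
import Mathlib.RingTheory.Localization.LocalizationLocalization
import Mathlib.RingTheory.Localization.AtPrime.Basic

/-!
Local rings of `R ⊆ S` when `R[1/x] = S[1/x]`.
-/

set_option autoImplicit false
universe u

namespace K830.AwaySub

variable {R S : Type u} [CommRing R] [CommRing S] [Algebra R S]

/-- If `R → S` is injective and becomes surjective after inverting `x`, then the localization of
`S` at `x` is the localization of `R` at `x`. -/
theorem isLocalization_away (hinj : Function.Injective (algebraMap R S)) (x : R)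
    (h : ∀ s : S, ∃ (n : ℕ) (r : R), algebraMap R S r = algebraMap R S x ^ n * s)
    (Sx : Type u) [CommRing Sx] [Algebra R Sx] [Algebra S Sx] [IsScalarTower R S Sx]
    [IsLocalization.Away (algebraMap R S x) Sx] : IsLocalization.Away x Sx := by
  refine ⟨?_, ?_, ?_⟩
  · rintro ⟨_, n, rfl⟩
    change IsUnit (algebraMap R Sx (x ^ n))
    rw [map_pow, IsScalarTower.algebraMap_apply R S Sx]
    exact (IsLocalization.Away.algebraMap_isUnit (algebraMap R S x)).pow n
  · intro z
    obtain ⟨n, s, hs⟩ := IsLocalization.Away.surj (algebraMap R S x) z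
    obtain ⟨m, r, hr⟩ := h s
    refine ⟨(r, ⟨x ^ (n + m), n + m, rfl⟩), ?_⟩
    change z * algebraMap R Sx (x ^ (n + m)) = algebraMap R Sx r
    rw [IsScalarTower.algebraMap_apply R S Sx r, hr, map_mul, ← hs, map_pow,
      IsScalarTower.algebraMap_apply R S Sx x, pow_add, map_pow]
    ring
  · intro a b hab
    rw [IsScalarTower.algebraMap_apply R S Sx, IsScalarTower.algebraMap_apply R S Sx] at hab
    obtain ⟨⟨_, n, rfl⟩, hc⟩ := IsLocalization.exists_of_eq
      (M := Submonoid.powers (algebraMap R S x)) hab
    refine ⟨⟨x ^ n, n, rfl⟩, hinj ?_⟩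
    change (algebraMap R S x) ^ n * _ = (algebraMap R S x) ^ n * _ at hc
    change algebraMap R S (x ^ n * a) = algebraMap R S (x ^ n * b)
    rw [map_mul, map_mul, map_pow, hc]

theorem nonempty_equiv_of_eq {p q : Ideal R} [p.IsPrime] [q.IsPrime] (h : p = q) :
    Nonempty (Localization.AtPrime p ≃+* Localization.AtPrime q) := by
  subst h
  exact ⟨RingEquiv.refl _⟩

theorem exists_prime (hinj : Function.Injective (algebraMap R S)) (x : R)
    (h : ∀ s : S, ∃ (n : ℕ) (r : R), algebraMap R S r = algebraMap R S x ^ n * s)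
    (P : Ideal R) [P.IsPrime] (hx : x ∉ P) :
    ∃ (Q : Ideal S) (_ : Q.IsPrime), Q.comap (algebraMap R S) = P ∧
      Nonempty (Localization.AtPrime P ≃+* Localization.AtPrime Q) := by
  let Sx := Localization.Away (algebraMap R S x)
  have hloc : IsLocalization.Away x Sx := isLocalization_away hinj x h Sx
  have hdis : Disjoint (Submonoid.powers x : Set R) (P : Set R) := by
    rw [Set.disjoint_left]
    rintro _ ⟨n, rfl⟩ h
    exact hx (Ideal.IsPrime.mem_of_pow_mem ‹_› n h)
  let Q' : Ideal Sx := P.map (algebraMap R Sx)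
  have hQ' : Q'.IsPrime := IsLocalization.isPrime_of_isPrime_disjoint (Submonoid.powers x) _ P ‹_›
    hdis
  have hc : Q'.comap (algebraMap R Sx) = P :=
    IsLocalization.under_map_of_isPrime_disjoint (Submonoid.powers x) _ ‹_› hdis
  have h1 := IsLocalization.isLocalization_isLocalization_atPrime_isLocalization
    (Submonoid.powers x) (Localization.AtPrime Q') Q'
  have h2 := IsLocalization.isLocalization_isLocalization_atPrime_isLocalization
    (Submonoid.powers (algebraMap R S x)) (Localization.AtPrime Q') Q'
  refine ⟨Q'.comap (algebraMap S Sx), inferInstance, ?_, ?_⟩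
  · rw [Ideal.comap_comap, ← IsScalarTower.algebraMap_eq, hc]
  · have e1 : Localization.AtPrime (Q'.comap (algebraMap R Sx)) ≃+* Localization.AtPrime Q' :=
      (IsLocalization.algEquiv (Q'.comap (algebraMap R Sx)).primeCompl
        (Localization.AtPrime (Q'.comap (algebraMap R Sx))) (Localization.AtPrime Q')).toRingEquiv
    have e2 : Localization.AtPrime (Q'.comap (algebraMap S Sx)) ≃+* Localization.AtPrime Q' :=
      (IsLocalization.algEquiv (Q'.comap (algebraMap S Sx)).primeCompl
        (Localization.AtPrime (Q'.comap (algebraMap S Sx))) (Localization.AtPrime Q')).toRingEquiv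
    obtain ⟨e3⟩ := nonempty_equiv_of_eq (p := P) (q := Q'.comap (algebraMap R Sx)) hc.symm
    exact ⟨e3.trans (e1.trans e2.symm)⟩

end K830.AwaySub
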