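import Mathlib.NumberTheory.FrobeniusNumber
import Groth.Prelude.Def_AssocGr2

/-!
Filtrations of ideals whose associated graded ring is a domain: the degree-one fraction generating
the twist of degree one is a unit.  Elementary form.
-/

set_option autoImplicit false
universe u

namespace K830.CartOrd

variable {A : Type u} [CommRing A] (𝓕 : FiltBl.IdealFiltration A)

section

variable (hG : ∀ (m n : ℕ) (a b : A), a ∈ 𝓕.F m → b ∈ 𝓕.F n → a * b ∈ 𝓕.F (m + n + 1) →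
    a ∈ 𝓕.F (m + 1) ∨ b ∈ 𝓕.F (n + 1))

include hG

theorem cancel {n : ℕ} {b : A} (hb : b ∈ 𝓕.F n) (hb' : b ∉ 𝓕.F (n + 1)) {a : A} {k : ℕ}
    (h : a * b ∈ 𝓕.F (n + k)) : a ∈ 𝓕.F k := by
  induction k with
  | zero => rw [𝓕.zero_eq]; trivial
  | succ k ih =>
    have h1 : a ∈ 𝓕.F k := ih (𝓕.antitone (Nat.le_succ _) h)
    rcases hG k n a b h1 hb (by rwa [show k + n + 1 = n + (k + 1) by ring]) with h2 | h2
    · exact h2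
    · exact absurd h2 hb'

/-- products of exact orders -/
theorem mul_notMem {m n : ℕ} {a b : A} (ha : a ∈ 𝓕.F m) (ha' : a ∉ 𝓕.F (m + 1)) (hb : b ∈ 𝓕.F n)
    (hb' : b ∉ 𝓕.F (n + 1)) : a * b ∈ 𝓕.F (m + n) ∧ a * b ∉ 𝓕.F (m + n + 1) :=
  ⟨𝓕.mul_le m n (Ideal.mul_mem_mul ha hb), fun h => (hG m n a b ha hb h).elim ha' hb'⟩

/-- The degrees in which the associated graded ring does not vanish. -/
def degs (hne : ∃ a, a ∉ 𝓕.F 1) : AddSubmonoid ℕ where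
  carrier := {n | ∃ a ∈ 𝓕.F n, a ∉ 𝓕.F (n + 1)}
  zero_mem' := by
    obtain ⟨a, ha⟩ := hne
    exact ⟨a, by rw [𝓕.zero_eq]; trivial, ha⟩
  add_mem' := by
    rintro m n ⟨a, ha, ha'⟩ ⟨b, hb, hb'⟩
    exact ⟨a * b, mul_notMem 𝓕 hG ha ha' hb hb'⟩

theorem exists_all_large (hr : ∀ r : ℕ, 2 ≤ r → ∃ n : ℕ, ¬ r ∣ n ∧ ∃ a ∈ 𝓕.F n, a ∉ 𝓕.F (n + 1))
    (hne : ∃ a, a ∉ 𝓕.F 1) :
    ∃ N : ℕ, ∀ n, N ≤ n → ∃ a ∈ 𝓕.F n, a ∉ 𝓕.F (n + 1) := by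
  obtain ⟨N, hN⟩ := Nat.exists_mem_closure_of_ge ((degs 𝓕 hG hne : AddSubmonoid ℕ) : Set ℕ)
  refine ⟨N, fun n hn => ?_⟩
  have h1 : Nat.setGcd ((degs 𝓕 hG hne : AddSubmonoid ℕ) : Set ℕ) = 1 := by
    obtain ⟨m, hm, hm'⟩ := hr 2 le_rfl
    have h0 : Nat.setGcd ((degs 𝓕 hG hne : AddSubmonoid ℕ) : Set ℕ) ∣ m :=
      Nat.setGcd_dvd_of_mem hm'
    by_contra hcon
    have h2 : Nat.setGcd ((degs 𝓕 hG hne : AddSubmonoid ℕ) : Set ℕ) ≠ 0 := by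
      intro h
      rw [h, zero_dvd_iff] at h0
      exact hm (h0 ▸ dvd_zero 2)
    obtain ⟨m', hm1, hm2⟩ := hr (Nat.setGcd ((degs 𝓕 hG hne : AddSubmonoid ℕ) : Set ℕ))
      (by omega)
    exact hm1 (Nat.setGcd_dvd_of_mem hm2)
  have h2 := hN n hn (by rw [h1]; exact one_dvd n)
  rw [AddSubmonoid.closure_eq] at h2
  exact h2

variable [IsDomain A] (Q : ℕ → A → Prop) (hQF : ∀ n a, Q n a → a ∈ 𝓕.F n)
  (hQ' : ∀ n a, Q n a → a ∉ 𝓕.F (n + 1))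
  (hQmul : ∀ m n a b, Q m a → Q n b → Q (m + n) (a * b))
  {j : ℕ} {a0 s0 : A} (ha0 : a0 ∈ 𝓕.F (j + 1)) (hs0 : Q j s0)
  (hgen : ∀ n a s, a ∈ 𝓕.F (n + 1) → Q n s →
    ∃ l c w, c ∈ 𝓕.F l ∧ Q l w ∧ a * w * s0 = c * a0 * s)

include hQF hQ' hQmul ha0 hs0 hgen

theorem pow_gen (ha0' : a0 ∉ 𝓕.F (j + 2)) (k : ℕ) :
    ∀ n a s, a ∈ 𝓕.F (n + k) → Q n s →
      ∃ l c w, c ∈ 𝓕.F l ∧ Q l w ∧ a * w * s0 ^ k = c * a0 ^ k * s := by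
  induction k with
  | zero =>
    intro n a s ha hs
    exact ⟨n, a, s, ha, hs, by ring⟩
  | succ k ih =>
    intro n a s ha hs
    obtain ⟨l, c, w, hc, hw, h⟩ := hgen n a s (𝓕.antitone (by omega) ha) hs
    have h1 : c * a0 * s ∈ 𝓕.F (n + (j + 1 + (l + k))) := by
      rw [← h]
      have := 𝓕.mul_le _ _ (Ideal.mul_mem_mul (𝓕.mul_le _ _ (Ideal.mul_mem_mul ha (hQF l w hw)))
        (hQF j s0 hs0))
      rwa [show n + (k + 1) + l + j = n + (j + 1 + (l + k)) by ring] at this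
    have h2 : c ∈ 𝓕.F (l + k) :=
      cancel 𝓕 hG ha0 ha0' (cancel 𝓕 hG (hQF n s hs) (hQ' n s hs) h1)
    obtain ⟨l', c', w', hc', hw', h'⟩ := ih l c w h2 hw
    refine ⟨l', c', w', hc', hw', ?_⟩
    have hw0 : w ≠ 0 := by
      rintro rfl
      exact hQ' l 0 hw (Ideal.zero_mem _)
    apply mul_right_cancel₀ hw0
    calc a * w' * s0 ^ (k + 1) * w = (a * w * s0) * (w' * s0 ^ k) := by ring
      _ = (c * w' * s0 ^ k) * (a0 * s) := by rw [h]; ring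
      _ = c' * a0 ^ (k + 1) * s * w := by rw [h']; ring

/-- **Main statement.** -/
theorem main
    (hr : ∀ r : ℕ, 2 ≤ r → ∃ n : ℕ, ¬ r ∣ n ∧ ∃ a ∈ 𝓕.F n, a ∉ 𝓕.F (n + 1))
    (hQ1 : Q 0 1) {d : ℕ} (hd : 0 < d) {t : A} (ht : Q d t) :
    a0 ∉ 𝓕.F (j + 2) ∧ ∃ l c w, c ∈ 𝓕.F l ∧ Q l w ∧ t * w * s0 ^ d = c * a0 ^ d := by
  have ha0' : a0 ∉ 𝓕.F (j + 2) := by
    obtain ⟨N, hN⟩ := exists_all_large 𝓕 hG hr ⟨1, hQ' 0 1 hQ1⟩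
    have hpow : ∀ k : ℕ, Q (k * d) (t ^ k) := by
      intro k
      induction k with
      | zero => simpa using hQ1
      | succ k ih =>
        rw [pow_succ, add_mul, one_mul]
        exact hQmul _ _ _ _ ih ht
    intro hcon
    obtain ⟨y, hy, hy'⟩ := hN (N * d + 1) (by nlinarith)
    obtain ⟨l, c, w, hc, hw, h⟩ := hgen (N * d) y (t ^ N) hy (hpow N)
    have h1 := mul_notMem 𝓕 hG (mul_notMem 𝓕 hG hy hy' (hQF _ _ hw) (hQ' _ _ hw)).1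
      (mul_notMem 𝓕 hG hy hy' (hQF _ _ hw) (hQ' _ _ hw)).2 (hQF _ _ hs0) (hQ' _ _ hs0)
    apply h1.2
    rw [h]
    have := 𝓕.mul_le _ _ (Ideal.mul_mem_mul (𝓕.mul_le _ _ (Ideal.mul_mem_mul hc hcon))
      (hQF _ _ (hpow N)))
    rwa [show l + (j + 2) + N * d = N * d + 1 + l + j + 1 by ring] at this
  refine ⟨ha0', ?_⟩
  obtain ⟨l, c, w, hc, hw, h⟩ := pow_gen 𝓕 hG Q hQF hQ' hQmul ha0 hs0 hgen ha0' d 0 t 1
    (by rw [Nat.zero_add]; exact hQF d t ht) hQ1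
  exact ⟨l, c, w, hc, hw, by rw [h, mul_one]⟩

end

end K830.CartOrd
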