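import Groth.Agent.FiltBl.K830.HomLoc
import Groth.Agent.Ega4C.SkFlat
import Groth.Agent.Ega4B.SkLocal
import Groth.Agent.Fdesc.BCChart
import Groth.Agent.Grpsch.CMFibre
import Groth.Agent.CalgA.SerreLocal
import Mathlib.AlgebraicGeometry.ProjectiveSpectrum.Basic
import Mathlib.AlgebraicGeometry.Cover.Open

/-!
Local rings of `Proj`: normality, depth conditions.
-/

set_option autoImplicit false
universe u

open IsLocalRing DirectSum AlgebraicGeometry HomogeneousLocalization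

namespace K830.ProjStalk

open K830.CycPure K830.HomLoc

variable {A : Type u} [CommRing A] (𝒜 : ℕ → AddSubgroup A) [GradedRing 𝒜]

theorem isPrime_pt (x : Proj 𝒜) : x.asHomogeneousIdeal.toIdeal.IsPrime :=
  ProjectiveSpectrum.isPrime x

attribute [local instance] isPrime_pt

theorem exists_form (x : Proj 𝒜) :
    ∃ (d : ℕ) (f : A), 0 < d ∧ f ∈ 𝒜 d ∧ f ∉ x.asHomogeneousIdeal.toIdeal := by
  have h := x.not_irrelevant_le
  obtain ⟨a, ha, hax⟩ := Set.not_subset.mp h
  have ha0 : (GradedRing.proj 𝒜 0) a = 0 := (HomogeneousIdeal.mem_irrelevant_iff 𝒜 a).mp ha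
  obtain ⟨m, hm⟩ := exists_decompose_notMem 𝒜 (p := x.asHomogeneousIdeal.toIdeal) hax
  refine ⟨m, decompose 𝒜 a m, Nat.pos_of_ne_zero ?_, SetLike.coe_mem _, hm⟩
  rintro rfl
  apply hm
  rw [GradedRing.proj_apply] at ha0
  rw [ha0]
  exact Ideal.zero_mem _

theorem radical_map (x : Proj 𝒜) :
    ((maximalIdeal (AtPrime 𝒜 x.asHomogeneousIdeal.toIdeal)).map
      (algebraMap (AtPrime 𝒜 x.asHomogeneousIdeal.toIdeal)
        (Localization.AtPrime x.asHomogeneousIdeal.toIdeal))).radical =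
      maximalIdeal (Localization.AtPrime x.asHomogeneousIdeal.toIdeal) := by
  obtain ⟨d, f, hd, hf, hfp⟩ := exists_form 𝒜 x
  exact radical_map_maximalIdeal 𝒜 _ x.asHomogeneousIdeal.isHomogeneous hd hf hfp

noncomputable def stalkEquiv (x : Proj 𝒜) :
    (Proj 𝒜).presheaf.stalk x ≃+* AtPrime 𝒜 x.asHomogeneousIdeal.toIdeal :=
  (Proj.stalkIso 𝒜 x).commRingCatIsoToRingEquiv

open Groth.Agent.Ega4C.SkFlat in
theorem minLe_stalk [IsNoetherianRing A] (k : ℕ) (x : Proj 𝒜)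
    (h : MinLe k (Localization.AtPrime x.asHomogeneousIdeal.toIdeal)) :
    MinLe k ((Proj 𝒜).presheaf.stalk x) := by
  rw [minLe_congr k (stalkEquiv 𝒜 x)]
  exact min_le_depth _ (cp 𝒜 _) (radical_map 𝒜 x) k h

open Groth.Agent.Ega4C.SkFlat in
/-- `(S_k)` for a graded ring implies `(S_k)` for the local rings of `Proj`. -/
theorem hasSk_stalk [IsNoetherianRing A] (k : ℕ) (hA : LocCoh.HasSk k A A) (x : Proj 𝒜) :
    LocCoh.HasSk k ((Proj 𝒜).presheaf.stalk x) ((Proj 𝒜).presheaf.stalk x) := by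
  have hall : ∀ y : Proj 𝒜, MinLe k ((Proj 𝒜).presheaf.stalk y) := fun y =>
    minLe_stalk 𝒜 k y ((hasSk_iff' k).mp hA _)
  obtain ⟨i, q, hq⟩ := (Proj 𝒜).affineCover.exists_eq x
  obtain ⟨B, hB, j, hj, q, hq⟩ : ∃ (B : Type u) (_ : CommRing B)
      (j : Spec (CommRingCat.of B) ⟶ Proj 𝒜) (_ : IsOpenImmersion j) (q : PrimeSpectrum B),
      j.base q = x :=
    ⟨_, inferInstance, (Proj 𝒜).affineCover.f i, (Proj 𝒜).affineCover.map_prop i, q, hq⟩
  subst hq
  have hSB : LocCoh.HasSk k B B := by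
    rw [hasSk_iff']
    intro p hp
    obtain ⟨e⟩ := Groth.Agent.Fdesc.BCChart.nonempty_stalkEquiv j ⟨p, hp⟩
    exact (minLe_congr k e).mp (hall _)
  obtain ⟨e⟩ := Groth.Agent.Fdesc.BCChart.nonempty_stalkEquiv j q
  exact Groth.Agent.Ega4B.SkLocal.hasSk_of_ringEquiv k e.symm
    (Groth.Agent.CalgA.SerreLocal.hasSk_localization hSB q.asIdeal)

/-- Local rings of `Proj` of a Cohen–Macaulay graded ring are Cohen–Macaulay. -/
theorem isCohenMacaulayLocalRing_stalk [LocCoh.IsCohenMacaulayRing A] (x : Proj 𝒜) :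
    LocCoh.IsCohenMacaulayLocalRing ((Proj 𝒜).presheaf.stalk x) := by
  have hcm := LocCoh.IsCohenMacaulayRing.isCohenMacaulayLocalRing_localization
    x.asHomogeneousIdeal.toIdeal
  have hcp := cp 𝒜 x.asHomogeneousIdeal.toIdeal
  have hrad := radical_map 𝒜 x
  have hnoe := hcp.isNoetherianRing
  have hcmL : LocCoh.IsCohenMacaulayLocalRing (AtPrime 𝒜 x.asHomogeneousIdeal.toIdeal) := by
    refine { supportDim_eq_depth := ?_ }
    have h1 := hcm.supportDim_eq_depth
    rw [Module.supportDim_self_eq_ringKrullDim] at h1 ⊢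
    refine le_antisymm ?_ ?_
    · calc ringKrullDim (AtPrime 𝒜 x.asHomogeneousIdeal.toIdeal)
          ≤ ringKrullDim (Localization.AtPrime x.asHomogeneousIdeal.toIdeal) :=
            ringKrullDim_le _ hcp hrad
        _ ≤ _ := by
            rw [h1]
            exact WithBot.coe_le_coe.mpr (depth_le _ hcp hrad)
    · exact Groth.Agent.Ega4C.FlatLocal.depth_le_ringKrullDim _
  exact Groth.Agent.Grpsch.CMFibre.isCohenMacaulayLocalRing_of_ringEquiv
    (stalkEquiv 𝒜 x).symm hcmL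

theorem normal_stalk 
    (hA : ∀ (p : Ideal A) [p.IsPrime], IsDomain (Localization.AtPrime p) ∧
      IsIntegrallyClosed (Localization.AtPrime p))
    (x : Proj 𝒜) :
    IsDomain ((Proj 𝒜).presheaf.stalk x) ∧ IsIntegrallyClosed ((Proj 𝒜).presheaf.stalk x) := by
  obtain ⟨h1, h2⟩ := hA x.asHomogeneousIdeal.toIdeal
  have hcp := cp 𝒜 x.asHomogeneousIdeal.toIdeal
  have h3 := hcp.isDomain
  have h4 := hcp.isIntegrallyClosed
  exact ⟨(stalkEquiv 𝒜 x).toMulEquiv.isDomain _, IsIntegrallyClosed.of_equiv (stalkEquiv 𝒜 x).symm⟩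

end K830.ProjStalk
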