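import Groth.Agent.Smoothlim.LineSec
import Groth.Prelude.Def_GrTwist

/-!
The fibre of an invertible twisting sheaf at a point of `Proj`.
-/

set_option autoImplicit false
universe u

open CategoryTheory AlgebraicGeometry TopologicalSpace Opposite TopCat

namespace K830.TwistGen

variable {A σ : Type u} [CommRing A] [SetLike σ A] [AddSubgroupClass σ A] (𝒜 : ℕ → σ) [GradedRing 𝒜]

/-- The section `a / s` over an open set on which `s` does not vanish. -/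
noncomputable def frac (n : ℤ) {i j : ℕ} (hij : (i : ℤ) = j + n) (a : 𝒜 i) (s : 𝒜 j)
    (W : Opens (ProjectiveSpectrum.top 𝒜))
    (hW : ∀ y : W, (s : A) ∉ (y.1 : ProjectiveSpectrum 𝒜).asHomogeneousIdeal) :
    GrTwist.sectN (𝒜 := 𝒜) n (op W) :=
  ⟨fun y => ⟨Localization.mk (a : A) ⟨s, hW y⟩,
    Submodule.subset_span ⟨i, j, a, s, hW y, hij, rfl⟩⟩,
   fun y => ⟨W, y.2, 𝟙 _, i, j, a, s, hW, Or.inl hij, fun _ => rfl⟩⟩

theorem exists_gen (n : ℤ) (hL : PicF.IsInvertible (GrTwist.twist 𝒜 n)) (x : Proj 𝒜) :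
    ∃ e : GrTwist.Loc 𝒜 x,
      (∃ (i j : ℕ) (a : 𝒜 i) (s : 𝒜 j) (hs : (s : A) ∉ x.asHomogeneousIdeal),
        ((i : ℤ) = j + n ∨ (a : A) = 0) ∧ e = Localization.mk (a : A) ⟨s, hs⟩) ∧
      ∀ (i j : ℕ) (a : 𝒜 i) (s : 𝒜 j) (hs : (s : A) ∉ x.asHomogeneousIdeal),
        (i : ℤ) = j + n → ∃ c : GrTwist.A0 𝒜 x, Localization.mk (a : A) ⟨s, hs⟩ = c.val * e := by
  obtain ⟨U, e, hxU, he⟩ := Groth.Agent.Smoothlim.LineSec.exists_gen hL x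
  refine ⟨GrTwist.val e ⟨x, hxU⟩, ?_, ?_⟩
  · obtain ⟨V, hxV, iV, i, j, a, s, nin, hij, hv⟩ :=
      (e : GrTwist.sectN (𝒜 := 𝒜) n (op U)).2 ⟨x, hxU⟩
    exact ⟨i, j, a, s, nin ⟨x, hxV⟩, hij, hv ⟨x, hxV⟩⟩
  · intro i j a s hs hij
    let W : Opens (ProjectiveSpectrum.top 𝒜) := U ⊓ ProjectiveSpectrum.basicOpen 𝒜 (s : A)
    have hWU : (W : (Proj 𝒜).Opens) ≤ U := inf_le_left
    have hxW : x ∈ W := ⟨hxU, hs⟩
    let t := frac 𝒜 n hij a s W (fun y => y.2.2)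
    obtain ⟨c, hc⟩ := (he W hWU).2 (t : Γ(GrTwist.twist 𝒜 n, W))
    refine ⟨(c : GrTwist.O (𝒜 := 𝒜) (op W)).1 ⟨x, hxW⟩, ?_⟩
    have h1 := congrArg (fun t : Γ(GrTwist.twist 𝒜 n, W) => GrTwist.val t ⟨x, hxW⟩) hc
    dsimp only at h1
    refine Eq.trans ?_ (h1.symm.trans ?_)
    · rfl
    · exact GrTwist.coe_smul_val n x _ _

end K830.TwistGen
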