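import Groth.Agent.FiltBl.K830.LaurNorm
import Groth.Agent.FiltBl.K830.TwistGen
import Groth.Agent.FiltBl.K830.CartOrd
import Groth.Agent.FiltBl.K830.ProjStalk
import Groth.Agent.FiltBl.K830.GrField
import Groth.Prelude.Def_AssocGr2

/-!
Invertibility of the twist of degree one gives homogeneous elements of consecutive degrees of the
associated graded ring outside every relevant homogeneous prime.
-/

set_option autoImplicit false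
universe u

open Polynomial DirectSum AlgebraicGeometry HomogeneousLocalization

namespace K830.CartNorm

variable {A : Type u} [CommRing A] (𝓕 : FiltBl.IdealFiltration A)

theorem hG [IsDomain (AssocGr.GrRing 𝓕)] (m n : ℕ) (a b : A) (ha : a ∈ 𝓕.F m) (hb : b ∈ 𝓕.F n)
    (hab : a * b ∈ 𝓕.F (m + n + 1)) : a ∈ 𝓕.F (m + 1) ∨ b ∈ 𝓕.F (n + 1) := by
  have h1 := AssocGr.coe_inDeg_mul 𝓕 m n ⟨a, ha⟩ ⟨b, hb⟩
  have h2 := (AssocGr.inDeg_eq_zero_iff 𝓕 (m + n)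
    ⟨a * b, 𝓕.mul_le m n (Ideal.mul_mem_mul ha hb)⟩).mpr hab
  rw [h2, ZeroMemClass.coe_zero] at h1
  rcases mul_eq_zero.mp h1 with h | h
  · left
    exact (AssocGr.inDeg_eq_zero_iff 𝓕 m ⟨a, ha⟩).mp (Subtype.ext h)
  · right
    exact (AssocGr.inDeg_eq_zero_iff 𝓕 n ⟨b, hb⟩).mp (Subtype.ext h)

variable (q : Ideal (AssocGr.GrRing 𝓕)) [hq : q.IsPrime]

/-- `a T ^ n` lies outside the preimage of `q`. -/
def Q (n : ℕ) (a : A) : Prop := ∃ h : a ∈ 𝓕.F n, (AssocGr.inDeg 𝓕 n ⟨a, h⟩ : AssocGr.GrRing 𝓕) ∉ q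

theorem Q_mul_iff {m n : ℕ} {a b : A} (ha : a ∈ 𝓕.F m) (hb : b ∈ 𝓕.F n) :
    Q 𝓕 q (m + n) (a * b) ↔ Q 𝓕 q m a ∧ Q 𝓕 q n b := by
  have h1 := AssocGr.coe_inDeg_mul 𝓕 m n ⟨a, ha⟩ ⟨b, hb⟩
  constructor
  · rintro ⟨h, h2⟩
    rw [← h1] at h2
    exact ⟨⟨ha, fun h3 => h2 (q.mul_mem_right _ h3)⟩, ⟨hb, fun h3 => h2 (q.mul_mem_left _ h3)⟩⟩
  · rintro ⟨⟨_, h2⟩, ⟨_, h3⟩⟩
    refine ⟨𝓕.mul_le m n (Ideal.mul_mem_mul ha hb), ?_⟩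
    rw [← h1]
    exact fun h => (hq.mem_or_mem h).elim h2 h3

theorem Q_pow {n : ℕ} {a : A} (k : ℕ) (hk : 0 < k) (ha : a ∈ 𝓕.F n)
    (h : Q 𝓕 q (k * n) (a ^ k)) : Q 𝓕 q n a := by
  obtain ⟨k, rfl⟩ := Nat.exists_eq_succ_of_ne_zero hk.ne'
  have hp : a ^ k ∈ 𝓕.F (k * n) := by
    clear h hk
    induction k with
    | zero => rw [Nat.zero_mul, 𝓕.zero_eq]; trivial
    | succ k ih =>
      rw [pow_succ, add_mul, one_mul]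
      exact 𝓕.mul_le _ _ (Ideal.mul_mem_mul ih ha)
  rw [Nat.succ_eq_add_one, add_mul, one_mul, pow_succ, Q_mul_iff 𝓕 q hp ha] at h
  exact h.2

theorem Q_one : Q 𝓕 q 0 1 := by
  refine ⟨by rw [𝓕.zero_eq]; trivial, ?_⟩
  rw [← AssocGr.algebraMap_eq, map_one]
  exact fun h => hq.ne_top ((Ideal.eq_top_iff_one q).mpr h)

theorem Q_notMem {n : ℕ} {a : A} (h : Q 𝓕 q n a) : a ∉ 𝓕.F (n + 1) := by
  obtain ⟨h1, h2⟩ := h
  intro h3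
  rw [(AssocGr.inDeg_eq_zero_iff 𝓕 n ⟨a, h1⟩).mpr h3] at h2
  exact h2 q.zero_mem

variable (hhom : q.IsHomogeneous (AssocGr.gr 𝓕))

/-- The point of `Proj` of the Rees algebra. -/
noncomputable def pt (hrel : ∃ (d : ℕ) (t : A), 0 < d ∧ Q 𝓕 q d t) : Proj (Rees.deg 𝓕.rees) where
  asHomogeneousIdeal := ⟨q.comap (AssocGr.mkG 𝓕), by
    intro n f hf
    rw [Ideal.mem_comap, ← AssocGr.coe_decompose_mkG]
    exact hhom n hf⟩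
  isPrime := Ideal.comap_isPrime (AssocGr.mkG 𝓕) q
  not_irrelevant_le := by
    obtain ⟨d, t, hd, ht, ht'⟩ := hrel
    intro h
    have h1 : (AssocGr.monom 𝓕 d ⟨t, ht⟩ : 𝓕.rees) ∈
        HomogeneousIdeal.irrelevant (Rees.deg 𝓕.rees) := by
      rw [HomogeneousIdeal.mem_irrelevant_iff, GradedRing.proj_apply,
        decompose_of_mem_ne _ (AssocGr.monom 𝓕 d ⟨t, ht⟩).2 hd.ne']
    exact ht' (h h1)

theorem exists_monom {n : ℕ} (x : 𝓕.rees) (hx : x ∈ Rees.deg 𝓕.rees n) :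
    ∃ a : 𝓕.F n, x = (AssocGr.monom 𝓕 n a : 𝓕.rees) := by
  obtain ⟨a, ha⟩ := AssocGr.monom_surjective 𝓕 n ⟨x, hx⟩
  exact ⟨a, by rw [ha]⟩

include hhom in
theorem exists_consecutive [IsDomain A] [IsDomain (AssocGr.GrRing 𝓕)]
    (hcart : PicF.IsInvertible (GrTwist.twist (Rees.deg 𝓕.rees) 1))
    (hr : ∀ r : ℕ, 2 ≤ r → ∃ n : ℕ, ¬ r ∣ n ∧ AssocGr.gr 𝓕 n ≠ ⊥)
    (hrel : ∃ (d : ℕ) (t : A), 0 < d ∧ Q 𝓕 q d t) :
    ∃ (j : ℕ) (a s : A), Q 𝓕 q (j + 1) a ∧ Q 𝓕 q j s := by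
  obtain ⟨e, ⟨i, j, a0, s0, hs0, hij, he⟩, hgen⟩ :=
    TwistGen.exists_gen (Rees.deg 𝓕.rees) 1 hcart (pt 𝓕 q hhom hrel)
  have ha0 : (a0 : 𝓕.rees) ∈ Rees.deg 𝓕.rees (j + 1) := by
    rcases hij with h | h
    · have : i = j + 1 := by omega
      exact this ▸ a0.2
    · rw [h]; exact zero_mem _
  obtain ⟨a, ha⟩ := exists_monom 𝓕 _ ha0
  obtain ⟨s, hs⟩ := exists_monom 𝓕 _ s0.2
  have hQs : Q 𝓕 q j s := ⟨s.2, fun h => hs0 (by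
    change AssocGr.mkG 𝓕 (s0 : 𝓕.rees) ∈ q
    rw [hs]
    exact h)⟩
  obtain ⟨d, t, hd, ht⟩ := hrel
  have hgen' : ∀ n a' s', a' ∈ 𝓕.F (n + 1) → Q 𝓕 q n s' →
      ∃ l c w, c ∈ 𝓕.F l ∧ Q 𝓕 q l w ∧ a' * w * s = c * a * s' := by
    rintro n a' s' ha' ⟨hs', hsq'⟩
    obtain ⟨c, hc⟩ := hgen (n + 1) n (AssocGr.monom 𝓕 (n + 1) ⟨a', ha'⟩)
      (AssocGr.monom 𝓕 n ⟨s', hs'⟩) hsq' (by push_cast; rfl)
    obtain ⟨c1, hc1⟩ := exists_monom 𝓕 _ c.num_mem_deg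
    obtain ⟨w1, hw1⟩ := exists_monom 𝓕 _ c.den_mem_deg
    refine ⟨c.deg, c1, w1, c1.2, ⟨w1.2, fun h => c.den_mem ?_⟩, ?_⟩
    · change AssocGr.mkG 𝓕 c.den ∈ q
      rw [hw1]
      exact h
    · rw [he, LaurNorm.val_mk', Localization.mk_mul, LaurNorm.mk_eq_iff] at hc
      have h2 := congrArg (fun z : 𝓕.rees => (z : A[X]).coeff (n + 1 + c.deg + j)) hc
      simp only [Submonoid.coe_mul] at h2
      rw [ha, hs, hc1, hw1] at h2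
      simp only [Subalgebra.coe_mul, AssocGr.coe_coe_monom, monomial_mul_monomial,
        coeff_monomial] at h2
      rw [if_pos (by ring), if_pos (by ring)] at h2
      linear_combination h2
  have key := CartOrd.main 𝓕 (hG 𝓕) (Q 𝓕 q) (fun n a h => h.1) (fun n a h => Q_notMem 𝓕 q h)
    (fun m n a b h1 h2 => (Q_mul_iff 𝓕 q h1.1 h2.1).mpr ⟨h1, h2⟩) a.2 hQs hgen'
    (fun r hr' => by
      obtain ⟨n, hn, hn'⟩ := hr r hr'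
      refine ⟨n, hn, ?_⟩
      obtain ⟨x, hx, hx0⟩ := Submodule.exists_mem_ne_zero_of_ne_bot hn'
      obtain ⟨b, hb⟩ := AssocGr.inDeg_surjective 𝓕 n ⟨x, hx⟩
      refine ⟨b, b.2, fun h => hx0 ?_⟩
      rw [(AssocGr.inDeg_eq_zero_iff 𝓕 n b).mpr h] at hb
      exact (congrArg Subtype.val hb).symm) (Q_one 𝓕 q) hd ht
  obtain ⟨-, l, c, w, hc, hw, h⟩ := key
  refine ⟨j, a, s, ?_, hQs⟩
  have hQpow : ∀ k : ℕ, Q 𝓕 q (k * j) ((s : A) ^ k) := by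
    intro k
    induction k with
    | zero => simpa using Q_one 𝓕 q
    | succ k ih =>
      rw [pow_succ, add_mul, one_mul]
      exact (Q_mul_iff 𝓕 q ih.1 hQs.1).mpr ⟨ih, hQs⟩
  have h3 : Q 𝓕 q (d + l + d * j) (t * w * (s : A) ^ d) :=
    (Q_mul_iff 𝓕 q ((Q_mul_iff 𝓕 q ht.1 hw.1).mpr ⟨ht, hw⟩).1 (hQpow d).1).mpr
      ⟨(Q_mul_iff 𝓕 q ht.1 hw.1).mpr ⟨ht, hw⟩, hQpow d⟩
  rw [h, show d + l + d * j = l + d * (j + 1) by ring] at h3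
  have hapow : ∀ k : ℕ, (a : A) ^ k ∈ 𝓕.F (k * (j + 1)) := by
    intro k
    induction k with
    | zero => rw [Nat.zero_mul, 𝓕.zero_eq]; trivial
    | succ k ih =>
      rw [pow_succ, add_mul, one_mul]
      exact 𝓕.mul_le _ _ (Ideal.mul_mem_mul ih a.2)
  exact Q_pow 𝓕 q d hd a.2 ((Q_mul_iff 𝓕 q hc (hapow d)).mp h3).2

end K830.CartNorm
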