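import Groth.Agent.FiltBl.K830.CartNorm

/-!
Finite length of the normalization quotient of the associated graded ring.
-/

set_option autoImplicit false
universe u

open DirectSum AlgebraicGeometry HomogeneousLocalization

namespace K830.CartNorm2

open K830.CartNorm

variable {A : Type u} [CommRing A] (𝓕 : FiltBl.IdealFiltration A)

theorem F_one_isPrime [IsDomain (AssocGr.GrRing 𝓕)] : (𝓕.F 1).IsPrime := by
  constructor
  · intro h
    have h1 := (AssocGr.inDeg_eq_zero_iff 𝓕 0 ⟨1, by rw [𝓕.zero_eq]; trivial⟩).mpr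
      (by rw [Nat.zero_add, h]; trivial)
    have h2 := AssocGr.algebraMap_eq 𝓕 1
    rw [h1, map_one] at h2
    exact one_ne_zero h2
  · intro a b hab
    exact hG 𝓕 0 0 a b (by rw [𝓕.zero_eq]; trivial) (by rw [𝓕.zero_eq]; trivial) (by simpa using hab)

theorem isMaximal_irrelevant [IsLocalRing A] [IsDomain (AssocGr.GrRing 𝓕)]
    (hF : 𝓕.F 1 = IsLocalRing.maximalIdeal A) :
    (HomogeneousIdeal.irrelevant (AssocGr.gr 𝓕)).toIdeal.IsMaximal := by
  have hunit : ∀ x ∈ AssocGr.gr 𝓕 0, x ≠ 0 → IsUnit x := by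
    intro x hx hne
    obtain ⟨a, ha⟩ := AssocGr.inDeg_surjective 𝓕 0 ⟨x, hx⟩
    have h1 : x = algebraMap A _ (a : A) := by
      rw [AssocGr.algebraMap_eq]
      exact (congrArg Subtype.val ha).symm
    rw [h1]
    apply IsUnit.map
    by_contra hcon
    apply hne
    have h2 : (a : A) ∈ 𝓕.F (0 + 1) := by
      rw [Nat.zero_add, hF]
      exact (IsLocalRing.mem_maximalIdeal _).mpr hcon
    rw [(AssocGr.inDeg_eq_zero_iff 𝓕 0 a).mpr h2] at ha
    exact (congrArg Subtype.val ha).symm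
  constructor
  constructor
  · intro h
    have h1 : (1 : AssocGr.GrRing 𝓕) ∈ (HomogeneousIdeal.irrelevant (AssocGr.gr 𝓕)).toIdeal := by
      rw [h]; trivial
    change (1 : AssocGr.GrRing 𝓕) ∈ HomogeneousIdeal.irrelevant (AssocGr.gr 𝓕) at h1
    rw [HomogeneousIdeal.mem_irrelevant_iff, GradedRing.proj_apply,
      DirectSum.decompose_of_mem_same (AssocGr.gr 𝓕) SetLike.GradedOne.one_mem] at h1
    exact one_ne_zero h1
  · intro J hJ
    obtain ⟨hle, x, hxJ, hx⟩ := SetLike.lt_iff_le_and_exists.mp hJ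
    have hx0 : GradedRing.proj (AssocGr.gr 𝓕) 0 x ≠ 0 := by
      intro h
      exact hx ((HomogeneousIdeal.mem_irrelevant_iff (AssocGr.gr 𝓕) x).mpr h)
    have h1 : x - GradedRing.proj (AssocGr.gr 𝓕) 0 x ∈ J := by
      apply hle
      change _ ∈ HomogeneousIdeal.irrelevant (AssocGr.gr 𝓕)
      rw [HomogeneousIdeal.mem_irrelevant_iff, map_sub]
      simp [GradedRing.proj_apply]
    have h2 : GradedRing.proj (AssocGr.gr 𝓕) 0 x ∈ J := by
      have := J.sub_mem hxJ h1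
      simpa using this
    exact Ideal.eq_top_of_isUnit_mem _ h2
      (hunit _ (by rw [GradedRing.proj_apply]; exact SetLike.coe_mem _) hx0)

theorem normal_of_not_le [IsDomain A] [IsDomain (AssocGr.GrRing 𝓕)]
    (hr : ∀ r : ℕ, 2 ≤ r → ∃ n : ℕ, ¬ r ∣ n ∧ AssocGr.gr 𝓕 n ≠ ⊥)
    (hcart : PicF.IsInvertible (GrTwist.twist (Rees.deg 𝓕.rees) 1))
    (hnor : ∀ x : Proj (AssocGr.gr 𝓕),
      IsIntegrallyClosed ((Proj (AssocGr.gr 𝓕)).presheaf.stalk x))
    (p : Ideal (AssocGr.GrRing 𝓕)) [hp : p.IsPrime]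
    (hle : ¬ (HomogeneousIdeal.irrelevant (AssocGr.gr 𝓕)).toIdeal ≤ p) :
    IsIntegrallyClosed (Localization.AtPrime p) := by
  classical
  let q : HomogeneousIdeal (AssocGr.gr 𝓕) := p.homogeneousCore (AssocGr.gr 𝓕)
  have hq : q.toIdeal.IsPrime := hp.homogeneousCore
  have hle' : ¬ (HomogeneousIdeal.irrelevant (AssocGr.gr 𝓕)).toIdeal ≤ q.toIdeal := fun h =>
    hle (h.trans (Ideal.toIdeal_homogeneousCore_le _ p))
  let x : Proj (AssocGr.gr 𝓕) := ⟨q, hq, hle'⟩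
  have hx := hnor x
  have hnq : IsIntegrallyClosed (AtPrime (AssocGr.gr 𝓕) q.toIdeal) :=
    IsIntegrallyClosed.of_equiv (Proj.stalkIso (AssocGr.gr 𝓕) x).commRingCatIsoToRingEquiv
  have hrel : ∃ (d : ℕ) (t : A), 0 < d ∧ Q 𝓕 q.toIdeal d t := by
    obtain ⟨a, ha, hax⟩ := Set.not_subset.mp hle'
    have ha0 : (GradedRing.proj (AssocGr.gr 𝓕) 0) a = 0 :=
      (HomogeneousIdeal.mem_irrelevant_iff (AssocGr.gr 𝓕) a).mp ha
    obtain ⟨m, hm⟩ := HomLoc.exists_decompose_notMem (AssocGr.gr 𝓕) (p := q.toIdeal) hax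
    obtain ⟨t, ht⟩ := AssocGr.inDeg_surjective 𝓕 m (decompose (AssocGr.gr 𝓕) a m)
    refine ⟨m, t, Nat.pos_of_ne_zero ?_, t.2, ?_⟩
    · rintro rfl
      apply hm
      rw [GradedRing.proj_apply] at ha0
      rw [ha0]
      exact Ideal.zero_mem _
    · rw [← ht] at hm
      exact hm
  obtain ⟨j, a, s, ⟨ha, hga⟩, ⟨hs, hhs⟩⟩ :=
    exists_consecutive 𝓕 q.toIdeal q.isHomogeneous hcart hr hrel
  refine LaurNorm.main (AssocGr.gr 𝓕) q.toIdeal p ?_ (AssocGr.inDeg 𝓕 (j + 1) ⟨a, ha⟩).2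
    (AssocGr.inDeg 𝓕 j ⟨s, hs⟩).2 hhs hga
  intro i b hb hbq hbp
  exact hbq (Ideal.mem_homogeneousCore_of_homogeneous_of_mem ⟨i, hb⟩ hbp)

theorem main [IsNoetherianRing A] [IsLocalRing A] (hfg : Algebra.FiniteType A 𝓕.rees)
    [IsDomain A] [IsDomain (AssocGr.GrRing 𝓕)]
    (hI : (𝓕.F 1).radical = IsLocalRing.maximalIdeal A)
    (hr : ∀ r : ℕ, 2 ≤ r → ∃ n : ℕ, ¬ r ∣ n ∧ AssocGr.gr 𝓕 n ≠ ⊥)
    (hcart : PicF.IsInvertible (GrTwist.twist (Rees.deg 𝓕.rees) 1))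
    (hnor : ∀ x : Proj (AssocGr.gr 𝓕),
      IsIntegrallyClosed ((Proj (AssocGr.gr 𝓕)).presheaf.stalk x))
    (L : Type u) [Field L] [Algebra (AssocGr.GrRing 𝓕) L] [IsFractionRing (AssocGr.GrRing 𝓕) L] :
    IsFiniteLength (AssocGr.GrRing 𝓕) (NormFin.QQ (AssocGr.GrRing 𝓕) L) := by
  have hF : 𝓕.F 1 = IsLocalRing.maximalIdeal A := by
    rw [← hI]
    exact (F_one_isPrime 𝓕).isRadical.radical.symm
  have hftG : Algebra.FiniteType A (AssocGr.GrRing 𝓕) :=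
    Algebra.FiniteType.of_surjective (AssocGr.mkG 𝓕) (AssocGr.mkG_surjective 𝓕)
  have hnoe : IsNoetherianRing (AssocGr.GrRing 𝓕) := Algebra.FiniteType.isNoetherianRing A _
  have hmax := isMaximal_irrelevant 𝓕 hF
  have hmaxF : (𝓕.F 1).IsMaximal := by rw [hF]; infer_instance
  let _ : Field (A ⧸ 𝓕.F 1) := Ideal.Quotient.field _
  have hker : ∀ a ∈ 𝓕.F 1, algebraMap A (AssocGr.GrRing 𝓕) a = 0 := by
    intro a ha
    rw [AssocGr.algebraMap_eq, (AssocGr.inDeg_eq_zero_iff 𝓕 0 _).mpr (by simpa using ha)]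
    rfl
  let _ : Algebra (A ⧸ 𝓕.F 1) (AssocGr.GrRing 𝓕) :=
    (Ideal.Quotient.lift (𝓕.F 1) (algebraMap A (AssocGr.GrRing 𝓕)) hker).toAlgebra
  have : IsScalarTower A (A ⧸ 𝓕.F 1) (AssocGr.GrRing 𝓕) :=
    IsScalarTower.of_algebraMap_eq fun a => rfl
  have hft : Algebra.FiniteType (A ⧸ 𝓕.F 1) (AssocGr.GrRing 𝓕) :=
    Algebra.FiniteType.of_restrictScalars_finiteType A _ _
  have hfin := GrField.finite_integralClosure (A ⧸ 𝓕.F 1) (AssocGr.GrRing 𝓕) L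
  refine NormFin.isFiniteLength_of_normal L fun p hp => ?_
  by_cases hle : (HomogeneousIdeal.irrelevant (AssocGr.gr 𝓕)).toIdeal ≤ p
  · right
    rw [← hmax.eq_of_le hp.ne_top hle]
    exact hmax
  · exact Or.inl (normal_of_not_le 𝓕 hr hcart hnor p hle)

end K830.CartNorm2
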