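import Groth.Agent.Ega4B.DepthBasic
import Groth.Agent.UnramA.FlatDim0
import Mathlib.RingTheory.IntegralClosure.IntegrallyClosed

/-!
Cyclically pure local homomorphisms `L → E` with `√(m_L E) = m_E`: depth and dimension.
-/

set_option autoImplicit false
universe u

open IsLocalRing RingTheory.Sequence

namespace K830.CycPure

section CP

variable (L E : Type u) [CommRing L] [CommRing E] [Algebra L E]

/-- Every ideal of `L` is contracted from `E`. -/
def CP : Prop := ∀ I : Ideal L, (I.map (algebraMap L E)).comap (algebraMap L E) ≤ I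

variable {L E}

theorem CP.comap_map (h : CP L E) (I : Ideal L) :
    (I.map (algebraMap L E)).comap (algebraMap L E) = I :=
  le_antisymm (h I) Ideal.le_comap_map

theorem CP.injective (h : CP L E) : Function.Injective (algebraMap L E) := by
  rw [injective_iff_map_eq_zero]
  intro a ha
  have := h ⊥ (show a ∈ _ by
    rw [Ideal.mem_comap, ha]; exact zero_mem _)
  simpa using this

theorem CP.isNoetherianRing (h : CP L E) [IsNoetherianRing E] : IsNoetherianRing L := by
  have hmono : StrictMono (fun I : Ideal L => I.map (algebraMap L E)) := by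
    intro I J hIJ
    refine lt_of_le_of_ne (Ideal.map_mono hIJ.le) fun heq => hIJ.ne ?_
    have heq' : I.map (algebraMap L E) = J.map (algebraMap L E) := heq
    rw [← h.comap_map I, ← h.comap_map J, heq']
  have : WellFoundedGT (Ideal L) := hmono.wellFoundedGT
  exact isNoetherianRing_iff.mpr (isNoetherian_iff.mpr this.wf)

theorem CP.isDomain (h : CP L E) [IsDomain E] : IsDomain L :=
  h.injective.isDomain (algebraMap L E)

theorem CP.isIntegrallyClosed (h : CP L E) [IsDomain E] [IsIntegrallyClosed E] :
    IsIntegrallyClosed L := by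
  have := h.isDomain
  rw [isIntegrallyClosed_iff (FractionRing L)]
  intro x hx
  obtain ⟨a, b, hb, rfl⟩ := IsFractionRing.div_surjective (A := L) x
  let ι : FractionRing L →+* FractionRing E :=
    IsFractionRing.map (A := L) (B := E) (K := FractionRing L) (L := FractionRing E)
      (j := algebraMap L E) h.injective
  have hι : ∀ s : L, ι (algebraMap L _ s) = algebraMap E _ (algebraMap L E s) := fun s => by
    simp only [ι, IsFractionRing.map]
    exact IsLocalization.map_eq _ s
  have hcomp : (algebraMap E (FractionRing E)).comp (algebraMap L E) =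
      ι.comp (algebraMap L (FractionRing L)) := RingHom.ext fun s => (hι s).symm
  have hxE : IsIntegral E (ι (algebraMap L _ a / algebraMap L _ b)) := by
    obtain ⟨f, hf, hfx⟩ := hx
    refine ⟨f.map (algebraMap L E), hf.map _, ?_⟩
    rw [Polynomial.eval₂_map, hcomp, ← Polynomial.hom_eval₂, hfx, map_zero]
  obtain ⟨e, he⟩ := IsIntegrallyClosed.isIntegral_iff.mp hxE
  have hb0 : b ≠ 0 := nonZeroDivisors.ne_zero hb
  have hbE : algebraMap E (FractionRing E) (algebraMap L E b) ≠ 0 := by
    rw [← hι]
    intro h0
    exact hb0 (IsFractionRing.injective L (FractionRing L)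
      (by rw [map_zero]; exact (map_eq_zero_iff ι ι.injective).mp h0))
  have hab : algebraMap L E a = algebraMap L E b * e := by
    apply IsFractionRing.injective E (FractionRing E)
    rw [map_mul, he, map_div₀, hι, hι, mul_div_cancel₀ _ hbE]
  have hmem : a ∈ Ideal.span {b} := by
    refine h _ ?_
    rw [Ideal.mem_comap, hab, Ideal.map_span, Set.image_singleton]
    exact Ideal.mul_mem_right _ _ (Ideal.mem_span_singleton_self _)
  obtain ⟨c, rfl⟩ := Ideal.mem_span_singleton.mp hmem
  refine ⟨c, ?_⟩
  have hbL : algebraMap L (FractionRing L) b ≠ 0 :=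
    fun h0 => hb0 (IsFractionRing.injective L (FractionRing L) (by rw [map_zero]; exact h0))
  rw [map_mul, mul_div_cancel_left₀ _ hbL]

/-- Weakly regular sequences on `E` in `L` are weakly regular on `L`. -/
theorem CP.isWeaklyRegular (h : CP L E) {rs : List L} (hrs : IsWeaklyRegular E rs) :
    IsWeaklyRegular L rs := by
  refine ⟨fun i hi => ?_⟩
  have h1 := hrs.regular_mod_prev i hi
  set I := Ideal.ofList (rs.take i) with hI
  have hle : (I • ⊤ : Submodule L L) ≤ (I • ⊤ : Submodule L E).comap (Algebra.linearMap L E) := by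
    intro x hx
    rw [Submodule.mem_comap, Ideal.smul_top_eq_map]
    have hx' : x ∈ I := by simpa using hx
    exact Ideal.mem_map_of_mem _ hx'
  refine IsSMulRegular.of_injective (Submodule.mapQ (I • ⊤ : Submodule L L)
    (I • ⊤ : Submodule L E) (Algebra.linearMap L E) hle) ?_ h1
  rw [← LinearMap.ker_eq_bot, LinearMap.ker_eq_bot']
  intro x
  obtain ⟨x, rfl⟩ := Submodule.mkQ_surjective _ x
  intro hx
  rw [Submodule.mkQ_apply, Submodule.mapQ_apply, Submodule.Quotient.mk_eq_zero,
    Ideal.smul_top_eq_map] at hx
  have hx2 : algebraMap L E x ∈ I.map (algebraMap L E) := hx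
  have hx3 : x ∈ I := h I hx2
  rw [Submodule.mkQ_apply, Submodule.Quotient.mk_eq_zero]
  simpa using hx3

end CP

end K830.CycPure
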