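import Groth.Agent.FiltBl.K830.CycPure
import Mathlib.RingTheory.Ideal.KrullsHeightTheorem
import Mathlib.RingTheory.KrullDimension.Regular

/-!
Depth and dimension for cyclically pure `L → E` with `√(m_L E) = m_E`.
-/

set_option autoImplicit false
universe u

open IsLocalRing RingTheory.Sequence

namespace K830.CycPure

section Local

variable (L E : Type u) [CommRing L] [IsLocalRing L] [CommRing E] [IsLocalRing E]
  [IsNoetherianRing E] [Algebra L E]

variable {E}

omit [IsNoetherianRing E] in
theorem exists_notMem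
    (hrad : ((maximalIdeal L).map (algebraMap L E)).radical = maximalIdeal E)
    {s : Set (Ideal E)} (hs : s.Finite)
    (hp : ∀ q ∈ s, q.IsPrime ∧ q ≠ maximalIdeal E) :
    ∃ x ∈ maximalIdeal L, ∀ q ∈ s, algebraMap L E x ∉ q := by
  by_contra hcon
  push Not at hcon
  have h1 : (maximalIdeal L : Set L) ⊆ ⋃ q ∈ s, (q.comap (algebraMap L E) : Set L) := by
    intro x hx
    obtain ⟨q, hq, hxq⟩ := hcon x hx
    exact Set.mem_biUnion hq hxq
  rw [Ideal.subset_union_prime_finite hs ⊥ ⊥] at h1
  · obtain ⟨q, hq, hle⟩ := h1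
    obtain ⟨hqp, hqne⟩ := hp q hq
    apply hqne
    have h2 : (maximalIdeal L).map (algebraMap L E) ≤ q := Ideal.map_le_iff_le_comap.mpr hle
    have h3 : maximalIdeal E ≤ q := by
      rw [← hrad]
      exact hqp.radical_le_iff.mpr h2
    exact ((maximalIdeal.isMaximal E).eq_of_le hqp.ne_top h3).symm
  · intro q hq _ _
    have := (hp q hq).1
    exact Ideal.IsPrime.comap _

theorem exists_isWeaklyRegular
    (hrad : ((maximalIdeal L).map (algebraMap L E)).radical = maximalIdeal E) (n : ℕ) :
    ∀ (M : Type u) [AddCommGroup M] [Module E M] [Module.Finite E M],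
      (n : ℕ∞) ≤ LocCoh.depth E M → ∃ rs : List L, rs.length = n ∧
        (∀ r ∈ rs, r ∈ maximalIdeal L) ∧ IsWeaklyRegular M (rs.map (algebraMap L E)) := by
  induction n with
  | zero => exact fun M _ _ _ _ => ⟨[], rfl, by simp, by simp⟩
  | succ n ih =>
    intro M _ _ _ hn
    have hd0 : LocCoh.depth E M ≠ 0 := by
      intro h0
      rw [h0] at hn
      simp at hn
    have hm := (Groth.Agent.UnramA.FlatDim0.depth_ne_zero_iff M).mp hd0
    obtain ⟨x, hx, hxs⟩ := exists_notMem L hrad (associatedPrimes.finite E M) (by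
      intro q hq
      refine ⟨hq.isPrime, ?_⟩
      rintro rfl
      obtain ⟨m, hm'⟩ := ((isAssociatedPrime_iff_exists_injective_linearMap _ _).mp hq).2
      have hinj := hm'
      have h1 : m (Ideal.Quotient.mk _ 1) = 0 := by
        refine hm _ fun a ha => ?_
        rw [← map_smul]
        have : a • (Ideal.Quotient.mk (maximalIdeal E) 1) = 0 := by
          rw [← Ideal.Quotient.mk_eq_mk, ← Submodule.Quotient.mk_smul, smul_eq_mul, mul_one]
          exact (Submodule.Quotient.mk_eq_zero _).mpr ha
        rw [this, map_zero]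
      have h2 : Ideal.Quotient.mk (maximalIdeal E) 1 = 0 := hinj (by rw [h1, map_zero])
      rw [Ideal.Quotient.eq_zero_iff_mem] at h2
      exact (maximalIdeal.isMaximal E).ne_top ((Ideal.eq_top_iff_one _).mpr h2))
    have hreg : IsSMulRegular M (algebraMap L E x) := by
      have h3 : algebraMap L E x ∉ ⋃ p ∈ associatedPrimes E M, (p : Set E) := by
        simp only [Set.mem_iUnion, not_exists]
        exact fun p hp => hxs p hp
      rw [biUnion_associatedPrimes_eq_compl_regular E M] at h3
      simpa using h3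
    have hxE : algebraMap L E x ∈ maximalIdeal E := by
      rw [← hrad]
      exact Ideal.le_radical (Ideal.mem_map_of_mem _ hx)
    have hdepth := Groth.Agent.Ega4B.DepthBasic.depth_quotSMulTop_add_one M _ hxE hreg
    have hn' : (n : ℕ∞) ≤ LocCoh.depth E (QuotSMulTop (algebraMap L E x) M) := by
      rw [← hdepth] at hn
      push_cast at hn
      exact (ENat.add_le_add_iff_right (by simp)).mp hn
    obtain ⟨rs, hlen, hmem, hrs⟩ := ih (QuotSMulTop (algebraMap L E x) M) hn'
    refine ⟨x :: rs, by simp [hlen], ?_, ?_⟩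
    · intro r hr
      rcases List.mem_cons.mp hr with rfl | hr
      · exact hx
      · exact hmem r hr
    · rw [List.map_cons, isWeaklyRegular_cons_iff]
      exact ⟨hreg, hrs⟩

/-- `depth E ≤ depth L`. -/
theorem depth_le (hcp : CP L E)
    (hrad : ((maximalIdeal L).map (algebraMap L E)).radical = maximalIdeal E) :
    LocCoh.depth E E ≤ LocCoh.depth L L := by
  rw [← ENat.forall_natCast_le_iff_le]
  intro n hn
  obtain ⟨rs, hlen, hmem, hrs⟩ := exists_isWeaklyRegular L hrad n E hn
  rw [isWeaklyRegular_map_algebraMap_iff] at hrs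
  have := Groth.Agent.Ega4B.DepthBasic.length_le_idealDepth (I := maximalIdeal L) rs
    (hcp.isWeaklyRegular hrs) hmem
  rwa [hlen] at this

theorem exists_finset
    (hrad : ((maximalIdeal L).map (algebraMap L E)).radical = maximalIdeal E) (n : ℕ) :
    ∀ (M : Type u) [AddCommGroup M] [Module E M] [Module.Finite E M],
      Module.supportDim E M ≤ n → ∃ s : Finset L, s.card ≤ n ∧ (∀ r ∈ s, r ∈ maximalIdeal L) ∧
        ∀ P ∈ Module.support E M, (∀ r ∈ s, algebraMap L E r ∈ P.asIdeal) →
          P.asIdeal = maximalIdeal E := by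
  classical
  induction n with
  | zero =>
    intro M _ _ _ hn
    refine ⟨∅, le_rfl, by simp, fun P hP _ => ?_⟩
    by_contra hne
    have hm : closedPoint E ∈ Module.support E M :=
      Module.mem_support_mono (show P ≤ closedPoint E from le_maximalIdeal P.2.ne_top) hP
    have hlt : (⟨P, hP⟩ : Module.support E M) < ⟨closedPoint E, hm⟩ := by
      refine lt_of_le_of_ne (show P ≤ closedPoint E from le_maximalIdeal P.2.ne_top) ?_
      intro heq
      exact hne (congrArg (fun z : Module.support E M => z.1.asIdeal) heq)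
    have h1 : 1 ≤ Order.krullDim (Module.support E M) :=
      Order.one_le_krullDim_iff.mpr ⟨_, _, hlt⟩
    have h2 : (1 : WithBot ℕ∞) ≤ ((0 : ℕ) : WithBot ℕ∞) := h1.trans hn
    exact absurd h2 (by decide)
  | succ n ih =>
    intro M _ _ _ hn
    by_cases hall : ∀ P ∈ Module.support E M, P.asIdeal = maximalIdeal E
    · exact ⟨∅, Nat.zero_le _, by simp, fun P hP _ => hall P hP⟩
    push Not at hall
    obtain ⟨P, hP, hPne⟩ := hall
    have hfin : (Module.annihilator E M).minimalPrimes.Finite :=
      Ideal.finite_minimalPrimes_of_isNoetherianRing E _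
    obtain ⟨x, hx, hxs⟩ := exists_notMem L hrad hfin (by
      intro q hq
      refine ⟨hq.1.1, ?_⟩
      rintro rfl
      apply hPne
      have hPann : Module.annihilator E M ≤ P.asIdeal := by
        rw [Module.support_eq_zeroLocus] at hP
        exact hP
      exact le_antisymm (le_maximalIdeal P.2.ne_top)
        (hq.2 ⟨P.2, hPann⟩ (le_maximalIdeal P.2.ne_top)))
    have hdim := Module.supportDim_quotSMulTop_succ_le_of_notMem_minimalPrimes (M := M)
      (x := algebraMap L E x) hxs
    have hn' : Module.supportDim E (QuotSMulTop (algebraMap L E x) M) ≤ n := by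
      have h1 := hdim.trans hn
      rw [Nat.cast_add, Nat.cast_one] at h1
      exact ENat.WithBot.add_le_add_one_right_iff.mp h1
    obtain ⟨s, hcard, hmem, hs⟩ := ih _ hn'
    refine ⟨insert x s, (Finset.card_insert_le _ _).trans (by omega), ?_, ?_⟩
    · intro r hr
      rcases Finset.mem_insert.mp hr with rfl | hr
      · exact hx
      · exact hmem r hr
    · intro P hP hPs
      refine hs P ?_ fun r hr => hPs r (Finset.mem_insert_of_mem hr)
      rw [Module.support_quotSMulTop]
      refine ⟨hP, ?_⟩
      rw [PrimeSpectrum.mem_zeroLocus, Set.singleton_subset_iff]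
      exact hPs x (Finset.mem_insert_self _ _)

/-- `dim L ≤ dim E`. -/
theorem ringKrullDim_le (hcp : CP L E)
    (hrad : ((maximalIdeal L).map (algebraMap L E)).radical = maximalIdeal E) :
    ringKrullDim L ≤ ringKrullDim E := by
  have hL := hcp.isNoetherianRing
  obtain ⟨n, hn⟩ : ∃ n : ℕ, ringKrullDim E = n := by
    have h1 : ringKrullDim E ≠ ⊤ := ringKrullDim_ne_top
    have h2 : ringKrullDim E ≠ ⊥ := ringKrullDim_ne_bot
    obtain ⟨m, hm⟩ := WithBot.ne_bot_iff_exists.mp h2
    rw [← hm] at h1 ⊢
    have h3 : m ≠ ⊤ := fun h => h1 (by rw [h]; rfl)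
    obtain ⟨k, hk⟩ := ENat.ne_top_iff_exists.mp h3
    exact ⟨k, by rw [← hk]; rfl⟩
  obtain ⟨s, hcard, hmem, hs⟩ := exists_finset L hrad n E (by
    rw [Module.supportDim_self_eq_ringKrullDim, hn])
  have hle : Ideal.span (s : Set L) ≤ maximalIdeal L := Ideal.span_le.mpr hmem
  have hmin : maximalIdeal L ∈ (Ideal.span (s : Set L)).minimalPrimes := by
    refine ⟨⟨inferInstance, hle⟩, ?_⟩
    rintro P ⟨hPp, hPs⟩ _ a ha
    have haE : algebraMap L E a ∈ ((Ideal.span (s : Set L)).map (algebraMap L E)).radical := by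
      rw [Ideal.radical_eq_sInf, Ideal.mem_sInf]
      rintro Q ⟨hQ, hQp⟩
      have hQm : Q = maximalIdeal E := by
        refine hs ⟨Q, hQp⟩ ?_ fun r hr => hQ (Ideal.mem_map_of_mem _ (Ideal.subset_span hr))
        rw [Module.support_eq_zeroLocus, Module.annihilator_eq_bot.mpr inferInstance]
        simp
      rw [hQm, ← hrad]
      exact Ideal.le_radical (Ideal.mem_map_of_mem _ ha)
    obtain ⟨k, hk⟩ := haE
    rw [← map_pow] at hk
    exact hPp.mem_of_pow_mem k (hPs (hcp _ hk))
  have h1 := Ideal.height_le_card_of_mem_minimalPrimes_span_finset hmin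
  rw [← maximalIdeal_height_eq_ringKrullDim, hn]
  have h2 : (maximalIdeal L).height ≤ (n : ℕ∞) := h1.trans (by exact_mod_cast hcard)
  exact_mod_cast h2

/-- Serre-type inequality descends from `E` to `L`. -/
theorem min_le_depth (hcp : CP L E)
    (hrad : ((maximalIdeal L).map (algebraMap L E)).radical = maximalIdeal E) (k : WithBot ℕ∞)
    (h : min k (ringKrullDim E) ≤ ((LocCoh.depth E E : ℕ∞) : WithBot ℕ∞)) :
    min k (ringKrullDim L) ≤ ((LocCoh.depth L L : ℕ∞) : WithBot ℕ∞) :=
  (min_le_min le_rfl (ringKrullDim_le L hcp hrad)).trans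
    (h.trans (WithBot.coe_le_coe.mpr (depth_le L hcp hrad)))

end Local

end K830.CycPure
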