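import Groth.Agent.Ega4C.DepthBasics
import Groth.Agent.Ega4C.SkFlat

/-!
Elementwise criteria for `depth ≥ 1`, `depth ≥ 2` at a prime.
-/

set_option autoImplicit false
universe u

open IsLocalRing LocCoh
open scoped Pointwise

namespace K830.DepthElt

variable {B : Type u} [CommRing B] [IsNoetherianRing B]

theorem one_le_depth_iff (P : Ideal B) [P.IsPrime] :
    (1 : ℕ∞) ≤ depth (Localization.AtPrime P) (Localization.AtPrime P) ↔
      ¬ ∃ y : B, ∀ r, r ∈ P ↔ r * y = 0 := by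
  rw [← Groth.Agent.Ega4C.SkFlat.depth_locSelf,
    Groth.Agent.Ega4C.DepthBasics.one_le_depth_localizedModule_iff, AssociatedPrimes.mem_iff,
    isAssociatedPrime_iff]
  refine not_congr ⟨?_, ?_⟩
  · rintro ⟨_, y, hy⟩
    refine ⟨y, fun r => ?_⟩
    rw [hy, Submodule.mem_colon_singleton, Submodule.mem_bot, smul_eq_mul]
  · rintro ⟨y, hy⟩
    refine ⟨‹_›, y, ?_⟩
    ext r
    rw [hy, Submodule.mem_colon_singleton, Submodule.mem_bot, smul_eq_mul]

theorem mem_smul_top_iff (x y : B) : y ∈ (x • (⊤ : Submodule B B)) ↔ x ∣ y := by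
  rw [Submodule.mem_smul_pointwise_iff_exists]
  constructor
  · rintro ⟨z, _, rfl⟩
    exact Dvd.intro z rfl
  · rintro ⟨z, rfl⟩
    exact ⟨z, trivial, rfl⟩

theorem two_le_depth_iff (P : Ideal B) [P.IsPrime] {x : B} (hx : x ∈ P)
    (hreg : IsSMulRegular B x) :
    (2 : ℕ∞) ≤ depth (Localization.AtPrime P) (Localization.AtPrime P) ↔
      ¬ ∃ y : B, ∀ r, r ∈ P ↔ x ∣ r * y := by
  rw [← Groth.Agent.Ega4C.SkFlat.depth_locSelf,
    Groth.Agent.Ega4C.DepthBasics.two_le_depth_localizedModule_iff P hx hreg,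
    AssociatedPrimes.mem_iff, isAssociatedPrime_iff]
  refine not_congr ⟨?_, ?_⟩
  · rintro ⟨_, y, hy⟩
    obtain ⟨y, rfl⟩ := Submodule.mkQ_surjective _ y
    refine ⟨y, fun r => ?_⟩
    rw [hy, Submodule.mem_colon_singleton, Submodule.mem_bot, ← map_smul, smul_eq_mul,
      Submodule.mkQ_apply, Submodule.Quotient.mk_eq_zero, mem_smul_top_iff]
  · rintro ⟨y, hy⟩
    refine ⟨‹_›, Submodule.mkQ _ y, ?_⟩
    ext r
    rw [hy, Submodule.mem_colon_singleton, Submodule.mem_bot, ← map_smul, smul_eq_mul,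
      Submodule.mkQ_apply, Submodule.Quotient.mk_eq_zero, mem_smul_top_iff]

/-- local version of the necessary condition -/
theorem exists_of_two_le_depth (P : Ideal B) [P.IsPrime] {x : B} (hx : x ∈ P)
    (hreg : IsSMulRegular B x)
    (h : (2 : ℕ∞) ≤ depth (Localization.AtPrime P) (Localization.AtPrime P))
    (y : B) (hy : ∀ r ∈ P, x ∣ r * y) : ∃ s, s ∉ P ∧ x ∣ s * y := by
  by_contra hcon
  push Not at hcon
  refine (two_le_depth_iff P hx hreg).mp h ⟨y, fun r => ⟨hy r, fun hr => ?_⟩⟩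
  by_contra hrP
  exact hcon r hrP hr

end K830.DepthElt
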