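import Groth.Prelude.Def_W4c2filtblowupsingRees
import Mathlib.RingTheory.Localization.Away.Basic
import Mathlib.RingTheory.FiniteType
import Mathlib.RingTheory.LocalRing.MaximalIdeal.Basic
import Mathlib.RingTheory.Polynomial.Basic

/-!
Basic facts on extended Rees algebras of filtrations of ideals.
-/

set_option autoImplicit false
universe u

open LaurentPolynomial

namespace K830.ExtRees

section Coeff

variable {A : Type u} [CommRing A]

theorem coeff_C_mul_T (a : A) (k n : ℤ) :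
    (C a * T k : A[T;T⁻¹]).coeff n = if n = k then a else 0 := by
  rw [← single_eq_C_mul_T, AddMonoidAlgebra.coeff_single, Finsupp.single_apply]
  simp only [eq_comm]

theorem coeff_mul_T (f : A[T;T⁻¹]) (m n : ℤ) : (f * T m).coeff n = f.coeff (n - m) := by
  induction f using LaurentPolynomial.induction_on' with
  | add p q hp hq =>
    rw [add_mul, AddMonoidAlgebra.coeff_add, AddMonoidAlgebra.coeff_add, Finsupp.add_apply,
      Finsupp.add_apply, hp, hq]
  | C_mul_T k a =>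
    rw [mul_T_assoc, coeff_C_mul_T, coeff_C_mul_T]
    congr 1
    exact propext ⟨fun h => by omega, fun h => by omega⟩

theorem coeff_C_mul (a : A) (f : A[T;T⁻¹]) (n : ℤ) : (C a * f).coeff n = a * f.coeff n := by
  rw [← smul_eq_C_mul, AddMonoidAlgebra.coeff_smul, Finsupp.smul_apply, smul_eq_mul]

theorem eq_sum (f : A[T;T⁻¹]) : f = ∑ n ∈ f.coeff.support, C (f.coeff n) * T n := by
  conv_lhs => rw [← AddMonoidAlgebra.sum_coeff_single f]
  rw [Finsupp.sum]
  exact Finset.sum_congr rfl fun n _ => single_eq_C_mul_T _ _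

end Coeff

section Ring

variable {A : Type u} [CommRing A] (𝓕 : FiltBl.IdealFiltration A)

theorem coe_u : (𝓕.u : A[T;T⁻¹]) = T (-1) := rfl

theorem mem_extRees_iff (f : A[T;T⁻¹]) : f ∈ 𝓕.extRees ↔ ∀ n : ℤ, f.coeff n ∈ 𝓕.F n.toNat :=
  Iff.rfl

theorem C_mul_T_mem (a : A) (n : ℤ) (ha : a ∈ 𝓕.F n.toNat) : (C a * T n : A[T;T⁻¹]) ∈ 𝓕.extRees := by
  intro m
  rw [coeff_C_mul_T]
  split_ifs with h
  · rw [h]; exact ha
  · exact zero_mem _

theorem u_pow (n : ℕ) : ((𝓕.u ^ n : 𝓕.extRees) : A[T;T⁻¹]) = T (-(n : ℤ)) := by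
  rw [SubmonoidClass.coe_pow, coe_u, T_pow]
  congr 1
  ring

theorem coe_mul_u (f : 𝓕.extRees) (n : ℤ) :
    ((f * 𝓕.u : 𝓕.extRees) : A[T;T⁻¹]).coeff n = (f : A[T;T⁻¹]).coeff (n + 1) := by
  change ((f : A[T;T⁻¹]) * T (-1)).coeff n = _
  rw [coeff_mul_T, sub_neg_eq_add]

/-- `f ∈ u R'` iff every coefficient lies one step deeper. -/
theorem mem_span_u_iff (f : 𝓕.extRees) :
    f ∈ Ideal.span {𝓕.u} ↔ ∀ n : ℤ, (f : A[T;T⁻¹]).coeff n ∈ 𝓕.F (n + 1).toNat := by
  rw [Ideal.mem_span_singleton]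
  constructor
  · rintro ⟨g, rfl⟩ n
    rw [mul_comm, coe_mul_u]
    exact g.2 (n + 1)
  · intro h
    refine ⟨⟨(f : A[T;T⁻¹]) * T 1, fun n => ?_⟩, ?_⟩
    · rw [coeff_mul_T]
      have := h (n - 1)
      rwa [sub_add_cancel] at this
    · apply Subtype.ext
      change (f : A[T;T⁻¹]) = T (-1) * ((f : A[T;T⁻¹]) * T 1)
      rw [T_mul, mul_T_assoc, add_neg_cancel, T_zero, mul_one]

theorem exists_mul_T_mem (f : A[T;T⁻¹]) : ∃ n : ℕ, f * T (-(n : ℤ)) ∈ 𝓕.extRees := by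
  obtain ⟨n, hn⟩ : ∃ n : ℕ, ∀ m ∈ f.coeff.support, m ≤ (n : ℤ) := by
    obtain ⟨b, hb⟩ := f.coeff.support.bddAbove
    exact ⟨b.toNat, fun m hm => (hb hm).trans (Int.self_le_toNat b)⟩
  refine ⟨n, fun m => ?_⟩
  rw [coeff_mul_T, sub_neg_eq_add]
  by_cases hm : m ≤ 0
  · rw [Int.toNat_of_nonpos hm, 𝓕.zero_eq]
    trivial
  · have : f.coeff (m + n) = 0 := by
      by_contra hne
      have := hn _ (Finsupp.mem_support_iff.mpr hne)
      omega
    rw [this]
    exact zero_mem _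

/-- `A[T,T⁻¹]` is the localization of the extended Rees algebra at `u`. -/
theorem isLocalization : IsLocalization.Away 𝓕.u A[T;T⁻¹] := by
  refine ⟨?_, ?_, ?_⟩
  · rintro ⟨_, n, rfl⟩
    change IsUnit ((𝓕.u ^ n : 𝓕.extRees) : A[T;T⁻¹])
    rw [u_pow]
    exact isUnit_T _
  · intro z
    obtain ⟨n, hn⟩ := exists_mul_T_mem 𝓕 z
    refine ⟨(⟨_, hn⟩, ⟨𝓕.u ^ n, n, rfl⟩), ?_⟩
    change z * ((𝓕.u ^ n : 𝓕.extRees) : A[T;T⁻¹]) = z * T (-(n : ℤ))
    rw [u_pow]
  · intro x y h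
    exact ⟨1, by rw [show x = y from Subtype.ext h]⟩

theorem u_mul_injective (x : 𝓕.extRees) (h : 𝓕.u * x = 0) : x = 0 := by
  apply Subtype.ext
  have h1 : T (-1) * (x : A[T;T⁻¹]) = 0 := congrArg Subtype.val h
  have h2 := congrArg (fun z => T 1 * z) h1
  simp only [mul_zero, ← mul_assoc, ← T_add] at h2
  simpa using h2

theorem isSMulRegular_u : IsSMulRegular 𝓕.extRees 𝓕.u := by
  intro x y h
  have h' : 𝓕.u * x = 𝓕.u * y := h
  rw [← sub_eq_zero, ← mul_sub] at h'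
  exact sub_eq_zero.mp (u_mul_injective 𝓕 _ h')

theorem u_mem_nonZeroDivisors : 𝓕.u ∈ nonZeroDivisors 𝓕.extRees := by
  rw [mem_nonZeroDivisors_iff_right]
  intro x hx
  rw [mul_comm] at hx
  exact u_mul_injective 𝓕 x hx

/-- The inclusion of the Rees algebra in the extended Rees algebra. -/
noncomputable def incl : 𝓕.rees →ₐ[A] 𝓕.extRees :=
  AlgHom.codRestrict ((Polynomial.toLaurentAlg (R := A)).comp 𝓕.rees.val) 𝓕.extRees (by
    intro f n
    change (Polynomial.toLaurent (f : Polynomial A)).coeff n ∈ 𝓕.F n.toNat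
    have hf : (f : Polynomial A) = ∑ i ∈ (f : Polynomial A).support,
        Polynomial.C ((f : Polynomial A).coeff i) * Polynomial.X ^ i :=
      Polynomial.as_sum_support_C_mul_X_pow _
    rw [hf, map_sum, AddMonoidAlgebra.coeff_sum, Finsupp.finsetSum_apply]
    refine sum_mem fun i _ => ?_
    rw [Polynomial.toLaurent_C_mul_X_pow, coeff_C_mul_T]
    split_ifs with h
    · subst h
      rw [Int.toNat_natCast]
      exact f.2 i
    · exact zero_mem _)

theorem coe_incl (f : 𝓕.rees) :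
    (incl 𝓕 f : A[T;T⁻¹]) = Polynomial.toLaurent (f : Polynomial A) := rfl

/-- The extended Rees algebra is generated by the Rees algebra and `u`. -/
theorem finiteType (hfg : Algebra.FiniteType A 𝓕.rees) : Algebra.FiniteType A 𝓕.extRees := by
  let φ : Polynomial 𝓕.rees →+* 𝓕.extRees := Polynomial.eval₂RingHom (incl 𝓕).toRingHom 𝓕.u
  have hφ : Function.Surjective φ := by
    intro f
    have hterm : ∀ n : ℤ, ∃ y, (φ y : A[T;T⁻¹]) = C ((f : A[T;T⁻¹]).coeff n) * T n := by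
      intro n
      obtain ⟨k, rfl | rfl⟩ := n.eq_nat_or_neg
      · have hk : (Polynomial.C ((f : A[T;T⁻¹]).coeff (k : ℤ)) * Polynomial.X ^ k : Polynomial A) ∈
            𝓕.rees := by
          intro m
          rw [Polynomial.coeff_C_mul_X_pow]
          split_ifs with h
          · subst h; exact f.2 m
          · exact zero_mem _
        refine ⟨Polynomial.C ⟨_, hk⟩, ?_⟩
        change ((Polynomial.eval₂RingHom (incl 𝓕).toRingHom 𝓕.u
          (Polynomial.C ⟨_, hk⟩) : 𝓕.extRees) : A[T;T⁻¹]) = _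
        rw [Polynomial.coe_eval₂RingHom, Polynomial.eval₂_C]
        change (incl 𝓕 ⟨_, hk⟩ : A[T;T⁻¹]) = _
        rw [coe_incl, Polynomial.toLaurent_C_mul_X_pow]
      · refine ⟨Polynomial.C (algebraMap A 𝓕.rees ((f : A[T;T⁻¹]).coeff (-(k : ℤ)))) *
          Polynomial.X ^ k, ?_⟩
        change ((Polynomial.eval₂RingHom (incl 𝓕).toRingHom 𝓕.u
          (Polynomial.C (algebraMap A 𝓕.rees ((f : A[T;T⁻¹]).coeff (-(k : ℤ)))) *
          Polynomial.X ^ k) : 𝓕.extRees) : A[T;T⁻¹]) = _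
        rw [Polynomial.coe_eval₂RingHom, Polynomial.eval₂_mul, Polynomial.eval₂_C,
          Polynomial.eval₂_X_pow]
        change (incl 𝓕 (algebraMap A 𝓕.rees ((f : A[T;T⁻¹]).coeff (-(k : ℤ)))) : A[T;T⁻¹]) *
          ((𝓕.u ^ k : 𝓕.extRees) : A[T;T⁻¹]) = _
        rw [u_pow, AlgHom.commutes]
        rfl
    choose y hy using hterm
    refine ⟨∑ n ∈ (f : A[T;T⁻¹]).coeff.support, y n, Subtype.ext ?_⟩
    rw [map_sum]
    have : ((∑ n ∈ (f : A[T;T⁻¹]).coeff.support, φ (y n) : 𝓕.extRees) : A[T;T⁻¹]) =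
        ∑ n ∈ (f : A[T;T⁻¹]).coeff.support, (φ (y n) : A[T;T⁻¹]) :=
      AddSubmonoidClass.coe_finsetSum _ _
    rw [this]
    refine (Finset.sum_congr rfl fun n _ => hy n).trans (eq_sum (f : A[T;T⁻¹])).symm
  have hft : Algebra.FiniteType A (Polynomial 𝓕.rees) :=
    Algebra.FiniteType.trans (S := 𝓕.rees) hfg inferInstance
  let φ' : Polynomial 𝓕.rees →ₐ[A] 𝓕.extRees :=
    { φ with
      commutes' := fun a => by
        change φ (Polynomial.C (algebraMap A 𝓕.rees a)) = _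
        change Polynomial.eval₂RingHom (incl 𝓕).toRingHom 𝓕.u _ = _
        rw [Polynomial.coe_eval₂RingHom, Polynomial.eval₂_C]
        exact (incl 𝓕).commutes a }
  exact Algebra.FiniteType.of_surjective φ' hφ

theorem isNoetherianRing [IsNoetherianRing A] (hfg : Algebra.FiniteType A 𝓕.rees) :
    IsNoetherianRing 𝓕.extRees :=
  have := finiteType 𝓕 hfg
  Algebra.FiniteType.isNoetherianRing A 𝓕.extRees

end Ring

end K830.ExtRees
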