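import Groth.Agent.FiltBl.K830.ExtRees
import Mathlib.RingTheory.Flat.Localization
import Mathlib.RingTheory.Localization.LocalizationLocalization
import Mathlib.Algebra.Group.UniqueProds.Basic
import Mathlib.Algebra.MonoidAlgebra.NoZeroDivisors

/-!
Prime ideals of extended Rees algebras.
-/

set_option autoImplicit false
universe u

open LaurentPolynomial

namespace K830.ExtRees

section Laurent

variable {A : Type u} [CommRing A]

/-- Reduction of Laurent polynomials modulo an ideal. -/
noncomputable def red (q : Ideal A) : A[T;T⁻¹] →+* (A ⧸ q)[T;T⁻¹] :=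
  LaurentPolynomial.eval₂ (LaurentPolynomial.C.comp (Ideal.Quotient.mk q))
    (LaurentPolynomial.isUnit_T (R := A ⧸ q) 1).unit

theorem red_C_mul_T (q : Ideal A) (a : A) (n : ℤ) :
    red q (C a * T n) = C (Ideal.Quotient.mk q a) * T n := by
  unfold red
  rw [LaurentPolynomial.eval₂_C_mul_T, RingHom.comp_apply]
  congr 1
  obtain ⟨m, rfl | rfl⟩ := n.eq_nat_or_neg
  · rw [zpow_natCast, Units.val_pow_eq_pow_val, IsUnit.unit_spec, LaurentPolynomial.T_pow, mul_one]
  · rw [zpow_neg, zpow_natCast]
    refine Units.inv_eq_of_mul_eq_one_right ?_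
    rw [Units.val_pow_eq_pow_val, IsUnit.unit_spec, LaurentPolynomial.T_pow, mul_one,
      ← LaurentPolynomial.T_add, add_neg_cancel, LaurentPolynomial.T_zero]

theorem coeff_red (q : Ideal A) (f : A[T;T⁻¹]) (n : ℤ) :
    (red q f).coeff n = Ideal.Quotient.mk q (f.coeff n) := by
  induction f using LaurentPolynomial.induction_on' with
  | add p r hp hr =>
    rw [map_add, AddMonoidAlgebra.coeff_add, AddMonoidAlgebra.coeff_add, Finsupp.add_apply,
      Finsupp.add_apply, hp, hr, map_add]
  | C_mul_T k a =>
    rw [red_C_mul_T, coeff_C_mul_T, coeff_C_mul_T]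
    split_ifs
    · rfl
    · rw [map_zero]

/-- The extension of an ideal to Laurent polynomials: all coefficients in the ideal. -/
theorem mem_map_C_iff (q : Ideal A) (f : A[T;T⁻¹]) :
    f ∈ q.map (C : A →+* A[T;T⁻¹]) ↔ ∀ n, f.coeff n ∈ q := by
  constructor
  · intro hf
    have h : q.map (C : A →+* A[T;T⁻¹]) ≤ RingHom.ker (red q) := by
      rw [Ideal.map_le_iff_le_comap]
      intro a ha
      rw [Ideal.mem_comap, RingHom.mem_ker]
      have := red_C_mul_T q a 0
      rw [T_zero, mul_one, T_zero, mul_one] at this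
      rw [this, Ideal.Quotient.eq_zero_iff_mem.mpr ha, map_zero]
    intro n
    have h0 : red q f = 0 := h hf
    rw [← Ideal.Quotient.eq_zero_iff_mem, ← coeff_red, h0]
    simp
  · intro hf
    rw [eq_sum f]
    exact sum_mem fun n _ => Ideal.mul_mem_right _ _ (Ideal.mem_map_of_mem _ (hf n))

theorem ker_red (q : Ideal A) : RingHom.ker (red q) = q.map (C : A →+* A[T;T⁻¹]) := by
  ext f
  rw [mem_map_C_iff, RingHom.mem_ker]
  constructor
  · intro h n
    rw [← Ideal.Quotient.eq_zero_iff_mem, ← coeff_red, h]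
    simp
  · intro h
    ext n
    rw [coeff_red, Ideal.Quotient.eq_zero_iff_mem.mpr (h n)]
    simp

instance isPrime_map_C (q : Ideal A) [q.IsPrime] : (q.map (C : A →+* A[T;T⁻¹])).IsPrime := by
  rw [← ker_red]
  exact RingHom.ker_isPrime _

theorem comap_map_C (q : Ideal A) : (q.map (C : A →+* A[T;T⁻¹])).comap C = q := by
  ext a
  rw [Ideal.mem_comap, mem_map_C_iff]
  constructor
  · intro h
    have := h 0
    rwa [C_apply, if_pos rfl] at this
  · intro h n
    rw [C_apply]
    split_ifs
    · exact h
    · exact zero_mem _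

end Laurent

end K830.ExtRees
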