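import Mathlib.Algebra.Polynomial.Laurent
import Groth.Agent.Ega4A.RegEtale
import Groth.Agent.Ega4A.CMFields
import Groth.Agent.Ega4C.SkFlat
import Groth.Agent.FiltBl.K830.ExtRees2

/-!
`A → A[T;T⁻¹]` is smooth; comparison of depth, dimension, `(S_k)`, Cohen-Macaulayness.
-/

set_option autoImplicit false
universe u

open LaurentPolynomial IsLocalRing LocCoh

open Groth.Agent.Ega4C (FlatLocal.isCM_iff_depth FlatLocal.exists_depth_eq)

namespace K830.LaurFib

variable (A : Type u) [CommRing A]

theorem smooth_polynomial : Algebra.Smooth A (Polynomial A) := by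
  have : Algebra.Smooth A (MvPolynomial PUnit.{u+1} A) := {}
  exact Algebra.Smooth.of_equiv (MvPolynomial.uniqueAlgEquiv A PUnit.{u+1})

theorem smooth : Algebra.Smooth A A[T;T⁻¹] := by
  have := smooth_polynomial A
  have : Algebra.Smooth (Polynomial A) A[T;T⁻¹] :=
    Algebra.Smooth.of_isLocalization_Away (Polynomial.X : Polynomial A)
  have : IsScalarTower A (Polynomial A) A[T;T⁻¹] :=
    IsScalarTower.of_algebraMap_eq fun a => by
      change _ = Polynomial.toLaurent (Polynomial.C a)
      rw [Polynomial.toLaurent_C]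
      rfl
  exact Algebra.Smooth.comp A (Polynomial A) A[T;T⁻¹]

section Smooth

variable {A}
variable {L : Type u} [CommRing L] [Algebra A L]

theorem fib_aux [Algebra.Smooth A L] (p : Ideal A) [p.IsPrime] (r : Ideal L) [r.IsPrime]
    (h : r.comap (algebraMap A L) = p) :
    IsRegularLocalRing (EGA4.FibLocRing A L r) := by
  obtain ⟨Q, hQ, hQ'⟩ := Groth.Agent.Ega4C.FibreTower.exists_prime_fibre (A := A) p r h
  subst hQ'
  have : IsRegularRing (p.Fiber L) :=
    Groth.Agent.Ega4A.RegEtale.isRegularRing_of_smooth p.ResidueField _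
  have h1 : IsRegularLocalRing (Localization.AtPrime Q) :=
    IsRegularRing.isRegularLocalRing_localization Q
  exact IsRegularLocalRing.of_ringEquiv (R := Localization.AtPrime Q)
    (Groth.Agent.Ega4C.FibreTower.locFibreEquiv p Q)

/-- The fibre local rings of a smooth algebra are regular. -/
theorem isRegularLocalRing_fib [Algebra.Smooth A L] (r : Ideal L) [r.IsPrime] :
    IsRegularLocalRing (EGA4.FibLocRing A L r) := fib_aux _ r rfl

/-- the number of the fibre: dimension and depth agree. -/
theorem exists_dim_depth_fib [Algebra.Smooth A L] (r : Ideal L) [r.IsPrime]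
    [IsLocalRing (EGA4.FibLocRing A L r)] :
    ∃ n : ℕ, ringKrullDim (EGA4.FibLocRing A L r) = n ∧
      depth (EGA4.FibLocRing A L r) (EGA4.FibLocRing A L r) = n := by
  have := isRegularLocalRing_fib (A := A) r
  have h1 : IsCohenMacaulayLocalRing (EGA4.FibLocRing A L r) :=
    Groth.Agent.Ega4A.CMFields.isCohenMacaulayLocalRing_of_isRegularLocalRing _
  obtain ⟨c, hc⟩ := Groth.Agent.Ega4C.FlatLocal.exists_depth_eq (EGA4.FibLocRing A L r)
  refine ⟨c, ?_, hc⟩
  rw [(Groth.Agent.Ega4C.FlatLocal.isCM_iff_depth _).mp h1, hc]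
  rfl

/-- Dimension and depth of the local rings of a smooth algebra. -/
theorem exists_dim_depth [IsNoetherianRing A] [Algebra.Smooth A L] (r : Ideal L)
    [r.IsPrime] : ∃ n : ℕ,
    ringKrullDim (Localization.AtPrime r) =
      ringKrullDim (Localization.AtPrime (r.comap (algebraMap A L))) + n ∧
    depth (Localization.AtPrime r) (Localization.AtPrime r) =
      depth (Localization.AtPrime (r.comap (algebraMap A L)))
        (Localization.AtPrime (r.comap (algebraMap A L))) + n := by
  have : IsLocalRing (EGA4.FibLocRing A L r) :=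
    Groth.Agent.Ega4C.SkFlat.isLocalRing_fibLocRing (B := A) r
  have : IsNoetherianRing L := Algebra.FiniteType.isNoetherianRing A L
  have : Module.Flat A L := inferInstance
  obtain ⟨n, h1, h2⟩ := exists_dim_depth_fib (A := A) r
  obtain ⟨h3, h4⟩ := Groth.Agent.Ega4C.SkFlat.dim_depth_at (B := A) r
  exact ⟨n, by rw [h3, h1], by rw [h4, h2]⟩

/-- Dimension and depth at an extended prime. -/
theorem dim_depth_of_map_eq [IsNoetherianRing A] [Algebra.Smooth A L] (r : Ideal L)
    [r.IsPrime] (h : (r.comap (algebraMap A L)).map (algebraMap A L) = r) :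
    ringKrullDim (Localization.AtPrime r) =
      ringKrullDim (Localization.AtPrime (r.comap (algebraMap A L))) ∧
    depth (Localization.AtPrime r) (Localization.AtPrime r) =
      depth (Localization.AtPrime (r.comap (algebraMap A L)))
        (Localization.AtPrime (r.comap (algebraMap A L))) := by
  have : IsLocalRing (EGA4.FibLocRing A L r) :=
    Groth.Agent.Ega4C.SkFlat.isLocalRing_fibLocRing (B := A) r
  have : IsNoetherianRing L := Algebra.FiniteType.isNoetherianRing A L
  have : Module.Flat A L := inferInstance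
  obtain ⟨n, h1, h2⟩ := exists_dim_depth_fib (A := A) r
  obtain ⟨h3, h4⟩ := Groth.Agent.Ega4C.SkFlat.dim_depth_at (B := A) r
  have e : (r.comap (algebraMap A L)).map (algebraMap A (Localization.AtPrime r)) =
      maximalIdeal (Localization.AtPrime r) := by
    rw [IsScalarTower.algebraMap_eq A L, ← Ideal.map_map, h,
      Localization.AtPrime.map_eq_maximalIdeal]
  have hf : IsField (EGA4.FibLocRing A L r) := by
    change IsField (Localization.AtPrime r ⧸ _)
    rw [← Ideal.Quotient.maximal_ideal_iff_isField_quotient, e]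
    infer_instance
  have h0 : ringKrullDim (EGA4.FibLocRing A L r) = 0 := ringKrullDim_eq_zero_of_isField hf
  rw [h0] at h1
  have hn : n = 0 := by exact_mod_cast h1.symm
  subst hn
  rw [h3, h4, h2, h0]
  simp

theorem minLe_of_comap [IsNoetherianRing A] [Algebra.Smooth A L] (k : ℕ) (r : Ideal L)
    [r.IsPrime]
    (h : Groth.Agent.Ega4C.SkFlat.MinLe k (Localization.AtPrime (r.comap (algebraMap A L)))) :
    Groth.Agent.Ega4C.SkFlat.MinLe k (Localization.AtPrime r) := by
  have : IsNoetherianRing L := Algebra.FiniteType.isNoetherianRing A L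
  obtain ⟨n, h3, h4⟩ := exists_dim_depth (A := A) r
  obtain ⟨a, ha⟩ := Groth.Agent.Ega4C.FlatLocal.exists_depth_eq
    (Localization.AtPrime (r.comap (algebraMap A L)))
  obtain ⟨b, hb⟩ := Groth.Agent.Ega4C.FlatLocal.exists_depth_eq (Localization.AtPrime r)
  obtain ⟨a', ha'⟩ := Groth.Agent.Ega4C.FlatLocal.exists_ringKrullDim_eq
    (Localization.AtPrime (r.comap (algebraMap A L)))
  obtain ⟨b', hb'⟩ := Groth.Agent.Ega4C.FlatLocal.exists_ringKrullDim_eq (Localization.AtPrime r)
  rw [Groth.Agent.Ega4C.SkFlat.minLe_iff ha' ha] at h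
  rw [Groth.Agent.Ega4C.SkFlat.minLe_iff hb' hb]
  rw [ha', hb'] at h3
  rw [ha, hb] at h4
  norm_cast at h3 h4
  omega

theorem isCM_iff_comap [IsNoetherianRing A] [Algebra.Smooth A L] (r : Ideal L)
    [r.IsPrime] :
    IsCohenMacaulayLocalRing (Localization.AtPrime r) ↔
      IsCohenMacaulayLocalRing (Localization.AtPrime (r.comap (algebraMap A L))) := by
  have : IsNoetherianRing L := Algebra.FiniteType.isNoetherianRing A L
  obtain ⟨n, h3, h4⟩ := exists_dim_depth (A := A) r
  rw [Groth.Agent.Ega4C.FlatLocal.isCM_iff_depth, Groth.Agent.Ega4C.FlatLocal.isCM_iff_depth]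
  obtain ⟨a, ha⟩ := Groth.Agent.Ega4C.FlatLocal.exists_depth_eq
    (Localization.AtPrime (r.comap (algebraMap A L)))
  obtain ⟨b, hb⟩ := Groth.Agent.Ega4C.FlatLocal.exists_depth_eq (Localization.AtPrime r)
  obtain ⟨a', ha'⟩ := Groth.Agent.Ega4C.FlatLocal.exists_ringKrullDim_eq
    (Localization.AtPrime (r.comap (algebraMap A L)))
  obtain ⟨b', hb'⟩ := Groth.Agent.Ega4C.FlatLocal.exists_ringKrullDim_eq (Localization.AtPrime r)
  rw [ha', hb'] at h3
  rw [ha, hb] at h4
  rw [ha, hb, ha', hb']
  norm_cast at h3 h4 ⊢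
  omega

end Smooth

end K830.LaurFib
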