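import Groth.Agent.Sga2lef.H76.DepthHyp
import Groth.Agent.Ega4A.QuotLoc
import Groth.Agent.Ega4C.SkFlat

/-!
Local rings of `B` along `V(x)`, `x` a nonzerodivisor, against those of `G = B/(x)`.
-/

set_option autoImplicit false
universe u

open IsLocalRing LocCoh

namespace K830.ModReg

variable {B G : Type u} [CommRing B] [CommRing G]

theorem nonempty_equiv (φ : B →+* G) (hφ : Function.Surjective φ) (x : B)
    (hker : RingHom.ker φ = Ideal.span {x}) (p : Ideal G) [p.IsPrime] :
    Nonempty ((Localization.AtPrime (p.comap φ) ⧸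
      Ideal.span {algebraMap B (Localization.AtPrime (p.comap φ)) x}) ≃+*
        Localization.AtPrime p) := by
  have e1 := Groth.Agent.Ega4A.QuotLoc.quotLocEquiv φ hφ p (p.comap φ) rfl
    (Ideal.span {x}) hker.le
  have h1 : (Ideal.span {x}).map (algebraMap B (Localization.AtPrime (p.comap φ))) =
      Ideal.span {algebraMap B (Localization.AtPrime (p.comap φ)) x} := by
    rw [Ideal.map_span, Set.image_singleton]
  have hx : φ x = 0 := by
    rw [← RingHom.mem_ker, hker]
    exact Ideal.mem_span_singleton_self x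
  have h2 : ((Ideal.span {x}).map φ).map (algebraMap G (Localization.AtPrime p)) = ⊥ := by
    rw [Ideal.map_span, Set.image_singleton, hx, Ideal.map_span, Set.image_singleton, map_zero,
      Ideal.span_singleton_eq_bot]
  exact ⟨((Ideal.quotEquivOfEq h1.symm).trans (e1.trans ((Ideal.quotEquivOfEq h2).trans
    (RingEquiv.quotientBot _))))⟩

variable [IsNoetherianRing B] (φ : B →+* G) (hφ : Function.Surjective φ) (x : B)
  (hker : RingHom.ker φ = Ideal.span {x}) (hx : IsSMulRegular B x) (p : Ideal G) [p.IsPrime]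

include hφ hker hx

theorem dim_depth :
    ringKrullDim (Localization.AtPrime p) + 1 =
      ringKrullDim (Localization.AtPrime (p.comap φ)) ∧
    depth (Localization.AtPrime p) (Localization.AtPrime p) + 1 =
      depth (Localization.AtPrime (p.comap φ)) (Localization.AtPrime (p.comap φ)) := by
  obtain ⟨e⟩ := nonempty_equiv φ hφ x hker p
  have hxp : φ x ∈ p := by
    have : φ x = 0 := by
      rw [← RingHom.mem_ker, hker]
      exact Ideal.mem_span_singleton_self x
    rw [this]
    exact zero_mem _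
  have hreg : IsSMulRegular (Localization.AtPrime (p.comap φ))
      (algebraMap B (Localization.AtPrime (p.comap φ)) x) := by
    have := IsSMulRegular.of_flat (S := Localization.AtPrime (p.comap φ)) hx
    exact this
  have hmem : algebraMap B (Localization.AtPrime (p.comap φ)) x ∈
      maximalIdeal (Localization.AtPrime (p.comap φ)) :=
    (IsLocalization.AtPrime.to_map_mem_maximal_iff _ (p.comap φ) x).mpr hxp
  have : IsLocalRing (Localization.AtPrime (p.comap φ) ⧸
      Ideal.span {algebraMap B (Localization.AtPrime (p.comap φ)) x}) :=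
    RingEquiv.isLocalRing e.symm
  have hd := Groth.Agent.Sga2lef.H76.DepthHyp.depth_quot_self_add_one hmem hreg
  have hk := ringKrullDim_quotient_span_singleton_succ_eq_ringKrullDim hreg hmem
  rw [Groth.Agent.Ega4C.FlatLocal.depth_self_congr e] at hd
  rw [ringKrullDim_eq_of_ringEquiv e] at hk
  exact ⟨hk, hd⟩

theorem isCM_iff : IsCohenMacaulayLocalRing (Localization.AtPrime (p.comap φ)) ↔
    IsCohenMacaulayLocalRing (Localization.AtPrime p) := by
  have : IsNoetherianRing G := isNoetherianRing_of_surjective B G φ hφ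
  obtain ⟨h3, h4⟩ := dim_depth φ hφ x hker hx p
  rw [Groth.Agent.Ega4C.FlatLocal.isCM_iff_depth, Groth.Agent.Ega4C.FlatLocal.isCM_iff_depth]
  obtain ⟨a, ha⟩ := Groth.Agent.Ega4C.FlatLocal.exists_depth_eq (Localization.AtPrime p)
  obtain ⟨b, hb⟩ := Groth.Agent.Ega4C.FlatLocal.exists_depth_eq
    (Localization.AtPrime (p.comap φ))
  obtain ⟨a', ha'⟩ := Groth.Agent.Ega4C.FlatLocal.exists_ringKrullDim_eq (Localization.AtPrime p)
  obtain ⟨b', hb'⟩ := Groth.Agent.Ega4C.FlatLocal.exists_ringKrullDim_eq
    (Localization.AtPrime (p.comap φ))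
  rw [ha', hb'] at h3
  rw [ha, hb] at h4
  rw [ha, hb, ha', hb']
  norm_cast at h3 h4 ⊢
  omega

theorem minLe_succ_iff (k : ℕ) :
    Groth.Agent.Ega4C.SkFlat.MinLe (k + 1) (Localization.AtPrime (p.comap φ)) ↔
    Groth.Agent.Ega4C.SkFlat.MinLe k (Localization.AtPrime p) := by
  have : IsNoetherianRing G := isNoetherianRing_of_surjective B G φ hφ
  obtain ⟨h3, h4⟩ := dim_depth φ hφ x hker hx p
  obtain ⟨a, ha⟩ := Groth.Agent.Ega4C.FlatLocal.exists_depth_eq (Localization.AtPrime p)
  obtain ⟨b, hb⟩ := Groth.Agent.Ega4C.FlatLocal.exists_depth_eq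
    (Localization.AtPrime (p.comap φ))
  obtain ⟨a', ha'⟩ := Groth.Agent.Ega4C.FlatLocal.exists_ringKrullDim_eq (Localization.AtPrime p)
  obtain ⟨b', hb'⟩ := Groth.Agent.Ega4C.FlatLocal.exists_ringKrullDim_eq
    (Localization.AtPrime (p.comap φ))
  rw [Groth.Agent.Ega4C.SkFlat.minLe_iff ha' ha, Groth.Agent.Ega4C.SkFlat.minLe_iff hb' hb]
  rw [ha', hb'] at h3
  rw [ha, hb] at h4
  norm_cast at h3 h4
  omega

end K830.ModReg
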