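import Groth.Agent.FiltBl.K830.ExtRees2
import Groth.Agent.FiltBl.K830.LaurFib
import Groth.Agent.FiltBl.K830.ModReg

/-!
Local rings of the extended Rees algebra away from `u`.
-/

set_option autoImplicit false
universe u

open LaurentPolynomial IsLocalRing LocCoh

namespace K830.ExtRees

variable {A : Type u} [CommRing A] (𝓕 : FiltBl.IdealFiltration A)

theorem algebraMap_extRees_apply (x : 𝓕.extRees) :
    algebraMap 𝓕.extRees A[T;T⁻¹] x = (x : A[T;T⁻¹]) := rfl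

theorem pow_disjoint (P : Ideal 𝓕.extRees) [P.IsPrime] (hu : 𝓕.u ∉ P) :
    Disjoint (Submonoid.powers 𝓕.u : Set 𝓕.extRees) (P : Set 𝓕.extRees) := by
  rw [Set.disjoint_left]
  rintro _ ⟨n, rfl⟩ h
  exact hu (Ideal.IsPrime.mem_of_pow_mem ‹_› n h)

/-- A prime of `R'` not containing `u` extends to a prime of `A[T;T⁻¹]`. -/
theorem exists_prime (P : Ideal 𝓕.extRees) [P.IsPrime] (hu : 𝓕.u ∉ P) :
    ∃ Q : Ideal A[T;T⁻¹], Q.IsPrime ∧ Q.comap (algebraMap 𝓕.extRees A[T;T⁻¹]) = P := by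
  have := isLocalization 𝓕
  exact ⟨P.map (algebraMap 𝓕.extRees A[T;T⁻¹]),
    IsLocalization.isPrime_of_isPrime_disjoint (Submonoid.powers 𝓕.u) _ P ‹_›
      (pow_disjoint 𝓕 P hu),
    IsLocalization.under_map_of_isPrime_disjoint (Submonoid.powers 𝓕.u) _ ‹_›
      (pow_disjoint 𝓕 P hu)⟩

/-- The local rings away from `u` are local rings of `A[T;T⁻¹]`. -/
theorem nonempty_equiv (Q : Ideal A[T;T⁻¹]) [Q.IsPrime] :
    Nonempty (Localization.AtPrime (Q.comap (algebraMap 𝓕.extRees A[T;T⁻¹])) ≃+*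
      Localization.AtPrime Q) := by
  have := isLocalization 𝓕
  have h := IsLocalization.isLocalization_isLocalization_atPrime_isLocalization
    (Submonoid.powers 𝓕.u) (Localization.AtPrime Q) Q
  exact ⟨(IsLocalization.algEquiv (Q.comap (algebraMap 𝓕.extRees A[T;T⁻¹])).primeCompl
    (Localization.AtPrime (Q.comap (algebraMap 𝓕.extRees A[T;T⁻¹])))
    (Localization.AtPrime Q)).toRingEquiv⟩

theorem comap_comap (Q : Ideal A[T;T⁻¹]) :
    (Q.comap (algebraMap 𝓕.extRees A[T;T⁻¹])).comap (algebraMap A 𝓕.extRees) =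
      Q.comap (algebraMap A A[T;T⁻¹]) := rfl

/-- `(S_k)`-inequality for a prime of `R'` away from `u`, from the base. -/
theorem minLe_of_notMem [IsNoetherianRing A] (k : ℕ) (P : Ideal 𝓕.extRees) [P.IsPrime]
    (hu : 𝓕.u ∉ P)
    (h : Groth.Agent.Ega4C.SkFlat.MinLe k
      (Localization.AtPrime (P.comap (algebraMap A 𝓕.extRees)))) :
    Groth.Agent.Ega4C.SkFlat.MinLe k (Localization.AtPrime P) := by
  obtain ⟨Q, hQ, rfl⟩ := exists_prime 𝓕 P hu
  obtain ⟨e⟩ := nonempty_equiv 𝓕 Q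
  rw [Groth.Agent.Ega4C.SkFlat.minLe_congr k e]
  have := LaurFib.smooth A
  exact LaurFib.minLe_of_comap (A := A) k Q h

theorem isCM_iff_of_notMem [IsNoetherianRing A] (P : Ideal 𝓕.extRees) [P.IsPrime]
    (hu : 𝓕.u ∉ P) :
    IsCohenMacaulayLocalRing (Localization.AtPrime P) ↔
    IsCohenMacaulayLocalRing (Localization.AtPrime (P.comap (algebraMap A 𝓕.extRees))) := by
  obtain ⟨Q, hQ, rfl⟩ := exists_prime 𝓕 P hu
  obtain ⟨e⟩ := nonempty_equiv 𝓕 Q
  rw [Groth.Agent.Ega4C.FlatLocal.isCM_congr e]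
  have := LaurFib.smooth A
  exact LaurFib.isCM_iff_comap (A := A) Q

/-- The prime `q' = q A[T;T⁻¹] ∩ R'` over a prime `q` of `A`. -/
noncomputable def ext (q : Ideal A) : Ideal 𝓕.extRees :=
  (q.map (algebraMap A A[T;T⁻¹])).comap (algebraMap 𝓕.extRees A[T;T⁻¹])

theorem mem_ext_iff (q : Ideal A) (f : 𝓕.extRees) :
    f ∈ ext 𝓕 q ↔ ∀ n, (f : A[T;T⁻¹]).coeff n ∈ q :=
  mem_map_C_iff q _

theorem isPrime_map (q : Ideal A) [q.IsPrime] : (q.map (algebraMap A A[T;T⁻¹])).IsPrime :=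
  isPrime_map_C q

instance isPrime_ext (q : Ideal A) [q.IsPrime] : (ext 𝓕 q).IsPrime :=
  have := isPrime_map q
  Ideal.IsPrime.comap (algebraMap 𝓕.extRees A[T;T⁻¹])

theorem comap_ext (q : Ideal A) : (ext 𝓕 q).comap (algebraMap A 𝓕.extRees) = q :=
  comap_map_C q

theorem u_notMem_ext (q : Ideal A) [q.IsPrime] : 𝓕.u ∉ ext 𝓕 q := by
  intro h
  rw [mem_ext_iff] at h
  have := h (-1)
  rw [coe_u, T_apply, if_pos rfl] at this
  exact Ideal.IsPrime.ne_top ‹_› ((Ideal.eq_top_iff_one q).mpr this)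

theorem localization_congr {R : Type u} [CommRing R] {p q : Ideal R} [p.IsPrime] [q.IsPrime]
    (h : p = q) (C : ∀ (S : Type u) [CommRing S] [IsLocalRing S], Prop)
    (hp : C (Localization.AtPrime p)) : C (Localization.AtPrime q) := by
  subst h
  exact hp

theorem minLe_ext_iff [IsNoetherianRing A] (k : ℕ) (q : Ideal A) [q.IsPrime] :
    Groth.Agent.Ega4C.SkFlat.MinLe k (Localization.AtPrime (ext 𝓕 q)) ↔
    Groth.Agent.Ega4C.SkFlat.MinLe k (Localization.AtPrime q) := by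
  have := isPrime_map q
  obtain ⟨e⟩ := nonempty_equiv 𝓕 (q.map (algebraMap A A[T;T⁻¹]))
  rw [show Groth.Agent.Ega4C.SkFlat.MinLe k (Localization.AtPrime (ext 𝓕 q)) ↔
    Groth.Agent.Ega4C.SkFlat.MinLe k (Localization.AtPrime (q.map (algebraMap A A[T;T⁻¹])))
    from Groth.Agent.Ega4C.SkFlat.minLe_congr k e]
  have := LaurFib.smooth A
  have hc : (q.map (algebraMap A A[T;T⁻¹])).comap (algebraMap A A[T;T⁻¹]) = q := comap_map_C q
  obtain ⟨h1, h2⟩ := LaurFib.dim_depth_of_map_eq (A := A) (q.map (algebraMap A A[T;T⁻¹]))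
    (by rw [hc])
  unfold Groth.Agent.Ega4C.SkFlat.MinLe
  rw [h1, h2]
  constructor
  · intro h
    exact localization_congr hc (fun S _ _ => min (k : WithBot ℕ∞) (ringKrullDim S) ≤
      ((depth S S : ℕ∞) : WithBot ℕ∞)) h
  · intro h
    exact localization_congr hc.symm (fun S _ _ => min (k : WithBot ℕ∞) (ringKrullDim S) ≤
      ((depth S S : ℕ∞) : WithBot ℕ∞)) h

theorem isCM_ext_iff [IsNoetherianRing A] (q : Ideal A) [q.IsPrime] :
    IsCohenMacaulayLocalRing (Localization.AtPrime (ext 𝓕 q)) ↔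
    IsCohenMacaulayLocalRing (Localization.AtPrime q) := by
  rw [isCM_iff_of_notMem 𝓕 _ (u_notMem_ext 𝓕 q)]
  constructor
  · intro h
    exact localization_congr (comap_ext 𝓕 q) (fun S _ _ => IsCohenMacaulayLocalRing S) h
  · intro h
    exact localization_congr (comap_ext 𝓕 q).symm (fun S _ _ => IsCohenMacaulayLocalRing S) h

/-- `F 1` is proper if the filtration is separated. -/
theorem F_one_ne_top (h : ⨅ n, 𝓕.F n = ⊥) [Nontrivial A] : 𝓕.F 1 ≠ ⊤ := by
  intro h1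
  have hn : ∀ n, 𝓕.F n = ⊤ := by
    intro n
    induction n with
    | zero => exact 𝓕.zero_eq
    | succ n ih =>
      rw [eq_top_iff]
      calc (⊤ : Ideal A) = 𝓕.F n * 𝓕.F 1 := by rw [ih, h1, Ideal.top_mul]
        _ ≤ 𝓕.F (n + 1) := 𝓕.mul_le n 1
  have : (⊥ : Ideal A) = ⊤ := by
    rw [← h, eq_top_iff, le_iInf_iff]
    intro n
    rw [hn n]
  exact bot_ne_top this

/-- For an ideal `q ⊇ F 1`, the ring homomorphism `R' → A/q` killing everything in degree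
`≠ 0`. -/
noncomputable def ev (q : Ideal A) (hq : 𝓕.F 1 ≤ q) : 𝓕.extRees →+* A ⧸ q where
  toFun f := Ideal.Quotient.mk q ((f : A[T;T⁻¹]).coeff 0)
  map_one' := by
    change Ideal.Quotient.mk q ((1 : A[T;T⁻¹]).coeff 0) = 1
    rw [← T_zero, T_apply, if_pos rfl, map_one]
  map_zero' := by
    change Ideal.Quotient.mk q ((0 : A[T;T⁻¹]).coeff 0) = 0
    simp
  map_add' f g := by
    change Ideal.Quotient.mk q (((f : A[T;T⁻¹]) + g).coeff 0) = _
    rw [AddMonoidAlgebra.coeff_add, Finsupp.add_apply, map_add]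
  map_mul' f g := by
    have hterm : ∀ n : ℤ, n ≠ 0 → ∀ a ∈ 𝓕.F n.toNat, ∀ h : 𝓕.extRees,
        a * (h : A[T;T⁻¹]).coeff (-n) ∈ q := by
      intro n hn a ha h
      rcases lt_or_gt_of_ne hn with h0 | h0
      · refine q.mul_mem_left _ (hq ?_)
        exact 𝓕.antitone (show 1 ≤ (-n).toNat by omega) (h.2 (-n))
      · refine q.mul_mem_right _ (hq ?_)
        exact 𝓕.antitone (show 1 ≤ n.toNat by omega) ha
    change Ideal.Quotient.mk q (((f : A[T;T⁻¹]) * g).coeff 0) = _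
    have h1 : ((f : A[T;T⁻¹]) * g).coeff 0 =
        ∑ n ∈ (f : A[T;T⁻¹]).coeff.support,
          (f : A[T;T⁻¹]).coeff n * (g : A[T;T⁻¹]).coeff (-n) := by
      conv_lhs => rw [eq_sum (f : A[T;T⁻¹]), Finset.sum_mul]
      rw [AddMonoidAlgebra.coeff_sum, Finsupp.finsetSum_apply]
      refine Finset.sum_congr rfl fun n _ => ?_
      rw [mul_assoc, coeff_C_mul, mul_comm (T n), coeff_mul_T, zero_sub]
    rw [h1, map_sum]
    by_cases h0 : (0 : ℤ) ∈ (f : A[T;T⁻¹]).coeff.support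
    · rw [Finset.sum_eq_single_of_mem 0 h0]
      · rw [neg_zero, map_mul]
      · intro n _ hn
        rw [Ideal.Quotient.eq_zero_iff_mem]
        exact hterm n hn _ (f.2 n) g
    · rw [Finsupp.notMem_support_iff.mp h0, map_zero, zero_mul]
      refine Finset.sum_eq_zero fun n hn => ?_
      rw [Ideal.Quotient.eq_zero_iff_mem]
      refine hterm n ?_ _ (f.2 n) g
      rintro rfl
      exact h0 hn

/-- The prime `(q, u, R_+)` of `R'`. -/
noncomputable def big (q : Ideal A) (hq : 𝓕.F 1 ≤ q) : Ideal 𝓕.extRees :=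
  RingHom.ker (ev 𝓕 q hq)

theorem mem_big_iff (q : Ideal A) (hq : 𝓕.F 1 ≤ q) (f : 𝓕.extRees) :
    f ∈ big 𝓕 q hq ↔ (f : A[T;T⁻¹]).coeff 0 ∈ q := by
  rw [big, RingHom.mem_ker]
  exact Ideal.Quotient.eq_zero_iff_mem

instance isPrime_big (q : Ideal A) [q.IsPrime] (hq : 𝓕.F 1 ≤ q) : (big 𝓕 q hq).IsPrime :=
  RingHom.ker_isPrime _

theorem u_mem_big (q : Ideal A) (hq : 𝓕.F 1 ≤ q) : 𝓕.u ∈ big 𝓕 q hq := by
  rw [mem_big_iff, coe_u, T_apply, if_neg (by decide)]
  exact zero_mem _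

theorem ext_le_big (q : Ideal A) (hq : 𝓕.F 1 ≤ q) : ext 𝓕 q ≤ big 𝓕 q hq := by
  intro f hf
  rw [mem_big_iff]
  exact (mem_ext_iff 𝓕 q f).mp hf 0

end K830.ExtRees
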