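import Groth.Agent.FiltBl.K830.ExtRees3
import Groth.Agent.Ega4A.RkBasic
import Groth.Agent.CalgA.SerreLocal
import Groth.Agent.Ega4A.CMModule

/-!
Cohen-Macaulayness and `(S_k)` of extended Rees algebras and associated graded rings.
-/

set_option autoImplicit false
universe u

open LaurentPolynomial IsLocalRing LocCoh TensorProduct

namespace K830.ExtRees

open Groth.Agent.Ega4C.SkFlat (MinLe)

/-- Localizing a Cohen–Macaulay local ring `R_p` at `p' ≤ p`. -/
theorem cm_of_le {R : Type u} [CommRing R] (p p' : Ideal R) [p.IsPrime] [p'.IsPrime] (h : p' ≤ p)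
    (hCM : LocCoh.IsCohenMacaulayLocalRing (Localization.AtPrime p)) :
    LocCoh.IsCohenMacaulayLocalRing (Localization.AtPrime p') := by
  obtain ⟨Q, hQ, hQp⟩ := Groth.Agent.Ega4A.RkBasic.exists_prime_comap_eq p h
  obtain ⟨e⟩ := Groth.Agent.CalgA.SerreLocal.nonempty_localization_localization_equiv p Q
  subst hQp
  let D := Localization.AtPrime p
  let e2 : (Localization.AtPrime Q) ≃ₗ[Localization.AtPrime Q] LocalizedModule Q.primeCompl D :=
    (AlgebraTensorModule.rid D (Localization.AtPrime Q) (Localization.AtPrime Q)).symm ≪≫ₗ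
      (LocalizedModule.isBaseChange Q.primeCompl D).equiv
  have hnt : Nontrivial (LocalizedModule Q.primeCompl D) := e2.symm.toEquiv.nontrivial
  have h1 := Groth.Agent.Ega4A.CMModule.isCohenMacaulayModule_localizedModule (R := D) (M := D)
    LocCoh.IsCohenMacaulayLocalRing.supportDim_eq_depth Q
  rw [Groth.Agent.Ega4A.CMModule.isCohenMacaulayModule_congr e2] at h1
  have h2 : LocCoh.IsCohenMacaulayLocalRing (Localization.AtPrime Q) :=
    { supportDim_eq_depth := h1 }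
  exact Groth.Agent.Ega4A.CMModule.isCohenMacaulayLocalRing_of_ringEquiv e.symm

variable {A : Type u} [CommRing A] (𝓕 : FiltBl.IdealFiltration A)

theorem ext_mono {q q' : Ideal A} (h : q ≤ q') : ext 𝓕 q ≤ ext 𝓕 q' := by
  intro f hf
  rw [mem_ext_iff] at hf ⊢
  exact fun n => h (hf n)

/-- primes over `u` come from the quotient by `u`. -/
theorem exists_prime_gr {G : Type u} [CommRing G] (φ : 𝓕.extRees →+* G)
    (hφ : Function.Surjective φ) (hker : RingHom.ker φ = Ideal.span {𝓕.u})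
    (P : Ideal 𝓕.extRees) [P.IsPrime] (hu : 𝓕.u ∈ P) :
    ∃ p : Ideal G, p.IsPrime ∧ p.comap φ = P := by
  have h : RingHom.ker φ ≤ P := by
    rw [hker, Ideal.span_le]
    simpa using hu
  refine ⟨P.map φ, Ideal.map_isPrime_of_surjective hφ h, ?_⟩
  rw [Ideal.comap_map_of_surjective' _ hφ, sup_eq_left]
  exact h

theorem isCM_gr_iff {G : Type u} [CommRing G] (φ : 𝓕.extRees →+* G)
    (hφ : Function.Surjective φ) (hker : RingHom.ker φ = Ideal.span {𝓕.u}) [IsNoetherianRing A]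
    (hfg : Algebra.FiniteType A 𝓕.rees) (p : Ideal G) [p.IsPrime] :
    IsCohenMacaulayLocalRing (Localization.AtPrime (p.comap φ)) ↔
      IsCohenMacaulayLocalRing (Localization.AtPrime p) :=
  have := isNoetherianRing 𝓕 hfg
  ModReg.isCM_iff φ hφ 𝓕.u hker (isSMulRegular_u 𝓕) p

theorem minLe_gr_iff {G : Type u} [CommRing G] (φ : 𝓕.extRees →+* G)
    (hφ : Function.Surjective φ) (hker : RingHom.ker φ = Ideal.span {𝓕.u}) [IsNoetherianRing A]
    (hfg : Algebra.FiniteType A 𝓕.rees) (k : ℕ) (p : Ideal G) [p.IsPrime] :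
    MinLe (k + 1) (Localization.AtPrime (p.comap φ)) ↔
      MinLe k (Localization.AtPrime p) :=
  have := isNoetherianRing 𝓕 hfg
  ModReg.minLe_succ_iff φ hφ 𝓕.u hker (isSMulRegular_u 𝓕) p k

theorem isCM_iff' {G : Type u} [CommRing G] (φ : 𝓕.extRees →+* G)
    (hφ : Function.Surjective φ) (hker : RingHom.ker φ = Ideal.span {𝓕.u})
    [IsNoetherianRing A] [IsLocalRing A] (hsep : ⨅ n, 𝓕.F n = ⊥)
    (hfg : Algebra.FiniteType A 𝓕.rees) :
    LocCoh.IsCohenMacaulayRing 𝓕.extRees ↔ LocCoh.IsCohenMacaulayRing G := by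
  have hN := isNoetherianRing 𝓕 hfg
  constructor
  · intro h
    have hN' := isNoetherianRing_of_surjective 𝓕.extRees G φ hφ
    refine { isCohenMacaulayLocalRing_localization := fun p hp => ?_ }
    exact (isCM_gr_iff 𝓕 φ hφ hker hfg p).mp (h.isCohenMacaulayLocalRing_localization _)
  · intro h
    have h1 : ∀ (P : Ideal 𝓕.extRees) [P.IsPrime], 𝓕.u ∈ P →
        IsCohenMacaulayLocalRing (Localization.AtPrime P) := by
      intro P hP hu
      obtain ⟨p, hp, rfl⟩ := exists_prime_gr 𝓕 φ hφ hker P hu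
      exact (isCM_gr_iff 𝓕 φ hφ hker hfg p).mpr (h.isCohenMacaulayLocalRing_localization _)
    have hle : 𝓕.F 1 ≤ maximalIdeal A := le_maximalIdeal (F_one_ne_top 𝓕 hsep)
    have h2 : ∀ (q : Ideal A) [q.IsPrime], IsCohenMacaulayLocalRing (Localization.AtPrime q) := by
      intro q hq
      rw [← isCM_ext_iff 𝓕 q]
      exact cm_of_le (big 𝓕 (maximalIdeal A) hle) _
        ((ext_mono 𝓕 (le_maximalIdeal hq.ne_top)).trans (ext_le_big 𝓕 _ hle))
        (h1 _ (u_mem_big 𝓕 _ hle))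
    refine { isCohenMacaulayLocalRing_localization := fun P hP => ?_ }
    by_cases hu : 𝓕.u ∈ P
    · exact h1 P hu
    · rw [isCM_iff_of_notMem 𝓕 P hu]
      exact h2 _

theorem hasSk_iff' {G : Type u} [CommRing G] (φ : 𝓕.extRees →+* G)
    (hφ : Function.Surjective φ) (hker : RingHom.ker φ = Ideal.span {𝓕.u}) [IsNoetherianRing A]
    (hfg : Algebra.FiniteType A 𝓕.rees) (k : ℕ) :
    LocCoh.HasSk (k + 1) 𝓕.extRees 𝓕.extRees ↔
      (LocCoh.HasSk k G G ∧ LocCoh.HasSk (k + 1) A A) := by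
  have hN := isNoetherianRing 𝓕 hfg
  rw [Groth.Agent.Ega4C.SkFlat.hasSk_iff', Groth.Agent.Ega4C.SkFlat.hasSk_iff',
    Groth.Agent.Ega4C.SkFlat.hasSk_iff']
  constructor
  · intro h
    exact ⟨fun p hp => (minLe_gr_iff 𝓕 φ hφ hker hfg k p).mp (h _),
      fun q hq => (minLe_ext_iff 𝓕 (k + 1) q).mp (h _)⟩
  · rintro ⟨h1, h2⟩ P hP
    by_cases hu : 𝓕.u ∈ P
    · obtain ⟨p, hp, rfl⟩ := exists_prime_gr 𝓕 φ hφ hker P hu
      exact (minLe_gr_iff 𝓕 φ hφ hker hfg k p).mpr (h1 _)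
    · exact minLe_of_notMem 𝓕 (k + 1) P hu (h2 _)

theorem isCM_iff [IsNoetherianRing A] [IsLocalRing A] (hsep : ⨅ n, 𝓕.F n = ⊥)
    (hfg : Algebra.FiniteType A 𝓕.rees) :
    LocCoh.IsCohenMacaulayRing 𝓕.extRees ↔ LocCoh.IsCohenMacaulayRing 𝓕.Gr :=
  isCM_iff' 𝓕 (Ideal.Quotient.mk (Ideal.span {𝓕.u})) Ideal.Quotient.mk_surjective Ideal.mk_ker
    hsep hfg

theorem hasSk_quot_iff {R : Type u} [CommRing R] (I : Ideal R) (k : ℕ) :
    LocCoh.HasSk k (R ⧸ I) (R ⧸ I) ↔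
      @LocCoh.HasSk k (R ⧸ I) (Ideal.Quotient.commRing I) (R ⧸ I)
        (@Ring.toAddCommGroup (R ⧸ I) (@CommRing.toRing (R ⧸ I) (Ideal.Quotient.commRing I)))
        (@Semiring.toModule (R ⧸ I) (@CommSemiring.toSemiring (R ⧸ I)
          (@CommRing.toCommSemiring (R ⧸ I) (Ideal.Quotient.commRing I)))) := Iff.rfl

theorem hasSk_iff [IsNoetherianRing A] (hfg : Algebra.FiniteType A 𝓕.rees) (k : ℕ) :
    LocCoh.HasSk (k + 1) 𝓕.extRees 𝓕.extRees ↔
      (LocCoh.HasSk k 𝓕.Gr 𝓕.Gr ∧ LocCoh.HasSk (k + 1) A A) := by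
  have key := @hasSk_iff' A _ 𝓕 𝓕.Gr (Ideal.Quotient.commRing _)
    (Ideal.Quotient.mk (Ideal.span {𝓕.u})) Ideal.Quotient.mk_surjective Ideal.mk_ker _ hfg k
  constructor
  · intro h
    refine ⟨?_, ?_⟩
    · apply (hasSk_quot_iff (Ideal.span {𝓕.u}) k).mpr
      exact (key.mp h).1
    · exact (key.mp h).2
  · intro h
    have h1 := (hasSk_quot_iff (Ideal.span {𝓕.u}) k).mp h.1
    exact key.mpr ⟨h1, h.2⟩

end K830.ExtRees
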