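import Groth.Agent.FiltBl.K830.ExtRees3
import Groth.Agent.FiltBl.K830.ExtRees4
import Groth.Agent.LoccohA.GorBC
import Groth.Agent.LoccohB.GorBasic
import Groth.Agent.S0342
import Groth.Agent.S0343

/-!
Gorensteinness of extended Rees algebras and associated graded rings.
-/

set_option autoImplicit false
universe u

open LaurentPolynomial IsLocalRing LocCoh TensorProduct

namespace K830.ExtRees

open Groth.Agent.LoccohA.GorBC (isGorensteinLocalRing_of_ringEquiv
  isGorensteinLocalRing_iff_of_ringEquiv)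

section Smooth

variable {A : Type u} [CommRing A]
variable {L : Type u} [CommRing L] [Algebra A L]

theorem gor_iff_aux [Algebra.Smooth A L] [IsNoetherianRing A] (p : Ideal A) [p.IsPrime]
    (r : Ideal L) [r.IsPrime] (h : r.comap (algebraMap A L) = p) :
    IsGorensteinLocalRing (Localization.AtPrime r) ↔
      IsGorensteinLocalRing (Localization.AtPrime p) := by
  obtain ⟨Q, hQ, hQ'⟩ := Groth.Agent.Ega4C.FibreTower.exists_prime_fibre (A := A) p r h
  subst hQ'
  have : IsNoetherianRing L := Algebra.FiniteType.isNoetherianRing A L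
  have : Module.Flat A L := inferInstance
  have : IsRegularRing (p.Fiber L) :=
    Groth.Agent.Ega4A.RegEtale.isRegularRing_of_smooth p.ResidueField _
  have h1 : IsRegularLocalRing (Localization.AtPrime Q) :=
    IsRegularRing.isRegularLocalRing_localization Q
  rw [Groth.Agent.LoccohA.GorBC.isGorensteinLocalRing_localization_iff p Q]
  exact ⟨fun h => h.1, fun h => ⟨h, Groth.Agent.S0342.result _⟩⟩

end Smooth

/-- Localizing a Gorenstein local ring `R_p` at `p' ≤ p`. -/
theorem gor_of_le {R : Type u} [CommRing R] (p p' : Ideal R) [p.IsPrime] [p'.IsPrime] (h : p' ≤ p)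
    (hG : IsGorensteinLocalRing (Localization.AtPrime p)) :
    IsGorensteinLocalRing (Localization.AtPrime p') := by
  obtain ⟨Q, hQ, hQp⟩ := Groth.Agent.Ega4A.RkBasic.exists_prime_comap_eq p h
  obtain ⟨e⟩ := Groth.Agent.CalgA.SerreLocal.nonempty_localization_localization_equiv p Q
  subst hQp
  have h1 := Groth.Agent.LoccohB.GorBasic.isGorensteinRing_of_isGorensteinLocalRing hG
  exact isGorensteinLocalRing_of_ringEquiv e.symm (h1.isGorensteinLocalRing_localization Q)

/-- Local rings along `V(x)`. -/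
theorem gor_modReg {B G : Type u} [CommRing B] [CommRing G] [IsNoetherianRing B]
    (φ : B →+* G) (hφ : Function.Surjective φ) (x : B)
    (hker : RingHom.ker φ = Ideal.span {x}) (hx : IsSMulRegular B x) (p : Ideal G) [p.IsPrime] :
    IsGorensteinLocalRing (Localization.AtPrime (p.comap φ)) ↔
      IsGorensteinLocalRing (Localization.AtPrime p) := by
  obtain ⟨e⟩ := ModReg.nonempty_equiv φ hφ x hker p
  have hxp : φ x ∈ p := by
    have : φ x = 0 := by
      rw [← RingHom.mem_ker, hker]
      exact Ideal.mem_span_singleton_self x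
    rw [this]
    exact zero_mem _
  have hreg : IsSMulRegular (Localization.AtPrime (p.comap φ))
      (algebraMap B (Localization.AtPrime (p.comap φ)) x) :=
    IsSMulRegular.of_flat (S := Localization.AtPrime (p.comap φ)) hx
  have hmem : algebraMap B (Localization.AtPrime (p.comap φ)) x ∈
      maximalIdeal (Localization.AtPrime (p.comap φ)) :=
    (IsLocalization.AtPrime.to_map_mem_maximal_iff _ (p.comap φ) x).mpr hxp
  rw [Groth.Agent.S0343.result _ _ hmem hreg]
  exact isGorensteinLocalRing_iff_of_ringEquiv e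

variable {A : Type u} [CommRing A] (𝓕 : FiltBl.IdealFiltration A)

theorem isGor_iff_of_notMem [IsNoetherianRing A] (P : Ideal 𝓕.extRees) [P.IsPrime]
    (hu : 𝓕.u ∉ P) :
    IsGorensteinLocalRing (Localization.AtPrime P) ↔
    IsGorensteinLocalRing (Localization.AtPrime (P.comap (algebraMap A 𝓕.extRees))) := by
  obtain ⟨Q, hQ, rfl⟩ := exists_prime 𝓕 P hu
  obtain ⟨e⟩ := nonempty_equiv 𝓕 Q
  rw [isGorensteinLocalRing_iff_of_ringEquiv e]
  have := LaurFib.smooth A
  exact gor_iff_aux _ Q rfl

theorem isGor_ext_iff [IsNoetherianRing A] (q : Ideal A) [q.IsPrime] :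
    IsGorensteinLocalRing (Localization.AtPrime (ext 𝓕 q)) ↔
    IsGorensteinLocalRing (Localization.AtPrime q) := by
  rw [isGor_iff_of_notMem 𝓕 _ (u_notMem_ext 𝓕 q)]
  constructor
  · intro h
    exact localization_congr (comap_ext 𝓕 q) (fun S _ _ => IsGorensteinLocalRing S) h
  · intro h
    exact localization_congr (comap_ext 𝓕 q).symm (fun S _ _ => IsGorensteinLocalRing S) h

theorem isGor_gr_iff {G : Type u} [CommRing G] (φ : 𝓕.extRees →+* G)
    (hφ : Function.Surjective φ) (hker : RingHom.ker φ = Ideal.span {𝓕.u}) [IsNoetherianRing A]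
    (hfg : Algebra.FiniteType A 𝓕.rees) (p : Ideal G) [p.IsPrime] :
    IsGorensteinLocalRing (Localization.AtPrime (p.comap φ)) ↔
      IsGorensteinLocalRing (Localization.AtPrime p) :=
  have := isNoetherianRing 𝓕 hfg
  gor_modReg φ hφ 𝓕.u hker (isSMulRegular_u 𝓕) p

theorem isGor_iff' {G : Type u} [CommRing G] (φ : 𝓕.extRees →+* G)
    (hφ : Function.Surjective φ) (hker : RingHom.ker φ = Ideal.span {𝓕.u})
    [IsNoetherianRing A] [IsLocalRing A] (hsep : ⨅ n, 𝓕.F n = ⊥)
    (hfg : Algebra.FiniteType A 𝓕.rees) :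
    LocCoh.IsGorensteinRing 𝓕.extRees ↔ LocCoh.IsGorensteinRing G := by
  have hN := isNoetherianRing 𝓕 hfg
  constructor
  · intro h
    have hN' := isNoetherianRing_of_surjective 𝓕.extRees G φ hφ
    refine { isGorensteinLocalRing_localization := fun p hp => ?_ }
    exact (isGor_gr_iff 𝓕 φ hφ hker hfg p).mp (h.isGorensteinLocalRing_localization _)
  · intro h
    have h1 : ∀ (P : Ideal 𝓕.extRees) [P.IsPrime], 𝓕.u ∈ P →
        IsGorensteinLocalRing (Localization.AtPrime P) := by
      intro P hP hu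
      obtain ⟨p, hp, rfl⟩ := exists_prime_gr 𝓕 φ hφ hker P hu
      exact (isGor_gr_iff 𝓕 φ hφ hker hfg p).mpr (h.isGorensteinLocalRing_localization _)
    have hle : 𝓕.F 1 ≤ maximalIdeal A := le_maximalIdeal (F_one_ne_top 𝓕 hsep)
    have h2 : ∀ (q : Ideal A) [q.IsPrime], IsGorensteinLocalRing (Localization.AtPrime q) := by
      intro q hq
      rw [← isGor_ext_iff 𝓕 q]
      exact gor_of_le (big 𝓕 (maximalIdeal A) hle) _
        ((ext_mono 𝓕 (le_maximalIdeal hq.ne_top)).trans (ext_le_big 𝓕 _ hle))
        (h1 _ (u_mem_big 𝓕 _ hle))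
    refine { isGorensteinLocalRing_localization := fun P hP => ?_ }
    by_cases hu : 𝓕.u ∈ P
    · exact h1 P hu
    · rw [isGor_iff_of_notMem 𝓕 P hu]
      exact h2 _

end K830.ExtRees
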