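import Groth.Agent.FiltBl.K830.ExtRees3
import Mathlib.RingTheory.Ideal.UFD
import Mathlib.RingTheory.Polynomial.UniqueFactorization

/-!
Factoriality of extended Rees algebras.
-/

set_option autoImplicit false
universe u

open LaurentPolynomial

namespace K830.ExtRees

/-- Units of `A[T;T⁻¹]`, `A` a domain, are monomials. -/
theorem exists_of_isUnit {A : Type u} [CommRing A] [IsDomain A] {f : A[T;T⁻¹]} (hf : IsUnit f) :
    ∃ (a : A) (n : ℤ), IsUnit a ∧ f = C a * T n := by
  obtain ⟨g, hg⟩ := hf.exists_right_inv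
  obtain ⟨m, F, hF⟩ := f.exists_T_pow
  obtain ⟨n, G, hG⟩ := g.exists_T_pow
  have h1 : F * G = Polynomial.X ^ (m + n) := by
    apply Polynomial.toLaurent_injective
    rw [map_mul, hF, hG, Polynomial.toLaurent_X_pow]
    calc f * T m * (g * T n) = (f * g) * (T m * T n) := by ring
      _ = T ((m : ℤ) + n) := by rw [hg, one_mul, ← T_add]
      _ = T ((m + n : ℕ) : ℤ) := by push_cast; rfl
  obtain ⟨i, hi, hFi⟩ := (dvd_prime_pow Polynomial.prime_X _).mp (Dvd.intro _ h1)
  obtain ⟨w, hw⟩ := hFi.symm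
  obtain ⟨a, ha, haw⟩ := Polynomial.isUnit_iff.mp w.isUnit
  refine ⟨a, (i : ℤ) - m, ha, ?_⟩
  have h2 : f = Polynomial.toLaurent F * T (-(m : ℤ)) := by
    rw [hF, mul_T_assoc, add_neg_cancel, T_zero, mul_one]
  rw [h2, ← hw, ← haw, map_mul, Polynomial.toLaurent_X_pow, Polynomial.toLaurent_C,
    mul_comm (T (i : ℤ)), mul_T_assoc, sub_eq_add_neg]

section

variable {A : Type u} [CommRing A] (𝓕 : FiltBl.IdealFiltration A)

theorem u_ne_zero [Nontrivial A] : 𝓕.u ≠ 0 := by
  intro h
  have h1 : (T (-1) : A[T;T⁻¹]) = 0 := congrArg Subtype.val h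
  have h2 : (T (-1) : A[T;T⁻¹]).coeff (-1) = 0 := by rw [h1]; simp
  rw [T_apply, if_pos rfl] at h2
  exact one_ne_zero h2

theorem algebraMap_unit {a : A} (ha : IsUnit a) (f : 𝓕.extRees)
    (hf : (f : A[T;T⁻¹]) = C a * T 0) : IsUnit f := by
  have : f = algebraMap A 𝓕.extRees a := by
    apply Subtype.ext
    rw [hf, T_zero, mul_one]
    rfl
  rw [this]
  exact ha.map _

theorem irreducible_u [IsDomain A] (hF : 𝓕.F 1 ≠ ⊤) : Irreducible 𝓕.u := by
  have key : ∀ (f : 𝓕.extRees) (a : A) (n : ℤ), IsUnit a → (f : A[T;T⁻¹]) = C a * T n →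
      n ≤ 0 := by
    intro f a n ha hf
    by_contra hn
    apply hF
    have h1 := f.2 n
    rw [hf, coeff_C_mul_T, if_pos rfl] at h1
    exact Ideal.eq_top_of_isUnit_mem _ (𝓕.antitone (show 1 ≤ n.toNat by omega) h1) ha
  constructor
  · intro h
    obtain ⟨g, hg⟩ := h.exists_right_inv
    have h1 : T (-1) * (g : A[T;T⁻¹]) = 1 := congrArg Subtype.val hg
    have h2 : (g : A[T;T⁻¹]) = C 1 * T 1 := by
      calc (g : A[T;T⁻¹]) = T 1 * (T (-1) * (g : A[T;T⁻¹])) := by
            rw [← mul_assoc, ← T_add]; simp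
        _ = C 1 * T 1 := by rw [h1]; simp
    have := key g 1 1 isUnit_one h2
    omega
  · intro f g hfg
    have h1 : T (-1) = (f : A[T;T⁻¹]) * (g : A[T;T⁻¹]) := congrArg Subtype.val hfg
    have h2 : IsUnit ((f : A[T;T⁻¹]) * (g : A[T;T⁻¹])) := by
      rw [← h1]; exact isUnit_T _
    have hfu : IsUnit (f : A[T;T⁻¹]) := isUnit_of_mul_isUnit_left h2
    have hgu : IsUnit (g : A[T;T⁻¹]) := isUnit_of_mul_isUnit_right h2
    obtain ⟨a, m, ha, hf⟩ := exists_of_isUnit hfu
    obtain ⟨b, n, hb, hg⟩ := exists_of_isUnit hgu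
    have hm := key f a m ha hf
    have hn := key g b n hb hg
    have h3 : (T (-1) : A[T;T⁻¹]) = C (a * b) * T (m + n) := by
      rw [h1, hf, hg, map_mul, T_add]
      ring
    have h4 : m + n = -1 := by
      have h5 : (T (-1) : A[T;T⁻¹]).coeff (-1) = (C (a * b) * T (m + n)).coeff (-1) := by
        rw [h3]
      rw [T_apply, if_pos rfl, coeff_C_mul_T] at h5
      by_contra hne
      rw [if_neg (fun h => hne h.symm)] at h5
      exact one_ne_zero h5
    rcases (show m = 0 ∨ n = 0 by omega) with rfl | rfl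
    · exact Or.inl (algebraMap_unit 𝓕 ha f hf)
    · exact Or.inr (algebraMap_unit 𝓕 hb g hg)

end

theorem ufd_of_polynomial (A : Type u) [CommRing A] [IsDomain A] [IsNoetherianRing A]
    [UniqueFactorizationMonoid (Polynomial A)] : UniqueFactorizationMonoid A := by
  refine { irreducible_iff_prime := fun {a} => ⟨fun ha => ?_, fun ha => ha.irreducible⟩ }
  rw [← Polynomial.prime_C_iff, ← UniqueFactorizationMonoid.irreducible_iff_prime]
  constructor
  · rw [Polynomial.isUnit_C]
    exact ha.not_isUnit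
  · intro f g hfg
    have ha0 : a ≠ 0 := ha.ne_zero
    have hfg0 : f * g ≠ 0 := by rw [← hfg]; exact Polynomial.C_ne_zero.mpr ha0
    have h0 : (f * g).natDegree = 0 := by rw [← hfg, Polynomial.natDegree_C]
    rw [Polynomial.natDegree_mul (left_ne_zero_of_mul hfg0) (right_ne_zero_of_mul hfg0)] at h0
    have hf := Polynomial.eq_C_of_natDegree_eq_zero (show f.natDegree = 0 by omega)
    have hg := Polynomial.eq_C_of_natDegree_eq_zero (show g.natDegree = 0 by omega)
    rw [hf, hg, ← Polynomial.C_mul, Polynomial.C_inj] at hfg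
    rcases ha.isUnit_or_isUnit hfg with h | h
    · left; rw [hf]; exact h.map _
    · right; rw [hg]; exact h.map _

theorem ufd_laurent_iff (A : Type u) [CommRing A] [IsDomain A] [IsNoetherianRing A] :
    UniqueFactorizationMonoid A[T;T⁻¹] ↔ UniqueFactorizationMonoid A := by
  rw [← UniqueFactorizationMonoid.iff_of_isLocalizationAway_of_prime
    (Polynomial.prime_X (R := A)) A[T;T⁻¹]]
  exact ⟨fun h => ufd_of_polynomial A, fun h => inferInstance⟩

theorem ufd_iff {A : Type u} [CommRing A] (𝓕 : FiltBl.IdealFiltration A) [IsDomain A]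
    [IsNoetherianRing A] (hsep : ⨅ n, 𝓕.F n = ⊥)
    (hfg : Algebra.FiniteType A 𝓕.rees) [IsDomain 𝓕.extRees] {G : Type u} [CommRing G]
    (φ : 𝓕.extRees →+* G)
    (hφ : Function.Surjective φ) (hker : RingHom.ker φ = Ideal.span {𝓕.u}) :
    UniqueFactorizationMonoid 𝓕.extRees ↔ (UniqueFactorizationMonoid A ∧ IsDomain G) := by
  have hN := isNoetherianRing 𝓕 hfg
  have hL := isLocalization 𝓕
  have hprime : Prime 𝓕.u ↔ IsDomain G := by
    rw [← Ideal.span_singleton_prime (u_ne_zero 𝓕), ← hker]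
    exact (RingHom.quotientKerEquivOfSurjective hφ).isDomain_iff.symm.trans
      (Ideal.Quotient.isDomain_iff_prime _) |>.symm
  constructor
  · intro h
    have hu : Prime 𝓕.u := (irreducible_u 𝓕 (F_one_ne_top 𝓕 hsep)).prime
    refine ⟨?_, hprime.mp hu⟩
    rw [← ufd_laurent_iff, ← UniqueFactorizationMonoid.iff_of_isLocalizationAway_of_prime hu]
    exact h
  · rintro ⟨h1, h2⟩
    rw [UniqueFactorizationMonoid.iff_of_isLocalizationAway_of_prime (hprime.mpr h2) A[T;T⁻¹],
      ufd_laurent_iff]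
    exact h1

end K830.ExtRees
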