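import Groth.Agent.FiltBl.K830.Tw
import Groth.Prelude.Def_GrLC
import Mathlib.RingTheory.GradedAlgebra.Radical
import Mathlib.RingTheory.RegularLocalRing.Polynomial
import Mathlib.RingTheory.AdjoinRoot
import Mathlib.RingTheory.Ideal.GoingUp
import Groth.Agent.CalgA.RegLoc
import Groth.Agent.Ega4A.RegDer

/-!
Quotients `R / (t - 1)` of a regular `ℤ`-graded ring by a homogeneous unit minus one.
-/

set_option autoImplicit false
universe u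

open DirectSum

namespace K830.GrUnit

variable {R : Type u} [CommRing R] (𝒜 : ℤ → AddSubgroup R) [GradedRing 𝒜]

theorem exists_inv_of_isUnit {i : ℤ} {a : R} (ha : a ∈ 𝒜 i) (hu : IsUnit a) :
    ∃ b ∈ 𝒜 (-i), a * b = 1 := by
  obtain ⟨c, hc⟩ := hu.exists_right_inv
  refine ⟨decompose 𝒜 c (-i), SetLike.coe_mem _, ?_⟩
  have := coe_decompose_mul_add_of_left_mem 𝒜 (j := -i) ha (b := c)
  rw [hc, add_neg_cancel] at this
  rw [← this, decompose_of_mem_same 𝒜 SetLike.GradedOne.one_mem]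

theorem inv_mem {i : ℤ} (t : Rˣ) (ht : (t : R) ∈ 𝒜 i) : ((t⁻¹ : Rˣ) : R) ∈ 𝒜 (-i) := by
  obtain ⟨b, hb, hb1⟩ := exists_inv_of_isUnit 𝒜 ht t.isUnit
  rwa [show ((t⁻¹ : Rˣ) : R) = b from Units.inv_eq_of_mul_eq_one_right hb1]

theorem zpow_mem {i : ℤ} (t : Rˣ) (ht : (t : R) ∈ 𝒜 i) (k : ℤ) :
    ((t ^ k : Rˣ) : R) ∈ 𝒜 (k * i) := by
  obtain ⟨n, rfl | rfl⟩ := k.eq_nat_or_neg
  · rw [zpow_natCast, Units.val_pow_eq_pow_val]
    have := SetLike.pow_mem_graded n ht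
    rwa [nsmul_eq_mul] at this
  · rw [zpow_neg, zpow_natCast, ← inv_pow, Units.val_pow_eq_pow_val]
    have := SetLike.pow_mem_graded n (inv_mem 𝒜 t ht)
    rwa [nsmul_eq_mul, mul_neg, ← neg_mul] at this

section

variable (t : Rˣ)

theorem mk_zpow (k : ℤ) : Ideal.Quotient.mk (Ideal.span {(t : R) - 1}) ((t ^ k : Rˣ) : R) = 1 := by
  have h1 : Ideal.Quotient.mk (Ideal.span {(t : R) - 1}) (t : R) = 1 := by
    rw [← map_one (Ideal.Quotient.mk (Ideal.span {(t : R) - 1})), Ideal.Quotient.eq]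
    exact Ideal.mem_span_singleton_self _
  have h2 : Units.map (Ideal.Quotient.mk (Ideal.span {(t : R) - 1})).toMonoidHom t = 1 :=
    Units.ext h1
  have h3 : Units.map (Ideal.Quotient.mk (Ideal.span {(t : R) - 1})).toMonoidHom (t ^ k) = 1 := by
    rw [map_zpow, h2, one_zpow]
  exact congrArg Units.val h3

theorem isIntegral_mk (N : ℕ) (hN : 0 < N) (ht : (t : R) ∈ 𝒜 (N : ℤ)) {i : ℤ} {r : R}
    (hr : r ∈ 𝒜 i) :
    IsIntegral (GrLC.deg0 𝒜) (Ideal.Quotient.mk (Ideal.span {(t : R) - 1}) r) := by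
  have hc : r ^ N * ((t ^ (-i) : Rˣ) : R) ∈ 𝒜 0 := by
    have h1 := SetLike.pow_mem_graded N hr
    have h2 := zpow_mem 𝒜 t ht (-i)
    have h3 := SetLike.GradedMul.mul_mem h1 h2
    rwa [nsmul_eq_mul, show (N : ℤ) * i + -i * (N : ℤ) = 0 by ring] at h3
  refine IsIntegral.of_pow hN ?_
  have h4 : (Ideal.Quotient.mk (Ideal.span {(t : R) - 1}) r) ^ N =
      algebraMap (GrLC.deg0 𝒜) (R ⧸ Ideal.span {(t : R) - 1}) ⟨_, hc⟩ := by
    change _ = Ideal.Quotient.mk (Ideal.span {(t : R) - 1}) (r ^ N * ((t ^ (-i) : Rˣ) : R))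
    rw [map_mul, mk_zpow, mul_one, map_pow]
  rw [h4]
  exact isIntegral_algebraMap

theorem isIntegral_quot (N : ℕ) (hN : 0 < N) (ht : (t : R) ∈ 𝒜 (N : ℤ)) :
    Algebra.IsIntegral (GrLC.deg0 𝒜) (R ⧸ Ideal.span {(t : R) - 1}) := by
  classical
  refine ⟨fun x => ?_⟩
  obtain ⟨r, rfl⟩ := Ideal.Quotient.mk_surjective x
  rw [← DirectSum.sum_support_decompose 𝒜 r, map_sum]
  exact IsIntegral.sum _ fun i _ => isIntegral_mk 𝒜 t N hN ht (SetLike.coe_mem _)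

variable [IsLocalRing (GrLC.deg0 𝒜)]

/-- Every homogeneous non-unit maps into every maximal ideal of `R / (t - 1)`. -/
theorem mk_mem_of_not_isUnit (N : ℕ) (hN : 0 < N) (ht : (t : R) ∈ 𝒜 (N : ℤ))
    (n : Ideal (R ⧸ Ideal.span {(t : R) - 1})) [n.IsMaximal] {i : ℤ} {a : R} (ha : a ∈ 𝒜 i)
    (hu : ¬ IsUnit a) : Ideal.Quotient.mk (Ideal.span {(t : R) - 1}) a ∈ n := by
  have := isIntegral_quot 𝒜 t N hN ht
  have hc : a ^ N * ((t ^ (-i) : Rˣ) : R) ∈ 𝒜 0 := by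
    have h1 := SetLike.pow_mem_graded N ha
    have h2 := zpow_mem 𝒜 t ht (-i)
    have h3 := SetLike.GradedMul.mul_mem h1 h2
    rwa [nsmul_eq_mul, show (N : ℤ) * i + -i * (N : ℤ) = 0 by ring] at h3
  have hcu : ¬ IsUnit (⟨_, hc⟩ : GrLC.deg0 𝒜) := by
    intro h
    have h1 : IsUnit (a ^ N * ((t ^ (-i) : Rˣ) : R)) := h.map (GrLC.deg0 𝒜).subtype
    have h2 := isUnit_of_mul_isUnit_left h1
    exact hu ((isUnit_pow_iff hN.ne').mp h2)
  have hmax : (n.comap (algebraMap (GrLC.deg0 𝒜) (R ⧸ Ideal.span {(t : R) - 1}))).IsMaximal :=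
    Ideal.isMaximal_comap_of_isIntegral_of_isMaximal n
  have hm := (IsLocalRing.mem_maximalIdeal _).mpr hcu
  rw [← IsLocalRing.eq_maximalIdeal hmax] at hm
  have hm' : Ideal.Quotient.mk (Ideal.span {(t : R) - 1}) (a ^ N * ((t ^ (-i) : Rˣ) : R)) ∈ n := hm
  rw [map_mul, mk_zpow, mul_one, map_pow] at hm'
  exact Ideal.IsPrime.mem_of_pow_mem inferInstance _ hm'

/-- The ideal generated by the homogeneous non-units. -/
def nuIdeal : Ideal R := Ideal.span {a | ∃ i, a ∈ 𝒜 i ∧ ¬ IsUnit a}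

omit [IsLocalRing (GrLC.deg0 𝒜)] in
variable {𝒜 t} in
theorem dvd_of_isUnit (N : ℕ) (hN : 0 < N) (ht : (t : R) ∈ 𝒜 (N : ℤ))
    (hmin : ∀ (n : ℤ), 0 < n → n < (N : ℤ) → ∀ s ∈ 𝒜 n, ¬ IsUnit s) {i : ℤ} {s : R}
    (hs : s ∈ 𝒜 i) (hu : IsUnit s) : (N : ℤ) ∣ i := by
  by_contra hd
  have hN' : (0 : ℤ) < N := by exact_mod_cast hN
  have h0 : 0 < i % (N : ℤ) := by
    rcases (Int.emod_nonneg i hN'.ne').lt_or_eq with h | h
    · exact h
    · exact absurd (Int.dvd_of_emod_eq_zero h.symm) hd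
  have h1 : i % (N : ℤ) < N := Int.emod_lt_of_pos i hN'
  have h2 := SetLike.GradedMul.mul_mem hs (zpow_mem 𝒜 t ht (-(i / (N : ℤ))))
  have h3 : i + -(i / (N : ℤ)) * (N : ℤ) = i % (N : ℤ) := by
    have := Int.emod_add_mul_ediv i (N : ℤ)
    linarith [mul_comm (N : ℤ) (i / (N : ℤ))]
  rw [h3] at h2
  exact hmin _ h0 h1 _ h2 (hu.mul (Units.isUnit _))

omit [IsLocalRing (GrLC.deg0 𝒜)] in
/-- Every element is congruent to a degree-zero element modulo `t - 1` and the homogeneous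
non-units. -/
theorem exists_deg0 (N : ℕ) (hN : 0 < N) (ht : (t : R) ∈ 𝒜 (N : ℤ))
    (hmin : ∀ (n : ℤ), 0 < n → n < (N : ℤ) → ∀ s ∈ 𝒜 n, ¬ IsUnit s) (r : R) :
    ∃ c ∈ 𝒜 0, r - c ∈ Ideal.span {(t : R) - 1} ⊔ nuIdeal 𝒜 := by
  classical
  have key : ∀ i : ℤ, ∀ a ∈ 𝒜 i, ∃ c ∈ 𝒜 0, a - c ∈ Ideal.span {(t : R) - 1} ⊔ nuIdeal 𝒜 := by
    intro i a ha
    by_cases hu : IsUnit a
    · obtain ⟨k, hk⟩ := dvd_of_isUnit N hN ht hmin ha hu
      refine ⟨a * ((t ^ (-k) : Rˣ) : R), ?_, ?_⟩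
      · have := SetLike.GradedMul.mul_mem ha (zpow_mem 𝒜 t ht (-k))
        rwa [hk, show (N : ℤ) * k + -k * (N : ℤ) = 0 by ring] at this
      · refine Ideal.mem_sup_left ?_
        rw [← Ideal.Quotient.eq, map_mul, mk_zpow, mul_one]
    · exact ⟨0, zero_mem _, by
        rw [sub_zero]; exact Ideal.mem_sup_right (Ideal.subset_span ⟨i, ha, hu⟩)⟩
  choose! f hf hf' using key
  refine ⟨∑ i ∈ (decompose 𝒜 r).support, f i (decompose 𝒜 r i), ?_, ?_⟩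
  · exact sum_mem fun i _ => hf i _ (SetLike.coe_mem _)
  · have hs : r - ∑ i ∈ (decompose 𝒜 r).support, f i (decompose 𝒜 r i) =
        ∑ i ∈ (decompose 𝒜 r).support, ((decompose 𝒜 r i : R) - f i (decompose 𝒜 r i)) := by
      rw [Finset.sum_sub_distrib, DirectSum.sum_support_decompose 𝒜 r]
    rw [hs]
    exact sum_mem fun i _ => hf' i _ (SetLike.coe_mem _)

theorem nuIdeal_le (N : ℕ) (hN : 0 < N) (ht : (t : R) ∈ 𝒜 (N : ℤ))
    (n : Ideal (R ⧸ Ideal.span {(t : R) - 1})) [n.IsMaximal] :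
    nuIdeal 𝒜 ≤ n.comap (Ideal.Quotient.mk (Ideal.span {(t : R) - 1})) := by
  unfold nuIdeal
  rw [Ideal.span_le]
  rintro a ⟨i, ha, hu⟩
  exact mk_mem_of_not_isUnit 𝒜 t N hN ht n ha hu

theorem sup_le (N : ℕ) (hN : 0 < N) (ht : (t : R) ∈ 𝒜 (N : ℤ))
    (n : Ideal (R ⧸ Ideal.span {(t : R) - 1})) [n.IsMaximal] :
    Ideal.span {(t : R) - 1} ⊔ nuIdeal 𝒜 ≤
      n.comap (Ideal.Quotient.mk (Ideal.span {(t : R) - 1})) := by
  refine _root_.sup_le ?_ (nuIdeal_le 𝒜 t N hN ht n)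
  rw [Ideal.span_le, Set.singleton_subset_iff]
  change Ideal.Quotient.mk _ ((t : R) - 1) ∈ n
  rw [Ideal.Quotient.eq_zero_iff_mem.mpr (Ideal.mem_span_singleton_self _)]
  exact n.zero_mem

/-- The preimage of a maximal ideal of `R / (t - 1)` is `(t - 1) + nuIdeal`. -/
theorem comap_eq (N : ℕ) (hN : 0 < N) (ht : (t : R) ∈ 𝒜 (N : ℤ))
    (hmin : ∀ (n : ℤ), 0 < n → n < (N : ℤ) → ∀ s ∈ 𝒜 n, ¬ IsUnit s)
    (n : Ideal (R ⧸ Ideal.span {(t : R) - 1})) [hn : n.IsMaximal] :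
    n.comap (Ideal.Quotient.mk (Ideal.span {(t : R) - 1})) =
      Ideal.span {(t : R) - 1} ⊔ nuIdeal 𝒜 := by
  refine le_antisymm (fun r hr => ?_) (sup_le 𝒜 t N hN ht n)
  obtain ⟨c, hc, hrc⟩ := exists_deg0 𝒜 t N hN ht hmin r
  have hcn : c ∈ n.comap (Ideal.Quotient.mk (Ideal.span {(t : R) - 1})) := by
    have := Ideal.sub_mem _ hr (sup_le 𝒜 t N hN ht n hrc)
    rwa [sub_sub_cancel] at this
  have hcu : ¬ IsUnit c := by
    intro h
    exact (Ideal.IsPrime.comap (Ideal.Quotient.mk (Ideal.span {(t : R) - 1}))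
      (hK := hn.isPrime)).ne_top (Ideal.eq_top_of_isUnit_mem _ hcn h)
  have h2 : c ∈ Ideal.span {(t : R) - 1} ⊔ nuIdeal 𝒜 :=
    Ideal.mem_sup_right (Ideal.subset_span ⟨0, hc, hcu⟩)
  have := Ideal.add_mem _ hrc h2
  rwa [sub_add_cancel] at this

theorem isLocalRing_quot [Nontrivial (R ⧸ Ideal.span {(t : R) - 1})]
    (N : ℕ) (hN : 0 < N) (ht : (t : R) ∈ 𝒜 (N : ℤ))
    (hmin : ∀ (n : ℤ), 0 < n → n < (N : ℤ) → ∀ s ∈ 𝒜 n, ¬ IsUnit s) :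
    IsLocalRing (R ⧸ Ideal.span {(t : R) - 1}) := by
  refine IsLocalRing.of_unique_max_ideal ?_
  obtain ⟨n, hn⟩ := Ideal.exists_maximal (R ⧸ Ideal.span {(t : R) - 1})
  refine ⟨n, hn, fun n' hn' => ?_⟩
  have hn'' : n'.IsMaximal := hn'
  have h1 := comap_eq 𝒜 t N hN ht hmin n
  have h2 := comap_eq 𝒜 t N hN ht hmin n'
  exact Ideal.comap_injective_of_surjective _ Ideal.Quotient.mk_surjective (h2.trans h1.symm)

omit [IsLocalRing (GrLC.deg0 𝒜)] in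
theorem nuIdeal_isPrime (hne : nuIdeal 𝒜 ≠ ⊤) : (nuIdeal 𝒜).IsPrime := by
  have hI : (nuIdeal 𝒜).IsHomogeneous 𝒜 :=
    Ideal.homogeneous_span 𝒜 _ fun x hx => ⟨hx.choose, hx.choose_spec.1⟩
  refine hI.isPrime_of_homogeneous_mem_or_mem hne ?_
  rintro x y ⟨i, hx⟩ ⟨j, hy⟩ hxy
  by_contra hcon
  push Not at hcon
  have hxu : IsUnit x := by
    by_contra h; exact hcon.1 (Ideal.subset_span ⟨i, hx, h⟩)
  have hyu : IsUnit y := by
    by_contra h; exact hcon.2 (Ideal.subset_span ⟨j, hy, h⟩)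
  exact hne (Ideal.eq_top_of_isUnit_mem _ hxy (hxu.mul hyu))

end

/-- `t - 1` does not lie in `nuIdeal`. -/
theorem sub_one_notMem {t : Rˣ} {N : ℕ} (hN : 0 < N) (ht : (t : R) ∈ 𝒜 (N : ℤ))
    (hne : nuIdeal 𝒜 ≠ ⊤) : (t : R) - 1 ∉ nuIdeal 𝒜 := by
  intro h
  have hI : (nuIdeal 𝒜).IsHomogeneous 𝒜 :=
    Ideal.homogeneous_span 𝒜 _ fun x hx => ⟨hx.choose, hx.choose_spec.1⟩
  have h1 := hI (N : ℤ) h
  have h2 : (decompose 𝒜 ((t : R) - 1) (N : ℤ) : R) = t := by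
    rw [DirectSum.decompose_sub, DirectSum.sub_apply, AddSubgroupClass.coe_sub,
      decompose_of_mem_same 𝒜 ht,
      decompose_of_mem_ne 𝒜 (SetLike.GradedOne.one_mem) (by exact_mod_cast hN.ne), sub_zero]
  rw [h2] at h1
  exact hne (Ideal.eq_top_of_isUnit_mem _ h1 t.isUnit)

end K830.GrUnit
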