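import Groth.Agent.FiltBl.K830.GrUnit
import Groth.Agent.CalgB.RegHom1

/-!
`R[U]/(U^N - t)` is a Laurent polynomial ring over `R/(t-1)`; regularity of both.
-/

set_option autoImplicit false
universe u

open DirectSum Polynomial

namespace K830.GrUnit

open K830.Tw

variable {R : Type u} [CommRing R] (𝒜 : ℤ → AddSubgroup R) [GradedRing 𝒜]

section Iso

variable (t : Rˣ) (N : ℕ)

theorem root_pow : AdjoinRoot.root (X ^ N - C (t : R)) ^ N =
    AdjoinRoot.of (X ^ N - C (t : R)) (t : R) := by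
  have := AdjoinRoot.eval₂_root (X ^ N - C (t : R))
  rw [eval₂_sub, eval₂_X_pow, eval₂_C, sub_eq_zero] at this
  exact this

/-- The unit `U` of `R[U]/(U^N - t)`. -/
noncomputable def rootUnit (hN : 0 < N) :
    (AdjoinRoot (X ^ N - C (t : R)))ˣ :=
  ((isUnit_pow_iff (a := AdjoinRoot.root (X ^ N - C (t : R))) hN.ne').mp (by
    rw [root_pow]
    exact t.isUnit.map _)).unit

theorem coe_rootUnit (hN : 0 < N) :
    (rootUnit t N hN : AdjoinRoot (X ^ N - C (t : R))) = AdjoinRoot.root (X ^ N - C (t : R)) :=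
  IsUnit.unit_spec _

theorem rootUnit_pow (hN : 0 < N) :
    ((rootUnit t N hN ^ N : (AdjoinRoot (X ^ N - C (t : R)))ˣ) : AdjoinRoot (X ^ N - C (t : R))) =
      AdjoinRoot.of (X ^ N - C (t : R)) (t : R) := by
  rw [Units.val_pow_eq_pow_val, coe_rootUnit, root_pow]

theorem tw_t (hN : 0 < N) (ht : (t : R) ∈ 𝒜 (N : ℤ)) :
    tw 𝒜 (AdjoinRoot.of (X ^ N - C (t : R))) (rootUnit t N hN)⁻¹ (t : R) = 1 := by
  rw [tw_of_mem 𝒜 _ _ ht, zpow_natCast, inv_pow, ← rootUnit_pow t N hN]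
  exact Units.mul_inv _

/-- The map `R / (t - 1) → R[U]/(U^N - t)`, `r ↦ r U^{-i}` for `r` of degree `i`. -/
noncomputable def descend (hN : 0 < N) (ht : (t : R) ∈ 𝒜 (N : ℤ)) :
    (R ⧸ Ideal.span {(t : R) - 1}) →+* AdjoinRoot (X ^ N - C (t : R)) :=
  Ideal.Quotient.lift _ (tw 𝒜 (AdjoinRoot.of (X ^ N - C (t : R))) (rootUnit t N hN)⁻¹) (by
    intro a ha
    obtain ⟨b, rfl⟩ := Ideal.mem_span_singleton.mp ha
    rw [map_mul, map_sub, tw_t 𝒜 t N hN ht, map_one, sub_self, zero_mul])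

theorem descend_mk (hN : 0 < N) (ht : (t : R) ∈ 𝒜 (N : ℤ)) {i : ℤ} {r : R} (hr : r ∈ 𝒜 i) :
    descend 𝒜 t N hN ht (Ideal.Quotient.mk _ r) = AdjoinRoot.of (X ^ N - C (t : R)) r *
      (((rootUnit t N hN)⁻¹ ^ i : (AdjoinRoot (X ^ N - C (t : R)))ˣ) :
        AdjoinRoot (X ^ N - C (t : R))) := by
  unfold descend
  rw [Ideal.Quotient.lift_mk, tw_of_mem 𝒜 _ _ hr]

theorem nontrivial_quot (hN : 0 < N) (ht : (t : R) ∈ 𝒜 (N : ℤ)) [Nontrivial R] :
    Nontrivial (R ⧸ Ideal.span {(t : R) - 1}) := by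
  have hmon : (X ^ N - C (t : R)).Monic := monic_X_pow_sub_C _ hN.ne'
  have : Nontrivial (AdjoinRoot (X ^ N - C (t : R))) := by
    refine Ideal.Quotient.nontrivial_iff.mpr fun h => ?_
    rw [Ideal.span_singleton_eq_top] at h
    have h1 := hmon.eq_one_of_isUnit h
    have h2 := natDegree_X_pow_sub_C (n := N) (r := (t : R))
    rw [h1, natDegree_one] at h2
    omega
  exact (descend 𝒜 t N hN ht).domain_nontrivial

theorem mk_t : Ideal.Quotient.mk (Ideal.span {(t : R) - 1}) (t : R) = 1 := by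
  simpa using mk_zpow t 1

/-- The unit `T` of the Laurent polynomial ring. -/
noncomputable def TU (B : Type*) [CommRing B] : (LaurentPolynomial B)ˣ :=
  (LaurentPolynomial.isUnit_T (R := B) 1).unit

theorem coe_TU (B : Type*) [CommRing B] : (TU B : LaurentPolynomial B) = LaurentPolynomial.T 1 :=
  rfl

theorem coe_TU_zpow (B : Type*) [CommRing B] (n : ℤ) :
    ((TU B ^ n : (LaurentPolynomial B)ˣ) : LaurentPolynomial B) = LaurentPolynomial.T n := by
  obtain ⟨m, rfl | rfl⟩ := n.eq_nat_or_neg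
  · rw [zpow_natCast, Units.val_pow_eq_pow_val, coe_TU, LaurentPolynomial.T_pow, mul_one]
  · rw [zpow_neg, zpow_natCast]
    refine Units.inv_eq_of_mul_eq_one_right ?_
    rw [Units.val_pow_eq_pow_val, coe_TU, LaurentPolynomial.T_pow, mul_one,
      ← LaurentPolynomial.T_add, add_neg_cancel, LaurentPolynomial.T_zero]

/-- The map `R[U]/(U^N - t) → (R / (t-1))[T;T⁻¹]`, `r ↦ r T^i` for `r` of degree `i`, `U ↦ T`. -/
noncomputable def fwd (ht : (t : R) ∈ 𝒜 (N : ℤ)) :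
    AdjoinRoot (X ^ N - C (t : R)) →+* LaurentPolynomial (R ⧸ Ideal.span {(t : R) - 1}) :=
  AdjoinRoot.lift
    (tw 𝒜 (LaurentPolynomial.C.comp (Ideal.Quotient.mk (Ideal.span {(t : R) - 1})))
      (TU _))
    (LaurentPolynomial.T 1) (by
      rw [eval₂_sub, eval₂_X_pow, eval₂_C, tw_of_mem 𝒜 _ _ ht, zpow_natCast,
        Units.val_pow_eq_pow_val, coe_TU, RingHom.comp_apply, mk_t, map_one, one_mul,
        sub_self])

theorem fwd_of (ht : (t : R) ∈ 𝒜 (N : ℤ)) {i : ℤ} {r : R} (hr : r ∈ 𝒜 i) :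
    fwd 𝒜 t N ht (AdjoinRoot.of _ r) =
      LaurentPolynomial.C (Ideal.Quotient.mk _ r) * LaurentPolynomial.T i := by
  unfold fwd
  rw [AdjoinRoot.lift_of, tw_of_mem 𝒜 _ _ hr, coe_TU_zpow]
  rfl

theorem fwd_root (ht : (t : R) ∈ 𝒜 (N : ℤ)) :
    fwd 𝒜 t N ht (AdjoinRoot.root _) = LaurentPolynomial.T 1 := by
  unfold fwd
  rw [AdjoinRoot.lift_root]

theorem fwd_rootUnit_zpow (hN : 0 < N) (ht : (t : R) ∈ 𝒜 (N : ℤ)) (i : ℤ) :
    fwd 𝒜 t N ht ((rootUnit t N hN ^ i : (AdjoinRoot (X ^ N - C (t : R)))ˣ) :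
      AdjoinRoot (X ^ N - C (t : R))) = LaurentPolynomial.T i := by
  have h : Units.map (fwd 𝒜 t N ht).toMonoidHom (rootUnit t N hN) = TU _ := by
    ext1
    change fwd 𝒜 t N ht (rootUnit t N hN : AdjoinRoot (X ^ N - C (t : R))) = _
    rw [coe_rootUnit, fwd_root, coe_TU]
  rw [← coe_TU_zpow, ← h, ← map_zpow]
  rfl

/-- The inverse map. -/
noncomputable def bwd (hN : 0 < N) (ht : (t : R) ∈ 𝒜 (N : ℤ)) :
    LaurentPolynomial (R ⧸ Ideal.span {(t : R) - 1}) →+* AdjoinRoot (X ^ N - C (t : R)) :=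
  LaurentPolynomial.eval₂ (descend 𝒜 t N hN ht) (rootUnit t N hN)

theorem bwd_fwd (hN : 0 < N) (ht : (t : R) ∈ 𝒜 (N : ℤ)) :
    (bwd 𝒜 t N hN ht).comp (fwd 𝒜 t N ht) = RingHom.id _ := by
  refine AdjoinRoot.ringHom_ext ?_ ?_
  · refine hom_ext 𝒜 fun i r hr => ?_
    simp only [RingHom.comp_apply, fwd_of 𝒜 t N ht hr, RingHom.id_apply]
    unfold bwd
    rw [LaurentPolynomial.eval₂_C_mul_T, descend_mk 𝒜 t N hN ht hr, inv_zpow, mul_assoc,
      Units.inv_mul, mul_one]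
  · simp only [RingHom.comp_apply, fwd_root, RingHom.id_apply]
    unfold bwd
    rw [LaurentPolynomial.eval₂_T, zpow_one, coe_rootUnit]

theorem fwd_bwd (hN : 0 < N) (ht : (t : R) ∈ 𝒜 (N : ℤ)) :
    (fwd 𝒜 t N ht).comp (bwd 𝒜 t N hN ht) = RingHom.id _ := by
  have h1 : ((fwd 𝒜 t N ht).comp (bwd 𝒜 t N hN ht)).comp LaurentPolynomial.C =
      (RingHom.id _).comp LaurentPolynomial.C := by
    refine Ideal.Quotient.ringHom_ext (hom_ext 𝒜 fun i r hr => ?_)
    simp only [RingHom.comp_apply, RingHom.id_apply]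
    unfold bwd
    rw [LaurentPolynomial.eval₂_C, descend_mk 𝒜 t N hN ht hr, map_mul, fwd_of 𝒜 t N ht hr,
      inv_zpow', fwd_rootUnit_zpow, mul_assoc, ← LaurentPolynomial.T_add, add_neg_cancel,
      LaurentPolynomial.T_zero, mul_one]
  refine RingHom.ext fun x => ?_
  induction x using LaurentPolynomial.induction_on' with
  | add p q hp hq => rw [map_add, hp, hq, map_add]
  | C_mul_T n a =>
    rw [map_mul]
    have h2 := RingHom.congr_fun h1 a
    rw [RingHom.comp_apply] at h2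
    rw [h2]
    have h3 : ((fwd 𝒜 t N ht).comp (bwd 𝒜 t N hN ht)) (LaurentPolynomial.T n) =
        LaurentPolynomial.T n := by
      rw [RingHom.comp_apply]
      unfold bwd
      rw [LaurentPolynomial.eval₂_T, fwd_rootUnit_zpow]
    rw [h3]
    rfl

/-- `R[U]/(U^N - t) ≃ (R / (t - 1))[T;T⁻¹]`. -/
noncomputable def laurentEquiv (hN : 0 < N) (ht : (t : R) ∈ 𝒜 (N : ℤ)) :
    AdjoinRoot (X ^ N - C (t : R)) ≃+* LaurentPolynomial (R ⧸ Ideal.span {(t : R) - 1}) :=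
  RingEquiv.ofRingHom (fwd 𝒜 t N ht) (bwd 𝒜 t N hN ht) (fwd_bwd 𝒜 t N hN ht)
    (bwd_fwd 𝒜 t N hN ht)

end Iso

theorem sup_sq_le (J I : Ideal R) : (J ⊔ I) ^ 2 ≤ J ^ 2 ⊔ I := by
  rw [sq, Ideal.mul_le]
  intro a ha b hb
  obtain ⟨a1, ha1, a2, ha2, rfl⟩ := Submodule.mem_sup.mp ha
  obtain ⟨b1, hb1, b2, hb2, rfl⟩ := Submodule.mem_sup.mp hb
  have h : (a1 + a2) * (b1 + b2) = a1 * b1 + (a1 * b2 + (b1 + b2) * a2) := by ring
  rw [h]
  refine Ideal.add_mem _ (Ideal.mem_sup_left ?_) (Ideal.mem_sup_right ?_)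
  · rw [sq]; exact Ideal.mul_mem_mul ha1 hb1
  · exact Ideal.add_mem _ (Ideal.mul_mem_left _ _ hb2) (Ideal.mul_mem_left _ _ ha2)

/-- **Regularity of `R / (t - 1)`** for `t` a homogeneous unit of least positive degree. -/
theorem isRegularLocalRing_quot [IsNoetherianRing R]
    (hreg : ∀ (p : Ideal R) [p.IsPrime], IsRegularLocalRing (Localization.AtPrime p))
    [IsLocalRing (GrLC.deg0 𝒜)] (N : ℕ) (hN : 0 < N) (t : Rˣ)
    (ht : (t : R) ∈ 𝒜 (N : ℤ))
    (hmin : ∀ (n : ℤ), 0 < n → n < (N : ℤ) → ∀ s ∈ 𝒜 n, ¬ IsUnit s) :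
    IsRegularLocalRing (R ⧸ Ideal.span {(t : R) - 1}) := by
  have hR : Nontrivial R := (Subring.subtype_injective (GrLC.deg0 𝒜)).nontrivial
  have hC := nontrivial_quot 𝒜 t N hN ht
  have hloc := isLocalRing_quot 𝒜 t N hN ht hmin
  set J : Ideal R := Ideal.span {(t : R) - 1} with hJ
  set n : Ideal R := (IsLocalRing.maximalIdeal (R ⧸ J)).comap (Ideal.Quotient.mk J) with hn
  have hnp : n.IsPrime := Ideal.IsPrime.comap _
  have hnJ : n = J ⊔ nuIdeal 𝒜 := comap_eq 𝒜 t N hN ht hmin _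
  have hnu : nuIdeal 𝒜 ≤ n := hnJ ▸ le_sup_right
  have hJn : J ≤ n := hnJ ▸ le_sup_left
  have htn : (t : R) - 1 ∈ n := hJn (Ideal.mem_span_singleton_self _)
  have hnune : nuIdeal 𝒜 ≠ ⊤ := fun h => hnp.ne_top (top_le_iff.mp (h ▸ hnu))
  have hprime := nuIdeal_isPrime 𝒜 hnune
  have hnsq : n ^ 2 ≤ Ideal.span {((t : R) - 1) ^ 2} ⊔ nuIdeal 𝒜 := by
    have h := sup_sq_le J (nuIdeal 𝒜)
    rw [← hnJ] at h
    rwa [← Ideal.span_singleton_pow]
  have hregn := hreg n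
  set x : Localization.AtPrime n := algebraMap R _ ((t : R) - 1) with hx
  have hxm : x ∈ IsLocalRing.maximalIdeal (Localization.AtPrime n) := by
    rw [← Localization.AtPrime.map_eq_maximalIdeal]
    exact Ideal.mem_map_of_mem _ htn
  have hx2 : x ∉ IsLocalRing.maximalIdeal (Localization.AtPrime n) ^ 2 := by
    rw [← Localization.AtPrime.map_eq_maximalIdeal, ← Ideal.map_pow, hx,
      IsLocalization.algebraMap_mem_map_algebraMap_iff n.primeCompl]
    rintro ⟨s, hs, hs2⟩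
    obtain ⟨a, ha, b, hb, hab⟩ := Submodule.mem_sup.mp (hnsq hs2)
    obtain ⟨h, rfl⟩ := Ideal.mem_span_singleton.mp ha
    have h1 : ((t : R) - 1) * (s - ((t : R) - 1) * h) ∈ nuIdeal 𝒜 := by
      have : ((t : R) - 1) * (s - ((t : R) - 1) * h) = b := by
        rw [mul_sub, ← mul_assoc, ← sq, mul_comm _ s, ← hab]; ring
      rwa [this]
    rcases hprime.mem_or_mem h1 with h2 | h2
    · exact sub_one_notMem 𝒜 hN ht hnune h2
    · refine hs ?_
      have := Ideal.add_mem _ (hnu h2) (Ideal.mul_mem_right h _ htn)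
      rwa [sub_add_cancel] at this
  have hq := Groth.Agent.Ega4A.RegDer.isRegularLocalRing_quotient_of_notMem_sq hxm hx2
  have hmap : J.map (algebraMap R (Localization.AtPrime n)) = Ideal.span {x} := by
    rw [hJ, Ideal.map_span, Set.image_singleton]
  rw [← hmap] at hq
  have hunits : ∀ y ∈ Algebra.algebraMapSubmonoid (R ⧸ J) n.primeCompl, IsUnit y := by
    rintro _ ⟨y, hy, rfl⟩
    by_contra hcon
    exact hy ((IsLocalRing.mem_maximalIdeal _).mpr hcon)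
  exact IsRegularLocalRing.of_ringEquiv (IsLocalization.atUnits (R ⧸ J)
    (Algebra.algebraMapSubmonoid (R ⧸ J) n.primeCompl)
    (S := Localization.AtPrime n ⧸ J.map (algebraMap R (Localization.AtPrime n)))
      hunits).toRingEquiv.symm

/-- `R[U]/(U^N - t)` is regular if `t` is a homogeneous unit of least positive degree `N`. -/
theorem isRegularRing_adjoinRoot [IsNoetherianRing R]
    (hreg : ∀ (p : Ideal R) [p.IsPrime], IsRegularLocalRing (Localization.AtPrime p))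
    [IsLocalRing (GrLC.deg0 𝒜)] (N : ℕ) (hN : 0 < N) (t : Rˣ)
    (ht : (t : R) ∈ 𝒜 (N : ℤ))
    (hmin : ∀ (n : ℤ), 0 < n → n < (N : ℤ) → ∀ s ∈ 𝒜 n, ¬ IsUnit s) :
    IsRegularRing (AdjoinRoot (X ^ N - C (t : R))) := by
  have h1 := isRegularLocalRing_quot 𝒜 hreg N hN t ht hmin
  have h2 : IsRegularRing (R ⧸ Ideal.span {(t : R) - 1}) :=
    isRegularRing_iff.mpr fun p _ =>
      Groth.Agent.CalgA.RegLoc.isRegularLocalRing_localization _ p
  have h3 : IsRegularRing (R ⧸ Ideal.span {(t : R) - 1})[X] := inferInstance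
  have h4 : IsRegularRing (LaurentPolynomial (R ⧸ Ideal.span {(t : R) - 1})) :=
    Groth.Agent.CalgB.RegHom1.isRegularRing_of_isLocalization
      (Submonoid.powers (X : (R ⧸ Ideal.span {(t : R) - 1})[X])) _
  exact IsRegularRing.of_ringEquiv (laurentEquiv 𝒜 t N hN ht).symm

end K830.GrUnit
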