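import Groth.Agent.GrLC.K759.SerreUnif
import Groth.Agent.LoccohA.LES

/-!
Local cohomology of a `ℤ`-graded ring at the ideal of elements of positive degree, modulo a regular
element of negative degree.
-/

set_option autoImplicit false
universe u

open DirectSum GrLC K759.Gr K963.Iface
open Groth.Agent.Localalg

namespace K830.GrVan

variable {R : Type u} [CommRing R] [IsNoetherianRing R] (𝒜 : ℤ → AddSubgroup R) [GradedRing 𝒜]

theorem main (a : HomogeneousIdeal 𝒜)
    (ha : a.toIdeal = Ideal.span (⋃ n ∈ Set.Ioi (0 : ℤ), (𝒜 n : Set R)))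
    (w : R) (hw : w ∈ 𝒜 (-1)) (hreg : ∀ x : R, w * x = 0 → x = 0) (q : ℕ)
    (hG : Subsingleton (LocCoh.H a.toIdeal q (R ⧸ Ideal.span {w}))) :
    Subsingleton (LocCoh.H a.toIdeal q R) := by
  obtain ⟨E⟩ := nonempty_res 𝒜 𝒜
  obtain ⟨e⟩ := K759.AcycInj.nonempty_equiv E a q
  let : DirectSum.Decomposition (E.Hgr a q) := K759.Hgr.Hdec E a q
  -- multiplication by `w` is surjective
  have hsurj : ∀ y : E.H a q, ∃ x : E.H a q, w • x = y := by
    intro y
    have hf : Function.Injective (w • (LinearMap.id : R →ₗ[R] R)) := by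
      rw [injective_iff_map_eq_zero]
      intro x hx
      exact hreg x hx
    have hex : Function.Exact (w • (LinearMap.id : R →ₗ[R] R)) (Ideal.span {w}).mkQ := by
      rw [LinearMap.exact_iff, Submodule.ker_mkQ]
      ext x
      rw [Ideal.mem_span_singleton', LinearMap.mem_range]
      constructor
      · rintro ⟨y, rfl⟩
        exact ⟨y, mul_comm _ _⟩
      · rintro ⟨y, rfl⟩
        exact ⟨y, mul_comm _ _⟩
    obtain ⟨δ, -, -, h3⟩ := Groth.Agent.LoccohA.LES.exists_exact a.toIdeal q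
      (w • (LinearMap.id : R →ₗ[R] R)) (Ideal.span {w}).mkQ hf hex (Submodule.mkQ_surjective _)
    obtain ⟨x, hx⟩ := (h3 (e y)).mp (Subsingleton.elim _ _)
    rw [Groth.Agent.LoccohA.LES.hmap_smul, Groth.Agent.LoccohA.LES.hmap_id] at hx
    refine ⟨e.symm x, e.injective ?_⟩
    rw [map_smul, e.apply_symm_apply, hx]
  obtain ⟨r, hr⟩ := K759.Serre.exists_bound a ha (GrLC.GMod.of 𝒜 R 𝒜)
    (inferInstanceAs (Module.Finite R R)) E
  have hvan : ∀ (k : ℕ) (n : ℤ), r ≤ n + k → ∀ y ∈ E.Hgr a q n, y = 0 := by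
    intro k
    induction k with
    | zero =>
      intro n hn y hy
      have h1 : y ∈ E.Hcomp a q n := hy
      have h2 := hr q n (by simpa using hn)
      exact (Submodule.mem_bot _).mp (h2.le h1)
    | succ k ih =>
      intro n hn y hy
      obtain ⟨x, hx⟩ := hsurj y
      have h1 := cmp_smul' 𝒜 (E.Hgr a q) hw n x
      rw [hx, cmp_same (E.Hgr a q) hy] at h1
      rw [h1, ih (n - -1) (by push_cast at hn; omega) _ (cmp_mem (E.Hgr a q) _ _), smul_zero]
  have hzero : ∀ y : E.H a q, y = 0 := by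
    intro y
    rw [← sum_cmp (E.Hgr a q) y]
    refine Finset.sum_eq_zero fun n _ => ?_
    exact hvan (r - n).toNat n (by omega) _ (cmp_mem (E.Hgr a q) _ _)
  exact ⟨fun x y => e.symm.injective ((hzero _).trans (hzero _).symm)⟩

end K830.GrVan
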