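import Groth.Agent.FiltBl.K830.GrField
import Groth.Agent.LoccohB.NormalH1
import Groth.Agent.LoccohA.LES2
import Groth.Agent.Localalg.DepthLC
import Groth.Agent.S0323
import Groth.Agent.Ega4B.DimFT
import Mathlib.RingTheory.KrullDimension.Basic
import Mathlib.RingTheory.Spectrum.Prime.Topology

/-!
`Ḡ/G ≃ H¹_{G₊}(G)`.
-/

set_option autoImplicit false
universe u

open CategoryTheory Pointwise
open Groth.Agent.Localalg.Depth

namespace K830.H1Irr

/-- an injective integral map does not decrease the Krull dimension. -/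
theorem ringKrullDim_le_of_isIntegral {R S : Type*} [CommRing R] [CommRing S] [Algebra R S]
    [Algebra.IsIntegral R S] [FaithfulSMul R S] : ringKrullDim R ≤ ringKrullDim S := by
  refine iSup_le fun l => ?_
  obtain ⟨P, hP, hP'⟩ := (Ideal.nonempty_primesOver (S := S) l.head.asIdeal)
  obtain ⟨L, hL, -, -⟩ := Ideal.exists_ltSeries_of_hasGoingUp (S := S) l P
  rw [← hL]
  exact le_iSup (fun (p : LTSeries (PrimeSpectrum S)) => (p.length : WithBot ℕ∞)) L

variable {A : Type u} [CommRing A]

/-- Depth of a finite normal extension. -/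
theorem two_le_idealDepth [IsNoetherianRing A] (I : Ideal A)
    (S : Type u) [CommRing S] [IsDomain S] [IsIntegrallyClosed S] [Algebra A S] [Module.Finite A S]
    (hI : ¬ I ≤ RingHom.ker (algebraMap A S))
    (h : ∀ (Q : Ideal S) [Q.IsPrime], I ≤ Q.comap (algebraMap A S) → 2 ≤ Q.height) :
    (1 : ℕ∞) < LocCoh.idealDepth I S := by
  have : IsNoetherianRing S := IsNoetherianRing.of_finite A S
  obtain ⟨x, hxI, hx⟩ := SetLike.not_le_iff_exists.mp hI
  rw [RingHom.mem_ker] at hx
  have hreg : IsSMulRegular S x := by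
    intro a b hab
    simp only [Algebra.smul_def] at hab
    exact mul_left_cancel₀ hx hab
  have h2 : ((1 + 1 : ℕ) : ℕ∞) ≤ LocCoh.idealDepth I S := by
    rw [natCast_succ_le_idealDepth_iff_quotSMulTop I S x hxI hreg, natCast_le_idealDepth_iff_ext]
    intro i hi
    obtain rfl : i = 0 := by omega
    refine (Abelian.Ext.homEquiv₀ (X := ModuleCat.of A (A ⧸ I))
      (Y := ModuleCat.of A (QuotSMulTop x S))).subsingleton_congr.mpr ⟨fun φ ψ => ?_⟩
    -- no element is killed by `I`
    have key : ∀ y : QuotSMulTop x S, (∀ a ∈ I, a • y = 0) → y = 0 := by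
      intro y hy
      by_contra hne
      obtain ⟨s, rfl⟩ := Submodule.mkQ_surjective _ y
      let t : S := algebraMap A S x
      have hmem : ∀ b : S, b ∈ x • (⊤ : Submodule A S) ↔ b ∈ Ideal.span {t} := by
        intro b
        rw [Ideal.mem_span_singleton', Submodule.mem_smul_pointwise_iff_exists]
        constructor
        · rintro ⟨c, -, rfl⟩
          exact ⟨c, by rw [Algebra.smul_def, mul_comm]⟩
        · rintro ⟨c, rfl⟩
          exact ⟨c, trivial, by rw [Algebra.smul_def, mul_comm]⟩
      have hs : s ∉ Ideal.span {t} := by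
        intro hs
        apply hne
        rw [Submodule.mkQ_apply, Submodule.Quotient.mk_eq_zero]
        exact (hmem s).mpr hs
      have hIs : ∀ a ∈ I, algebraMap A S a * s ∈ Ideal.span {t} := by
        intro a ha
        have := hy a ha
        rw [← map_smul, Submodule.mkQ_apply, Submodule.Quotient.mk_eq_zero] at this
        rw [← Algebra.smul_def]
        exact (hmem _).mp this
      obtain ⟨P, hP, hle⟩ := exists_le_isAssociatedPrime_of_isNoetherianRing S
        (Ideal.Quotient.mk (Ideal.span {t}) s)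
        (fun h0 => hs (Ideal.Quotient.eq_zero_iff_mem.mp h0))
      have hPp : P.IsPrime := hP.isPrime
      have hIP : I ≤ P.comap (algebraMap A S) := by
        intro a ha
        rw [Ideal.mem_comap]
        apply hle
        rw [Submodule.mem_colon_singleton, Submodule.mem_bot]
        change Ideal.Quotient.mk (Ideal.span {t}) (algebraMap A S a * s) = 0
        exact Ideal.Quotient.eq_zero_iff_mem.mpr (hIs a ha)
      have h3 := h P hIP
      have h4 : P.height ≤ 1 :=
        Groth.Agent.LoccohB.NormalH1.height_le_one_of_mem_associatedPrimes hx hP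
      exact absurd (h3.trans h4) (by decide)
    have hz : ∀ χ : ModuleCat.of A (A ⧸ I) ⟶ ModuleCat.of A (QuotSMulTop x S), χ = 0 := by
      intro χ
      apply ModuleCat.hom_ext
      apply LinearMap.ext
      intro b
      obtain ⟨a, rfl⟩ := Submodule.mkQ_surjective _ b
      have h1 : χ.hom (Submodule.mkQ _ (1 : A)) = 0 := by
        apply key
        intro c hc
        rw [← map_smul, ← map_smul, smul_eq_mul, mul_one]
        have : Submodule.mkQ I c = 0 := by
          rw [Submodule.mkQ_apply, Submodule.Quotient.mk_eq_zero]; exact hc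
        rw [this, map_zero]
      have h2 : χ.hom (Submodule.mkQ _ a) = a • χ.hom (Submodule.mkQ _ (1 : A)) := by
        rw [← map_smul, ← map_smul, smul_eq_mul, mul_one]
      rw [h2, h1, smul_zero]
      rfl
    rw [hz φ, hz ψ]
  exact lt_of_lt_of_le (by norm_num) h2

open Groth.Agent.LoccohA.LES

/-- The connecting isomorphism. -/
theorem nonempty_equiv [IsNoetherianRing A] (I : Ideal A) {M₁ M₂ M₃ : Type u} [AddCommGroup M₁]
    [Module A M₁] [AddCommGroup M₂] [Module A M₂] [AddCommGroup M₃] [Module A M₃]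
    (f : M₁ →ₗ[A] M₂) (g : M₂ →ₗ[A] M₃) (hf : Function.Injective f) (hfg : Function.Exact f g)
    (hg : Function.Surjective g) (h0 : Subsingleton (LocCoh.H I 0 M₂))
    (h1 : Subsingleton (LocCoh.H I 1 M₂)) (h3 : LocCoh.IsPowerTorsion I M₃) :
    Nonempty (M₃ ≃ₗ[A] LocCoh.H I 1 M₁) := by
  obtain ⟨δ, hδ1, hδ2, -⟩ := exists_exact I 0 f g hf hfg hg
  obtain ⟨⟨e⟩, -⟩ := Groth.Agent.S0323.result A I M₃ h3
  have hinj : Function.Injective δ := by
    rw [injective_iff_map_eq_zero]
    intro x hx
    obtain ⟨y, rfl⟩ := (hδ1 x).mp hx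
    rw [Subsingleton.elim y 0, map_zero]
  have hsurj : Function.Surjective δ := by
    intro y
    exact (hδ2 y).mp (Subsingleton.elim _ _)
  exact ⟨e.symm.trans (LinearEquiv.ofBijective δ ⟨hinj, hsurj⟩)⟩

end K830.H1Irr
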