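import Groth.Agent.FiltBl.K830.H1Irr

/-!
`Ḡ/G ≃ H¹_{G₊}(G)` for graded domains over a field.
-/

set_option autoImplicit false
universe u

open CategoryTheory Pointwise

namespace K830.H1Irr

theorem isIntegrallyClosed_closure (G : Type u) [CommRing G] [IsDomain G] (L : Type u) [Field L]
    [Algebra G L] [IsFractionRing G L] : IsIntegrallyClosed (integralClosure G L) := by
  have : Algebra.IsAlgebraic G L := IsLocalization.isAlgebraic L (nonZeroDivisors G)
  have : IsFractionRing (integralClosure G L) L :=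
    IsIntegralClosure.isFractionRing_of_algebraic (A := G) (L := L) (C := integralClosure G L)
      (fun x hx => by
        rwa [FaithfulSMul.algebraMap_eq_zero_iff] at hx)
  rw [isIntegrallyClosed_iff_isIntegrallyClosedIn L]
  infer_instance

theorem nonempty_quot {A : Type u} [CommRing A] [IsNoetherianRing A] (I : Ideal A)
    {M₁ M₂ : Type u} [AddCommGroup M₁] [Module A M₁] [AddCommGroup M₂] [Module A M₂]
    (f : M₁ →ₗ[A] M₂) (hf : Function.Injective f) (h0 : Subsingleton (LocCoh.H I 0 M₂))
    (h1 : Subsingleton (LocCoh.H I 1 M₂))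
    (h3 : LocCoh.IsPowerTorsion I (M₂ ⧸ LinearMap.range f)) :
    Nonempty ((M₂ ⧸ LinearMap.range f) ≃ₗ[A] LocCoh.H I 1 M₁) :=
  nonempty_equiv I f (Submodule.mkQ (LinearMap.range f)) hf (LinearMap.exact_map_mkQ_range _)
    (Submodule.mkQ_surjective _) h0 h1 h3

section Torsion

variable {G : Type u} [CommRing G] [IsDomain G] [IsNoetherianRing G]
variable {k : Type u} [Field k] [Algebra k G]
  (𝒢 : ℕ → Submodule k G) [GradedAlgebra 𝒢] (h0 : ∀ x ∈ 𝒢 0, x ∈ Set.range (algebraMap k G))
  (L : Type u) [Field L] [Algebra G L] [IsFractionRing G L]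

include h0

theorem isPowerTorsion (hfin : IsFiniteLength G (NormFin.QQ G L)) :
    LocCoh.IsPowerTorsion (HomogeneousIdeal.irrelevant 𝒢).toIdeal (NormFin.QQ G L) := by
  have hft := GrField.finiteType 𝒢 h0
  have hfin' := GrField.finite_integralClosure k G L
  let J : Ideal G := Module.annihilator G (NormFin.QQ G L)
  have hJ : ∀ c, c ∈ J ↔ ∀ y : integralClosure G L, ∃ g : G,
      algebraMap G _ c * y = algebraMap G _ g := by
    intro c
    rw [Module.mem_annihilator, NormFin.smul_eq_zero_iff]
  have hle : (HomogeneousIdeal.irrelevant 𝒢).toIdeal ≤ J.radical := by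
    rw [Ideal.radical_eq_sInf]
    refine le_sInf ?_
    rintro p ⟨hJp, hp⟩
    by_contra hnot
    have h1 := (GrField.normal_iff k G 𝒢 h0 L).mpr hfin p hnot
    obtain ⟨c, hcp, hc⟩ := NormFin.exists_of_isIntegrallyClosed L p h1
    exact hcp (hJp ((hJ c).mpr hc))
  obtain ⟨n, hn⟩ := Ideal.exists_pow_le_of_le_radical_of_fg hle (IsNoetherian.noetherian _)
  intro m
  exact ⟨n, fun a ha => Module.mem_annihilator.mp (hn ha) m⟩

theorem two_le_height (hdim : 2 ≤ ringKrullDim G) (Q : Ideal (integralClosure G L)) [Q.IsPrime]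
    (hQ : (HomogeneousIdeal.irrelevant 𝒢).toIdeal ≤ Q.comap (algebraMap G _)) :
    2 ≤ Q.height := by
  have hft := GrField.finiteType 𝒢 h0
  have hfin' := GrField.finite_integralClosure k G L
  have hmax := GrField.isMaximal_irrelevant 𝒢 h0
  have hQ' : (HomogeneousIdeal.irrelevant 𝒢).toIdeal = Q.comap (algebraMap G _) :=
    hmax.eq_of_le (Ideal.IsPrime.ne_top inferInstance) hQ
  have hQm : (Q.comap (algebraMap G (integralClosure G L))).IsMaximal := hQ' ▸ hmax
  have hQmax : Q.IsMaximal := Ideal.isMaximal_of_isIntegral_of_isMaximal_comap Q hQm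
  let : Algebra k (integralClosure G L) :=
    ((algebraMap G (integralClosure G L)).comp (algebraMap k G)).toAlgebra
  have : IsScalarTower k G (integralClosure G L) := IsScalarTower.of_algebraMap_eq fun _ => rfl
  have hft' : Algebra.FiniteType k (integralClosure G L) :=
    Algebra.FiniteType.trans (S := G) hft inferInstance
  have h1 := Groth.Agent.Ega4B.DimFT.height_maximal k (integralClosure G L) Q
  have h2 := ringKrullDim_le_of_isIntegral (R := G) (S := integralClosure G L)
  have h3 : (2 : WithBot ℕ∞) ≤ (Q.height : WithBot ℕ∞) := by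
    rw [h1]
    exact hdim.trans h2
  rw [show (2 : WithBot ℕ∞) = ((2 : ℕ∞) : WithBot ℕ∞) from rfl, WithBot.coe_le_coe] at h3
  exact h3

theorem main (hdim : 2 ≤ ringKrullDim G) (hfin : IsFiniteLength G (NormFin.QQ G L)) :
    Nonempty (NormFin.QQ G L ≃ₗ[G] LocCoh.H (HomogeneousIdeal.irrelevant 𝒢).toIdeal 1 G) := by
  have hft := GrField.finiteType 𝒢 h0
  have hfin' := GrField.finite_integralClosure k G L
  have hmax := GrField.isMaximal_irrelevant 𝒢 h0
  have hic := isIntegrallyClosed_closure G L
  have hker : ¬ (HomogeneousIdeal.irrelevant 𝒢).toIdeal ≤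
      RingHom.ker (algebraMap G (integralClosure G L)) := by
    intro h
    rw [(RingHom.injective_iff_ker_eq_bot _).mp (FaithfulSMul.algebraMap_injective G _),
      le_bot_iff] at h
    rw [h] at hmax
    have h1 : IsField G := by
      by_contra hcon
      exact Ring.ne_bot_of_isMaximal_of_not_isField hmax hcon rfl
    rw [ringKrullDim_eq_zero_of_isField h1] at hdim
    exact absurd hdim (by decide)
  have hdepth := two_le_idealDepth (HomogeneousIdeal.irrelevant 𝒢).toIdeal
    (integralClosure G L) hker (fun Q _ hQ => two_le_height 𝒢 h0 L hdim Q hQ)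
  have hs0 : Subsingleton (LocCoh.H (HomogeneousIdeal.irrelevant 𝒢).toIdeal 0
      (integralClosure G L)) :=
    Groth.Agent.Localalg.DepthLC.subsingleton_H_of_lt_idealDepth _ _ 0
      (lt_trans (by norm_num) hdepth)
  have hs1 : Subsingleton (LocCoh.H (HomogeneousIdeal.irrelevant 𝒢).toIdeal 1
      (integralClosure G L)) :=
    Groth.Agent.Localalg.DepthLC.subsingleton_H_of_lt_idealDepth _ _ 1 (by exact_mod_cast hdepth)
  have hpt := isPowerTorsion 𝒢 h0 L hfin
  have hinj : Function.Injective (Algebra.linearMap G (integralClosure G L)) :=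
    FaithfulSMul.algebraMap_injective G _
  exact nonempty_quot _ (Algebra.linearMap G (integralClosure G L)) hinj hs0 hs1 hpt

end Torsion

end K830.H1Irr
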