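import Groth.Agent.FiltBl.K830.CycPure2
import Mathlib.RingTheory.GradedAlgebra.HomogeneousLocalization
import Mathlib.RingTheory.GradedAlgebra.Homogeneous.Ideal

/-!
The homogeneous localization at a homogeneous prime is cyclically pure in the localization.
-/

set_option autoImplicit false
universe u

open IsLocalRing DirectSum HomogeneousLocalization

namespace K830.HomLoc

open K830.CycPure

variable {A : Type u} [CommRing A] {σ : Type*} [SetLike σ A] [AddSubgroupClass σ A] (𝒜 : ℕ → σ)
  [GradedRing 𝒜] (p : Ideal A) [p.IsPrime]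

theorem exists_common_den (T : Finset (AtPrime 𝒜 p)) :
    ∃ (δ : ℕ) (D : A), D ∈ 𝒜 δ ∧ D ∉ p ∧ ∀ l ∈ T, ∃ w ∈ 𝒜 δ,
      algebraMap A (Localization.AtPrime p) w = algebraMap A (Localization.AtPrime p) D * l.val := by
  classical
  induction T using Finset.induction_on with
  | empty => exact ⟨0, 1, SetLike.GradedOne.one_mem,
      fun h => Ideal.IsPrime.ne_top inferInstance ((Ideal.eq_top_iff_one p).mpr h), by simp⟩
  | insert l T hl ih =>
    obtain ⟨δ, D, hD, hDp, hT⟩ := ih
    refine ⟨δ + l.deg, D * l.den, SetLike.GradedMul.mul_mem hD l.den_mem_deg,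
      fun h => ?_, ?_⟩
    · rcases Ideal.IsPrime.mem_or_mem inferInstance h with h | h
      · exact hDp h
      · exact l.den_mem h
    · intro l' hl'
      rcases Finset.mem_insert.mp hl' with rfl | hl'
      · refine ⟨D * l'.num, SetLike.GradedMul.mul_mem hD l'.num_mem_deg, ?_⟩
        have h1 := l'.den_smul_val
        rw [Algebra.smul_def] at h1
        rw [map_mul, map_mul, ← h1, mul_assoc]
      · obtain ⟨w, hw, hw'⟩ := hT l' hl'
        refine ⟨w * l.den, SetLike.GradedMul.mul_mem hw l.den_mem_deg, ?_⟩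
        rw [map_mul, map_mul, hw']
        ring

theorem exists_decompose_notMem {p : Ideal A} {r : A} (hr : r ∉ p) :
    ∃ m : ℕ, (decompose 𝒜 r m : A) ∉ p := by
  classical
  by_contra hcon
  push Not at hcon
  apply hr
  rw [← DirectSum.sum_support_decompose 𝒜 r]
  exact Ideal.sum_mem _ fun i _ => hcon i

/-- Contraction of extended ideals for the homogeneous localization at a prime. -/
theorem cp : CP (AtPrime 𝒜 p) (Localization.AtPrime p) := by
  classical
  intro I l hl
  rw [Ideal.mem_comap, Ideal.map, Ideal.span, Submodule.mem_span_iff_exists_finset_subset] at hl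
  obtain ⟨f, t, ht, -, hsum⟩ := hl
  have hex : ∀ a ∈ t, ∃ i ∈ I, i.val = a := fun a ha => ht ha
  choose! g hgI hgval using hex
  obtain ⟨δ, D, hD, hDp, hw⟩ := exists_common_den 𝒜 p (insert l (t.image g))
  choose! w hwδ hwval using hw
  obtain ⟨s, hs⟩ := IsLocalization.exist_integer_multiples_of_finset p.primeCompl (t.image f)
  have hs' : ∀ e ∈ t.image f, ∃ c : A, algebraMap A (Localization.AtPrime p) c = (s : A) • e := hs
  choose! c hc using hs'
  have h1 : algebraMap A (Localization.AtPrime p) (s * w l) =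
      algebraMap A (Localization.AtPrime p) (∑ a ∈ t, c (f a) * w (g a)) := by
    rw [map_mul, hwval l (Finset.mem_insert_self _ _), map_sum]
    have h2 : l.val = ∑ a ∈ t, f a • a := hsum.symm
    rw [h2, Finset.mul_sum, Finset.mul_sum]
    refine Finset.sum_congr rfl fun a ha => ?_
    rw [map_mul, hc _ (Finset.mem_image_of_mem _ ha),
      hwval _ (Finset.mem_insert_of_mem (Finset.mem_image_of_mem _ ha)), hgval a ha,
      smul_eq_mul, Algebra.smul_def]
    ring
  obtain ⟨t', ht'⟩ := (IsLocalization.eq_iff_exists p.primeCompl _).mp h1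
  have hrp : (t' : A) * s ∉ p := fun h => by
    rcases Ideal.IsPrime.mem_or_mem inferInstance h with h | h
    · exact t'.2 h
    · exact s.2 h
  obtain ⟨m, hm⟩ := exists_decompose_notMem 𝒜 hrp
  have h2 : (decompose 𝒜 ((t' : A) * s) m : A) * w l =
      ∑ a ∈ t, (decompose 𝒜 ((t' : A) * c (f a)) m : A) * w (g a) := by
    rw [← coe_decompose_mul_add_of_right_mem 𝒜 (hwδ l (Finset.mem_insert_self _ _)), mul_assoc,
      ht', Finset.mul_sum, DirectSum.decompose_sum, DFinsupp.finsetSum_apply,
      AddSubmonoidClass.coe_finsetSum]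
    refine Finset.sum_congr rfl fun a ha => ?_
    rw [← mul_assoc, coe_decompose_mul_add_of_right_mem 𝒜
      (hwδ _ (Finset.mem_insert_of_mem (Finset.mem_image_of_mem _ ha)))]
  set rm : A := (decompose 𝒜 ((t' : A) * s) m : A) with hrm
  let coef : Localization.AtPrime p → AtPrime 𝒜 p := fun a =>
    HomogeneousLocalization.mk ⟨m, decompose 𝒜 ((t' : A) * c (f a)) m,
      ⟨rm, SetLike.coe_mem _⟩, hm⟩
  have hcoef : ∀ a, algebraMap A (Localization.AtPrime p) rm * (coef a).val =
      algebraMap A (Localization.AtPrime p) (decompose 𝒜 ((t' : A) * c (f a)) m : A) := by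
    intro a
    rw [HomogeneousLocalization.val_mk, Localization.mk_eq_mk', mul_comm]
    exact IsLocalization.mk'_spec _ _ (⟨rm, hm⟩ : p.primeCompl)
  have hfin : l = ∑ a ∈ t, coef a * g a := by
    apply HomogeneousLocalization.val_injective
    have hu1 : IsUnit (algebraMap A (Localization.AtPrime p) rm) :=
      IsLocalization.map_units (M := p.primeCompl) _ ⟨rm, hm⟩
    have hu2 : IsUnit (algebraMap A (Localization.AtPrime p) D) :=
      IsLocalization.map_units (M := p.primeCompl) _ ⟨D, hDp⟩
    apply (hu1.mul hu2).mul_left_cancel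
    have h3 := congrArg (algebraMap A (Localization.AtPrime p)) h2
    rw [map_mul, hwval l (Finset.mem_insert_self _ _), ← mul_assoc, map_sum] at h3
    rw [h3]
    have h4 : (∑ a ∈ t, coef a * g a).val = ∑ a ∈ t, (coef a).val * (g a).val := by
      change algebraMap (AtPrime 𝒜 p) (Localization.AtPrime p) _ = _
      rw [map_sum]
      exact Finset.sum_congr rfl fun a _ => map_mul _ _ _
    rw [h4, Finset.mul_sum]
    refine Finset.sum_congr rfl fun a ha => ?_
    rw [map_mul, ← hcoef a,
      hwval _ (Finset.mem_insert_of_mem (Finset.mem_image_of_mem _ ha))]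
    ring
  rw [hfin]
  exact Ideal.sum_mem _ fun a ha => Ideal.mul_mem_left _ _ (hgI a ha)

/-- The maximal ideal of `A_p` is the radical of the extension of the maximal ideal of the
homogeneous localization, if `p` is homogeneous and does not contain all forms of positive
degree. -/
theorem radical_map_maximalIdeal (hp : p.IsHomogeneous 𝒜) {d : ℕ} (hd : 0 < d) {f : A}
    (hf : f ∈ 𝒜 d) (hfp : f ∉ p) :
    ((maximalIdeal (AtPrime 𝒜 p)).map
      (algebraMap (AtPrime 𝒜 p) (Localization.AtPrime p))).radical =
      maximalIdeal (Localization.AtPrime p) := by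
  classical
  apply le_antisymm
  · rw [(maximalIdeal.isMaximal (Localization.AtPrime p)).isPrime.radical_le_iff,
      Ideal.map_le_iff_le_comap]
    intro x hx
    rw [Ideal.mem_comap, mem_maximalIdeal, mem_nonunits_iff]
    intro h
    exact (mem_maximalIdeal _).mp hx ((isUnit_iff_isUnit_val 𝒜 p x).mp h)
  · rw [← Localization.AtPrime.map_eq_maximalIdeal, Ideal.map_le_iff_le_comap]
    intro a ha
    rw [Ideal.mem_comap, ← DirectSum.sum_support_decompose 𝒜 a, map_sum]
    refine Ideal.sum_mem _ fun i _ => ?_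
    have hai : (decompose 𝒜 a i : A) ∈ p := hp i ha
    set b : A := (decompose 𝒜 a i : A) with hb
    have hbi : b ∈ 𝒜 i := SetLike.coe_mem _
    refine ⟨d, ?_⟩
    have hfi : f ^ i ∉ p := fun h => hfp (Ideal.IsPrime.mem_of_pow_mem inferInstance i h)
    have hbd : b ^ d ∈ 𝒜 (d * i) := by
      have := SetLike.pow_mem_graded d hbi
      rwa [smul_eq_mul] at this
    have hfd : f ^ i ∈ 𝒜 (d * i) := by
      have := SetLike.pow_mem_graded i hf
      rwa [smul_eq_mul, mul_comm] at this
    let z : AtPrime 𝒜 p := HomogeneousLocalization.mk ⟨d * i, ⟨b ^ d, hbd⟩, ⟨f ^ i, hfd⟩, hfi⟩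
    have hz : algebraMap A (Localization.AtPrime p) (f ^ i) * z.val =
        algebraMap A (Localization.AtPrime p) (b ^ d) := by
      rw [HomogeneousLocalization.val_mk, Localization.mk_eq_mk', mul_comm]
      exact IsLocalization.mk'_spec _ _ (⟨f ^ i, hfi⟩ : p.primeCompl)
    have hzm : z ∈ maximalIdeal (AtPrime 𝒜 p) := by
      rw [mem_maximalIdeal, mem_nonunits_iff]
      intro h
      have h1 := (isUnit_iff_isUnit_val 𝒜 p z).mpr h
      have h2 : IsUnit (algebraMap A (Localization.AtPrime p) (b ^ d)) := by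
        rw [← hz]
        exact (IsLocalization.map_units (M := p.primeCompl) _ ⟨f ^ i, hfi⟩).mul h1
      rw [IsLocalization.AtPrime.isUnit_to_map_iff _ p] at h2
      exact h2 (Ideal.pow_mem_of_mem p hai d hd)
    rw [← map_pow, ← hz]
    exact Ideal.mul_mem_left _ _ (Ideal.mem_map_of_mem _ hzm)

end K830.HomLoc
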