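import Groth.Agent.FiltBl.K830.GrVan
import Groth.Agent.FiltBl.K830.ExtRees
import Groth.Agent.Localalg.LCRows
import Groth.Prelude.Def_Rees2

/-!
Vanishing of local cohomology descends from the associated graded ring to the ring.
-/

set_option autoImplicit false
universe u

open DirectSum LaurentPolynomial
open scoped TensorProduct

namespace K830.LCFilt

section AG

variable {ι : Type} [DecidableEq ι] [AddCommMonoid ι] {A : Type u} [CommRing A] {R : Type u}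
  [CommRing R] [Algebra A R] (𝒜 : ι → Submodule A R) [GradedAlgebra 𝒜]

/-- The pieces as additive subgroups. -/
def AG : ι → AddSubgroup R := fun n => (𝒜 n).toAddSubgroup

noncomputable instance : GradedRing (AG 𝒜) where
  one_mem := SetLike.GradedOne.one_mem (A := 𝒜)
  mul_mem i j := SetLike.GradedMul.mul_mem (A := 𝒜) (i := i) (j := j)
  decompose' := fun r => (DirectSum.decompose 𝒜 r : _)
  left_inv := fun r => DirectSum.Decomposition.left_inv (ℳ := 𝒜) r
  right_inv := fun r => DirectSum.Decomposition.right_inv (ℳ := 𝒜) r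

end AG

open Groth.Agent.Localalg

variable {A : Type u} [CommRing A] (𝓕 : FiltBl.IdealFiltration A)

/-- The ideal generated by the forms of positive degree. -/
noncomputable def J : Ideal 𝓕.extRees :=
  Ideal.span {x : 𝓕.extRees | ∃ n : ℤ, 0 < n ∧ ∃ a : A, (x : A[T;T⁻¹]) = C a * T n}

theorem J_eq : J 𝓕 = Ideal.span (⋃ n ∈ Set.Ioi (0 : ℤ),
    (AG (Rees.ldeg 𝓕.extRees) n : Set 𝓕.extRees)) := by
  apply le_antisymm
  · refine Ideal.span_le.mpr ?_
    rintro x ⟨n, hn, a, hx⟩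
    refine Ideal.subset_span ?_
    simp only [Set.mem_iUnion, Set.mem_Ioi]
    refine ⟨n, hn, ?_⟩
    change x ∈ Rees.ldeg 𝓕.extRees n
    rw [Rees.mem_ldeg_iff']
    intro m hm
    rw [hx, ExtRees.coeff_C_mul_T, if_neg hm]
  · refine Ideal.span_le.mpr ?_
    intro x hx
    simp only [Set.mem_iUnion, Set.mem_Ioi] at hx
    obtain ⟨n, hn, hx⟩ := hx
    refine Ideal.subset_span ⟨n, hn, (x : A[T;T⁻¹]).coeff n, ?_⟩
    have hx' : x ∈ Rees.ldeg 𝓕.extRees n := hx
    rw [Rees.mem_ldeg_iff'] at hx'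
    apply AddMonoidAlgebra.ext
    ext m
    rw [ExtRees.coeff_C_mul_T]
    split_ifs with h
    · rw [h]
    · exact hx' m h

theorem J_isHomogeneous : (J 𝓕).IsHomogeneous (AG (Rees.ldeg 𝓕.extRees)) := by
  rw [J_eq]
  refine Ideal.homogeneous_span _ _ fun x hx => ?_
  simp only [Set.mem_iUnion, Set.mem_Ioi] at hx
  obtain ⟨n, hn, hx⟩ := hx
  exact ⟨n, hx⟩

theorem map_J : (J 𝓕).map (algebraMap 𝓕.extRees A[T;T⁻¹]) =
    (𝓕.F 1).map (algebraMap A A[T;T⁻¹]) := by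
  apply le_antisymm
  · rw [J, Ideal.map_span, Ideal.span_le]
    rintro _ ⟨x, ⟨n, hn, a, hx⟩, rfl⟩
    have h1 : a ∈ 𝓕.F n.toNat := by
      have := (ExtRees.mem_extRees_iff 𝓕 _).mp x.2 n
      rwa [hx, ExtRees.coeff_C_mul_T, if_pos rfl] at this
    have h2 : a ∈ 𝓕.F 1 := 𝓕.antitone (by omega) h1
    change (x : A[T;T⁻¹]) ∈ _
    rw [hx]
    exact Ideal.mul_mem_right _ _ (Ideal.mem_map_of_mem (algebraMap A A[T;T⁻¹]) h2)
  · rw [Ideal.map_le_iff_le_comap]
    intro a ha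
    rw [Ideal.mem_comap]
    have h1 : (C a * T 1 : A[T;T⁻¹]) ∈ 𝓕.extRees := ExtRees.C_mul_T_mem 𝓕 a 1 ha
    have h2 : (⟨C a * T 1, h1⟩ : 𝓕.extRees) ∈ J 𝓕 := Ideal.subset_span ⟨1, one_pos, a, rfl⟩
    have h3 := Ideal.mul_mem_right (T (-1)) _
      (Ideal.mem_map_of_mem (algebraMap 𝓕.extRees A[T;T⁻¹]) h2)
    convert h3 using 1
    change C a = C a * T 1 * T (-1)
    rw [mul_assoc, ← T_add]
    simp

theorem subsingleton_congr {B : Type u} [CommRing B] (I : Ideal B) (q : ℕ) {M N : Type u}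
    [AddCommGroup M] [Module B M] [AddCommGroup N] [Module B N] (e : M ≃ₗ[B] N) :
    Subsingleton (LocCoh.H I q M) ↔ Subsingleton (LocCoh.H I q N) :=
  ((localCohomology I q).mapIso e.toModuleIso).toLinearEquiv.toEquiv.subsingleton_congr

theorem main [IsNoetherianRing A] (hfg : Algebra.FiniteType A 𝓕.rees) (q : ℕ)
    (hG : Subsingleton (LocCoh.H ((J 𝓕).map (Ideal.Quotient.mk (Ideal.span {𝓕.u}))) q 𝓕.Gr)) :
    Subsingleton (LocCoh.H (𝓕.F 1) q A) := by
  have hN := ExtRees.isNoetherianRing 𝓕 hfg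
  have hNL : IsNoetherianRing A[T;T⁻¹] := by
    have := ExtRees.isLocalization 𝓕
    exact IsLocalization.isNoetherianRing (Submonoid.powers 𝓕.u) _ hN
  -- over the extended Rees algebra
  have h1 : Subsingleton (LocCoh.H (J 𝓕) q (𝓕.extRees ⧸ Ideal.span {𝓕.u})) :=
    (LCRows.subsingleton_iff_res (B := 𝓕.extRees ⧸ Ideal.span {𝓕.u}) (J 𝓕) q _).mp hG
  have h2 : Subsingleton (LocCoh.H (J 𝓕) q 𝓕.extRees) := by
    refine GrVan.main (AG (Rees.ldeg 𝓕.extRees)) ⟨J 𝓕, J_isHomogeneous 𝓕⟩ (J_eq 𝓕) 𝓕.u ?_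
      (ExtRees.u_mul_injective 𝓕) q h1
    change 𝓕.u ∈ Rees.ldeg 𝓕.extRees (-1)
    rw [Rees.mem_ldeg_iff']
    intro m hm
    rw [ExtRees.coe_u]
    have := ExtRees.coeff_C_mul_T (1 : A) (-1) m
    rw [map_one, one_mul] at this
    rw [this, if_neg hm]
  -- localize at `u`
  have h3 : Subsingleton (LocCoh.H ((𝓕.F 1).map (algebraMap A A[T;T⁻¹])) q A[T;T⁻¹]) := by
    have := ExtRees.isLocalization 𝓕
    have hflat : Module.Flat 𝓕.extRees A[T;T⁻¹] := IsLocalization.flat _ (Submonoid.powers 𝓕.u)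
    obtain ⟨e⟩ := LCRows.nonempty_bcEquiv (B := A[T;T⁻¹]) (J 𝓕) q 𝓕.extRees
    rw [← map_J]
    have h4 : Subsingleton (A[T;T⁻¹] ⊗[𝓕.extRees] LocCoh.H (J 𝓕) q 𝓕.extRees) := inferInstance
    have h5 := e.symm.toEquiv.subsingleton
    exact (subsingleton_congr _ q
      (TensorProduct.AlgebraTensorModule.rid 𝓕.extRees A[T;T⁻¹] A[T;T⁻¹])).mp h5
  rcases subsingleton_or_nontrivial A with hA | hA
  · exact Module.subsingleton A _
  have hff : Module.FaithfullyFlat A A[T;T⁻¹] := by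
    have : Module.Free A A[T;T⁻¹] := inferInstance
    infer_instance
  obtain ⟨e⟩ := LCRows.nonempty_bcEquiv (B := A[T;T⁻¹]) (𝓕.F 1) q A
  have h4 : Subsingleton (A[T;T⁻¹] ⊗[A] LocCoh.H (𝓕.F 1) q A) := by
    have h5 := (subsingleton_congr ((𝓕.F 1).map (algebraMap A A[T;T⁻¹])) q
      (TensorProduct.AlgebraTensorModule.rid A A[T;T⁻¹] A[T;T⁻¹])).mpr h3
    exact e.toEquiv.subsingleton
  rwa [Module.FaithfullyFlat.subsingleton_tensorProduct_iff_right] at h4

end K830.LCFilt
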