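import Groth.Agent.FiltBl.K830.HomLoc
import Mathlib.RingTheory.Polynomial.IsIntegral

/-!
A graded domain with a unit of degree one in the homogeneous localization at `q`: normality of
`A_(q)` implies normality of `A_p` for every prime `p` with the same homogeneous elements as `q`.
-/

set_option autoImplicit false
universe u

open IsLocalRing DirectSum HomogeneousLocalization Polynomial

namespace K830.LaurNorm

open K830.HomLoc

variable {A : Type u} [CommRing A] {σ : Type*} [SetLike σ A] [AddSubgroupClass σ A]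
  (𝒜 : ℕ → σ) [GradedRing 𝒜] (q p : Ideal A) [q.IsPrime] [p.IsPrime]

theorem mk_eq_iff [IsDomain A] {a c : A} {s t : q.primeCompl} :
    (Localization.mk a s : Localization q.primeCompl) = Localization.mk c t ↔
      a * t = c * s := by
  rw [Localization.mk_eq_mk_iff, Localization.r_iff_exists]
  constructor
  · rintro ⟨⟨w, hw⟩, h⟩
    have hw0 : w ≠ 0 := fun h => hw (h ▸ q.zero_mem)
    have := mul_left_cancel₀ hw0 h
    linear_combination this
  · intro h
    exact ⟨1, by simp only [OneMemClass.coe_one, one_mul]; linear_combination h⟩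

omit [AddSubgroupClass σ A] [GradedRing 𝒜] in
theorem val_mk' (z : AtPrime 𝒜 q) : z.val = Localization.mk z.num ⟨z.den, z.den_mem⟩ :=
  z.eq_num_div_den

variable (hqp : ∀ i, ∀ a ∈ 𝒜 i, a ∉ q → a ∉ p)

variable [IsDomain A]

/-- The map from the homogeneous localization at `q` to the localization at `p`. -/
noncomputable def toAt : AtPrime 𝒜 q →+* Localization.AtPrime p where
  toFun z := Localization.mk z.num ⟨z.den, hqp z.deg _ z.den_mem_deg z.den_mem⟩
  map_one' := by
    have h := val_mk' 𝒜 q 1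
    rw [val_one, ← Localization.mk_one, mk_eq_iff] at h
    rw [← Localization.mk_one, mk_eq_iff]
    exact h.symm
  map_mul' z w := by
    have h := val_mk' 𝒜 q (z * w)
    rw [val_mul, val_mk' 𝒜 q z, val_mk' 𝒜 q w, Localization.mk_mul, mk_eq_iff] at h
    rw [Localization.mk_mul, mk_eq_iff]
    exact h.symm
  map_zero' := by
    have h := val_mk' 𝒜 q 0
    have h1 : (0 : AtPrime 𝒜 q).num = 0 := by
      rw [val_zero, ← Localization.mk_zero (⟨(0 : AtPrime 𝒜 q).den, (0 : AtPrime 𝒜 q).den_mem⟩),
        mk_eq_iff, zero_mul] at h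
      have h2 : (0 : AtPrime 𝒜 q).den ≠ 0 := fun h => (0 : AtPrime 𝒜 q).den_mem (h ▸ q.zero_mem)
      exact (mul_eq_zero.mp h.symm).resolve_right h2
    rw [h1, Localization.mk_zero]
  map_add' z w := by
    have h := val_mk' 𝒜 q (z + w)
    rw [val_add, val_mk' 𝒜 q z, val_mk' 𝒜 q w, Localization.add_mk, mk_eq_iff] at h
    rw [Localization.add_mk, mk_eq_iff]
    exact h.symm

theorem toAt_apply (z : AtPrime 𝒜 q) : toAt 𝒜 q p hqp z =
    Localization.mk z.num ⟨z.den, hqp z.deg _ z.den_mem_deg z.den_mem⟩ := rfl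

theorem toAt_eq {z : AtPrime 𝒜 q} {a b : A} (hb : b ∉ q) (hb' : b ∉ p)
    (h : z.val = Localization.mk a ⟨b, hb⟩) :
    toAt 𝒜 q p hqp z = Localization.mk a ⟨b, hb'⟩ := by
  rw [val_mk' 𝒜 q z, mk_eq_iff] at h
  rw [toAt_apply, mk_eq_iff]
  exact h

/-- The numerator relative to a common denominator. -/
theorem toAt_mul {z : AtPrime 𝒜 q} {w D : A} 
    (h : algebraMap A (Localization.AtPrime q) w = algebraMap A (Localization.AtPrime q) D * z.val) :
    algebraMap A (Localization.AtPrime p) w =
      algebraMap A (Localization.AtPrime p) D * toAt 𝒜 q p hqp z := by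
  rw [val_mk' 𝒜 q z, ← Localization.mk_one_eq_algebraMap, ← Localization.mk_one_eq_algebraMap,
    Localization.mk_mul, mk_eq_iff] at h
  rw [toAt_apply, ← Localization.mk_one_eq_algebraMap, ← Localization.mk_one_eq_algebraMap,
    Localization.mk_mul, mk_eq_iff]
  exact h

section unit

variable {n : ℕ} {g h : A} (hg : g ∈ 𝒜 (n + 1)) (hh : h ∈ 𝒜 n) (hgq : g ∉ q) (hhq : h ∉ q)

/-- The unit of degree one. -/
noncomputable def θ : Localization.AtPrime p := Localization.mk g ⟨h, hqp n h hh hhq⟩

/-- The polynomial ring over `A_(q)` mapping to `A_p`. -/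
noncomputable def φ : (AtPrime 𝒜 q)[X] →+* Localization.AtPrime p :=
  eval₂RingHom (toAt 𝒜 q p hqp) (θ 𝒜 q p hqp hh hhq (g := g))

theorem φ_apply (P : (AtPrime 𝒜 q)[X]) : φ 𝒜 q p hqp hh hhq (g := g) P =
    ∑ i ∈ P.support, toAt 𝒜 q p hqp (P.coeff i) * θ 𝒜 q p hqp hh hhq (g := g) ^ i := by
  rw [φ, coe_eval₂RingHom, eval₂_eq_sum, Polynomial.sum]

include hg in
theorem φ_injective (hgq : g ∉ q) : Function.Injective (φ 𝒜 q p hqp hh hhq (g := g)) := by
  classical
  rw [injective_iff_map_eq_zero]
  intro P hP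
  obtain ⟨δ, D, hD, hDq, hT⟩ := exists_common_den 𝒜 q (P.support.image P.coeff)
  have hw : ∀ i, ∃ w : A, (i ∈ P.support → w ∈ 𝒜 δ ∧
      algebraMap A (Localization.AtPrime q) w =
        algebraMap A (Localization.AtPrime q) D * (P.coeff i).val) := by
    intro i
    by_cases hi : i ∈ P.support
    · obtain ⟨w, hw, hw'⟩ := hT (P.coeff i) (Finset.mem_image_of_mem _ hi)
      exact ⟨w, fun _ => ⟨hw, hw'⟩⟩
    · exact ⟨0, fun h => absurd h hi⟩
  choose w hw using hw
  set N := P.natDegree with hN
  have hinj : Function.Injective (algebraMap A (Localization.AtPrime p)) :=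
    IsLocalization.injective _ p.primeCompl_le_nonZeroDivisors
  have hθ : algebraMap A (Localization.AtPrime p) h * θ 𝒜 q p hqp hh hhq (g := g) =
      algebraMap A (Localization.AtPrime p) g := by
    rw [θ, ← Localization.mk_one_eq_algebraMap, ← Localization.mk_one_eq_algebraMap,
      Localization.mk_mul, mk_eq_iff]
    simp [mul_comm]
  have hsum : ∑ i ∈ P.support, w i * g ^ i * h ^ (N - i) = 0 := by
    apply hinj
    rw [map_zero, map_sum]
    have : (algebraMap A (Localization.AtPrime p) D) * algebraMap A (Localization.AtPrime p) h ^ N *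
        φ 𝒜 q p hqp hh hhq (g := g) P = 0 := by rw [hP, mul_zero]
    rw [φ_apply, Finset.mul_sum] at this
    rw [← this]
    refine Finset.sum_congr rfl fun i hi => ?_
    have hiN : i ≤ N := le_natDegree_of_mem_supp i hi
    rw [map_mul, map_mul, map_pow, map_pow, ← hθ, toAt_mul 𝒜 q p hqp (hw i hi).2]
    conv_rhs => rw [← Nat.sub_add_cancel hiN, pow_add]
    ring
  have hdeg : ∀ i ∈ P.support, w i * g ^ i * h ^ (N - i) ∈ 𝒜 (δ + n * N + i) := by
    intro i hi
    have hiN : i ≤ N := le_natDegree_of_mem_supp i hi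
    have h1 : w i * g ^ i * h ^ (N - i) ∈ 𝒜 (δ + i • (n + 1) + (N - i) • n) :=
      SetLike.GradedMul.mul_mem (SetLike.GradedMul.mul_mem (hw i hi).1 (SetLike.pow_mem_graded _ hg))
        (SetLike.pow_mem_graded _ hh)
    convert h1 using 2
    obtain ⟨k, hk⟩ := Nat.exists_eq_add_of_le hiN
    rw [hk, Nat.add_sub_cancel_left]
    simp only [smul_eq_mul]
    ring
  have hzero : ∀ i ∈ P.support, w i * g ^ i * h ^ (N - i) = 0 := by
    intro i hi
    have h1 := congrArg (fun a => (decompose 𝒜 a (δ + n * N + i) : A)) hsum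
    simp only [decompose_zero, DirectSum.zero_apply, ZeroMemClass.coe_zero] at h1
    rw [decompose_sum, DFinsupp.finsetSum_apply, AddSubmonoidClass.coe_finsetSum,
      Finset.sum_eq_single i] at h1
    · rwa [decompose_of_mem_same 𝒜 (hdeg i hi)] at h1
    · intro j hj hji
      exact decompose_of_mem_ne 𝒜 (hdeg j hj) (by omega)
    · intro h; exact absurd hi h
  have hg0 : g ≠ 0 := fun h => hgq (h ▸ q.zero_mem)
  have hh0 : h ≠ 0 := fun h => hhq (h ▸ q.zero_mem)
  refine Polynomial.ext fun i => ?_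
  rw [coeff_zero]
  by_contra hne
  have hi : i ∈ P.support := mem_support_iff.mpr hne
  have h1 : w i = 0 := by
    rcases mul_eq_zero.mp (hzero i hi) with h1 | h1
    · rcases mul_eq_zero.mp h1 with h1 | h1
      · exact h1
      · exact absurd h1 (pow_ne_zero _ hg0)
    · exact absurd h1 (pow_ne_zero _ hh0)
  have h2 := (hw i hi).2
  rw [h1, map_zero] at h2
  have hinj' : Function.Injective (algebraMap A (Localization.AtPrime q)) :=
    IsLocalization.injective _ q.primeCompl_le_nonZeroDivisors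
  have hD0 : algebraMap A (Localization.AtPrime q) D ≠ 0 := by
    rw [Ne, map_eq_zero_iff _ hinj']
    exact fun h => hDq (h ▸ q.zero_mem)
  have h3 := (mul_eq_zero.mp h2.symm).resolve_left hD0
  apply hne
  apply val_injective (𝒜 := 𝒜) q.primeCompl
  rw [h3, val_zero]

include hg in
theorem exists_preimage (hgq : g ∉ q) (a : A) :
    ∃ P, φ 𝒜 q p hqp hh hhq (g := g) P = algebraMap A (Localization.AtPrime p) a := by
  classical
  change _ ∈ Set.range (φ 𝒜 q p hqp hh hhq (g := g))
  rw [← RingHom.coe_range, SetLike.mem_coe]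
  induction a using DirectSum.Decomposition.inductionOn 𝒜 with
  | zero => rw [map_zero]; exact Subring.zero_mem _
  | add a b ha hb => rw [map_add]; exact Subring.add_mem _ ha hb
  | @homogeneous i a =>
    have hgi : g ^ i ∈ 𝒜 (i • (n + 1)) := SetLike.pow_mem_graded _ hg
    have hai : (a : A) * h ^ i ∈ 𝒜 (i • (n + 1)) := by
      have := SetLike.GradedMul.mul_mem a.2 (SetLike.pow_mem_graded i hh)
      convert this using 2
      simp only [smul_eq_mul]
      ring
    have hgiq : g ^ i ∉ q := fun h => hgq (Ideal.IsPrime.mem_of_pow_mem inferInstance i h)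
    have hgip : g ^ i ∉ p := hqp _ _ hgi hgiq
    let z : AtPrime 𝒜 q := HomogeneousLocalization.mk
      ⟨i • (n + 1), ⟨(a : A) * h ^ i, hai⟩, ⟨g ^ i, hgi⟩, hgiq⟩
    refine ⟨C z * X ^ i, ?_⟩
    rw [φ, coe_eval₂RingHom, eval₂_mul, eval₂_C, eval₂_X_pow,
      toAt_eq 𝒜 q p hqp (a := (a : A) * h ^ i) (b := g ^ i) hgiq hgip rfl, θ,
      Localization.mk_pow, Localization.mk_mul, ← Localization.mk_one_eq_algebraMap, mk_eq_iff]
    simp only [OneMemClass.coe_one, mul_one, Submonoid.coe_mul, SubmonoidClass.coe_pow]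
    ring

include hg hh hhq hqp in
theorem main (hgq : g ∉ q) [IsIntegrallyClosed (AtPrime 𝒜 q)] :
    IsIntegrallyClosed (Localization.AtPrime p) := by
  have hdom : IsDomain (AtPrime 𝒜 q) :=
    (val_injective (𝒜 := 𝒜) q.primeCompl).isDomain (algebraMap (AtPrime 𝒜 q) (Localization.AtPrime q))
  let f := φ 𝒜 q p hqp hh hhq (g := g)
  have hf : Function.Injective f := φ_injective 𝒜 q p hqp hg hh hhq hgq
  let _ : Algebra (AtPrime 𝒜 q)[X] (Localization.AtPrime p) := f.toAlgebra
  have hloc : IsLocalization ((IsUnit.submonoid (Localization.AtPrime p)).comap f)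
      (Localization.AtPrime p) := by
    refine ⟨fun y => y.2, fun z => ?_, fun {x y} h => ⟨1, by rw [hf h]⟩⟩
    obtain ⟨⟨a, b⟩, hab⟩ := IsLocalization.surj p.primeCompl z
    obtain ⟨α, hα⟩ := exists_preimage 𝒜 q p hqp hg hh hhq hgq a
    obtain ⟨β, hβ⟩ := exists_preimage 𝒜 q p hqp hg hh hhq hgq (b : A)
    refine ⟨⟨α, ⟨β, ?_⟩⟩, ?_⟩
    · change IsUnit (f β)
      rw [show f β = _ from hβ]
      exact IsLocalization.map_units _ b
    · change z * f β = f α
      rw [show f β = _ from hβ, show f α = _ from hα]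
      exact hab
  refine isIntegrallyClosed_of_isLocalization (R := (AtPrime 𝒜 q)[X]) (Localization.AtPrime p)
    ((IsUnit.submonoid (Localization.AtPrime p)).comap f) ?_
  intro x hx
  rw [mem_nonZeroDivisors_iff_ne_zero]
  rintro rfl
  have : IsUnit (f 0) := hx
  rw [map_zero] at this
  exact not_isUnit_zero this

end unit

end K830.LaurNorm
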