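import Groth.Agent.FiltBl.K830.ExtRees4
import Groth.Agent.FiltBl.K830.DepthElt
import Groth.Agent.FiltBl.K830.AwaySub

/-!
`(S_2)` for the Rees algebra.
-/

set_option autoImplicit false
universe u

open LaurentPolynomial IsLocalRing LocCoh

namespace K830.ReesS2

open Groth.Agent.Ega4C.SkFlat (MinLe)

variable {A : Type u} [CommRing A] (𝓕 : FiltBl.IdealFiltration A)

/-- element of the Rees algebra. -/
theorem C_mul_X_mem {n : ℕ} {a : A} (ha : a ∈ 𝓕.F n) :
    (Polynomial.C a * Polynomial.X ^ n : Polynomial A) ∈ 𝓕.rees := by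
  intro m
  rw [Polynomial.coeff_C_mul_X_pow]
  split_ifs with h
  · subst h; exact ha
  · exact zero_mem _

/-- `a X^n` as an element of the Rees algebra. -/
noncomputable def mono {n : ℕ} (a : A) (ha : a ∈ 𝓕.F n) : 𝓕.rees := ⟨_, C_mul_X_mem 𝓕 ha⟩

/-- away from an element of `F 1`. -/
theorem minLe_of_notMem_F_one [IsNoetherianRing A] (k : ℕ) (P : Ideal 𝓕.rees) [P.IsPrime] (a : A)
    (ha : a ∈ 𝓕.F 1) (haP : algebraMap A 𝓕.rees a ∉ P)
    (hA : LocCoh.HasSk k A A) : MinLe k (Localization.AtPrime P) := by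
  obtain ⟨Q, hQ, hQP, ⟨e⟩⟩ := AwaySub.exists_prime (S := Polynomial A) (R := 𝓕.rees)
    Subtype.val_injective (algebraMap A 𝓕.rees a) (by
      intro s
      refine ⟨s.natDegree, ⟨(Polynomial.C a) ^ s.natDegree * s, ?_⟩, rfl⟩
      intro n
      rw [← Polynomial.C_pow, Polynomial.coeff_C_mul]
      by_cases hn : n ≤ s.natDegree
      · refine Ideal.mul_mem_right _ _ ?_
        refine 𝓕.antitone hn ?_
        have : ∀ k : ℕ, a ^ k ∈ 𝓕.F k := by
          intro k
          induction k with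
          | zero => rw [𝓕.zero_eq]; trivial
          | succ k ih =>
            rw [pow_succ]
            exact 𝓕.mul_le k 1 (Ideal.mul_mem_mul ih ha)
        exact this _
      · rw [Polynomial.coeff_eq_zero_of_natDegree_lt (not_le.mp hn), mul_zero]
        exact zero_mem _) P haP
  rw [Groth.Agent.Ega4C.SkFlat.minLe_congr k e]
  have := LaurFib.smooth_polynomial A
  refine LaurFib.minLe_of_comap (A := A) k Q ?_
  rw [Groth.Agent.Ega4C.SkFlat.hasSk_iff'] at hA
  exact hA _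

/-- `R' ⊇ R`. -/
noncomputable abbrev algR : Algebra 𝓕.rees 𝓕.extRees := (ExtRees.incl 𝓕).toRingHom.toAlgebra

theorem minLe_of_notMem_pos [IsNoetherianRing A] (k : ℕ) (P : Ideal 𝓕.rees) [P.IsPrime]
    (n : ℕ) (hn : 1 ≤ n) (a : A)
    (ha : a ∈ 𝓕.F n) (haP : mono 𝓕 a ha ∉ P)
    (hA : LocCoh.HasSk k 𝓕.extRees 𝓕.extRees) : MinLe k (Localization.AtPrime P) := by
  let := algR 𝓕
  obtain ⟨Q, hQ, hQP, ⟨e⟩⟩ := AwaySub.exists_prime (S := 𝓕.extRees) (R := 𝓕.rees)
    (by
      intro x y h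
      apply Subtype.ext
      have h1 : (ExtRees.incl 𝓕 x : A[T;T⁻¹]) = (ExtRees.incl 𝓕 y : A[T;T⁻¹]) :=
        congrArg Subtype.val h
      rw [ExtRees.coe_incl, ExtRees.coe_incl] at h1
      exact Polynomial.toLaurent_injective h1) (mono 𝓕 a ha) (by
      intro s
      -- `s = Σ_{m ≥ -N} s_m T^m`
      obtain ⟨N, hN⟩ : ∃ N : ℕ, ∀ m ∈ (s : A[T;T⁻¹]).coeff.support, -(N : ℤ) ≤ m := by
        obtain ⟨b, hb⟩ := (s : A[T;T⁻¹]).coeff.support.bddBelow
        exact ⟨(-b).toNat, fun m hm => by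
          have h1 := hb hm
          have h2 := Int.self_le_toNat (-b)
          omega⟩
      have hx : ((algebraMap 𝓕.rees 𝓕.extRees (mono 𝓕 a ha) : 𝓕.extRees) : A[T;T⁻¹]) =
          C a * T (n : ℤ) := by
        change (ExtRees.incl 𝓕 (mono 𝓕 a ha) : A[T;T⁻¹]) = _
        rw [ExtRees.coe_incl]
        change Polynomial.toLaurent (Polynomial.C a * Polynomial.X ^ n) = _
        rw [Polynomial.toLaurent_C_mul_X_pow]
      have hxk : ∀ k : ℕ, ((algebraMap 𝓕.rees 𝓕.extRees (mono 𝓕 a ha) ^ k * s : 𝓕.extRees) :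
          A[T;T⁻¹]) = C (a ^ k) * (s : A[T;T⁻¹]) * T ((n * k : ℕ) : ℤ) := by
        intro k
        rw [MulMemClass.coe_mul, SubmonoidClass.coe_pow, hx, mul_pow, ← map_pow, T_pow]
        have : ((k : ℤ) * (n : ℤ)) = ((n * k : ℕ) : ℤ) := by push_cast; ring
        rw [this]
        ring
      have hneg : ∀ m : ℤ, m < 0 → ((algebraMap 𝓕.rees 𝓕.extRees (mono 𝓕 a ha) ^ N * s :
          𝓕.extRees) : A[T;T⁻¹]).coeff m = 0 := by
        intro m hm
        rw [hxk, ExtRees.coeff_mul_T, ExtRees.coeff_C_mul]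
        have h0 : (s : A[T;T⁻¹]).coeff (m - ((n * N : ℕ) : ℤ)) = 0 := by
          by_contra hne
          have h1 := hN _ (Finsupp.mem_support_iff.mpr hne)
          have h2 : (N : ℤ) ≤ ((n * N : ℕ) : ℤ) := by
            exact_mod_cast Nat.le_mul_of_pos_left N hn
          omega
        rw [h0, mul_zero]
      set w := algebraMap 𝓕.rees 𝓕.extRees (mono 𝓕 a ha) ^ N * s with hw
      have hsum : (w : A[T;T⁻¹]) = Polynomial.toLaurent
          (∑ m ∈ (w : A[T;T⁻¹]).coeff.support,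
            Polynomial.C ((w : A[T;T⁻¹]).coeff m) * Polynomial.X ^ m.toNat) := by
        conv_lhs => rw [ExtRees.eq_sum (w : A[T;T⁻¹])]
        rw [map_sum]
        refine Finset.sum_congr rfl fun m hm => ?_
        rw [Polynomial.toLaurent_C_mul_X_pow]
        have h0 : 0 ≤ m := by
          by_contra hcon
          exact (Finsupp.mem_support_iff.mp hm) (hneg m (not_le.mp hcon))
        rw [Int.toNat_of_nonneg h0]
      refine ⟨N, ⟨∑ m ∈ (w : A[T;T⁻¹]).coeff.support,
            Polynomial.C ((w : A[T;T⁻¹]).coeff m) * Polynomial.X ^ m.toNat, ?_⟩, ?_⟩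
      · exact sum_mem fun m _ => C_mul_X_mem 𝓕 (w.2 m)
      · apply Subtype.ext
        change (ExtRees.incl 𝓕 _ : A[T;T⁻¹]) = _
        rw [ExtRees.coe_incl]
        exact hsum.symm) P haP
  rw [Groth.Agent.Ega4C.SkFlat.minLe_congr k e]
  rw [Groth.Agent.Ega4C.SkFlat.hasSk_iff'] at hA
  exact hA _

end K830.ReesS2
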