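import Groth.Agent.FiltBl.K830.ReesS2

/-!
`(S_2)` for the Rees algebra: the primes containing `R_+` and `F 1`.
-/

set_option autoImplicit false
universe u

open LaurentPolynomial IsLocalRing LocCoh

namespace K830.ReesS2

open Groth.Agent.Ega4C.SkFlat (MinLe)

theorem two_le_coe (x : ℕ∞) : (2 : WithBot ℕ∞) ≤ (x : WithBot ℕ∞) ↔ 2 ≤ x := by
  rw [show (2 : WithBot ℕ∞) = ((2 : ℕ∞) : WithBot ℕ∞) from rfl, WithBot.coe_le_coe]

theorem height_ext {A : Type u} [CommRing A] [IsNoetherianRing A]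
    (𝓕 : FiltBl.IdealFiltration A) (q : Ideal A) [q.IsPrime] :
    (ExtRees.ext 𝓕 q).height = q.height := by
  have hq := ExtRees.isPrime_map q
  obtain ⟨e⟩ := ExtRees.nonempty_equiv 𝓕 (q.map (algebraMap A A[T;T⁻¹]))
  have := LaurFib.smooth A
  have hc : (q.map (algebraMap A A[T;T⁻¹])).comap (algebraMap A A[T;T⁻¹]) = q :=
    ExtRees.comap_map_C q
  obtain ⟨h1, h2⟩ := LaurFib.dim_depth_of_map_eq (A := A) (q.map (algebraMap A A[T;T⁻¹]))
    (by rw [hc])
  have h3 := ringKrullDim_eq_of_ringEquiv e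
  have h4 := IsLocalization.AtPrime.ringKrullDim_eq_height (ExtRees.ext 𝓕 q)
    (Localization.AtPrime (ExtRees.ext 𝓕 q))
  have h5 := IsLocalization.AtPrime.ringKrullDim_eq_height
    ((q.map (algebraMap A A[T;T⁻¹])).comap (algebraMap A A[T;T⁻¹]))
    (Localization.AtPrime ((q.map (algebraMap A A[T;T⁻¹])).comap (algebraMap A A[T;T⁻¹])))
  have h6 : ((ExtRees.ext 𝓕 q).height : WithBot ℕ∞) =
      (((q.map (algebraMap A A[T;T⁻¹])).comap (algebraMap A A[T;T⁻¹])).height : WithBot ℕ∞) := by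
    rw [← h4, ← h5, ← h1]
    exact h3
  rw [hc] at h6
  exact_mod_cast h6

theorem two_le_depth_of_minLe {R : Type u} [CommRing R] [IsLocalRing R] (h : MinLe 2 R)
    (hd : (2 : WithBot ℕ∞) ≤ ringKrullDim R) : (2 : ℕ∞) ≤ depth R R := by
  unfold Groth.Agent.Ega4C.SkFlat.MinLe at h
  rw [min_eq_left (by exact_mod_cast hd)] at h
  exact (two_le_coe _).mp h

theorem exists_regular {A : Type u} [CommRing A] [IsNoetherianRing A] (hA : LocCoh.HasSk 2 A A)
    (I : Ideal A) (hht : 2 ≤ I.height) : ∃ a ∈ I, IsSMulRegular A a := by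
  by_contra hcon
  push Not at hcon
  have h1 : (I : Set A) ⊆ ⋃ p ∈ associatedPrimes A A, (p : Set A) := by
    rw [biUnion_associatedPrimes_eq_compl_regular]
    exact fun a ha => hcon a ha
  obtain ⟨q, hq, hIq⟩ := (Ideal.subset_union_prime_finite (associatedPrimes.finite A A)
    (f := fun x => x) ⊥ ⊥ (fun i hi _ _ => hi.isPrime)).mp h1
  have hqp : q.IsPrime := hq.isPrime
  obtain ⟨_, y, hy⟩ := isAssociatedPrime_iff.mp hq
  rw [Groth.Agent.Ega4C.SkFlat.hasSk_iff'] at hA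
  have h2 := two_le_depth_of_minLe (hA q) (by
    rw [IsLocalization.AtPrime.ringKrullDim_eq_height q (Localization.AtPrime q), two_le_coe]
    exact hht.trans (Ideal.height_mono hIq))
  have h3 : (1 : ℕ∞) ≤ depth (Localization.AtPrime q) (Localization.AtPrime q) :=
    le_trans (by norm_num) h2
  rw [DepthElt.one_le_depth_iff] at h3
  refine h3 ⟨y, fun r => ?_⟩
  conv_lhs => rw [hy]
  rw [Submodule.mem_colon_singleton, Submodule.mem_bot, smul_eq_mul]

variable {A : Type u} [CommRing A] (𝓕 : FiltBl.IdealFiltration A)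

theorem isSMulRegular_rees {a : A} (ha : IsSMulRegular A a) :
    IsSMulRegular 𝓕.rees (algebraMap A 𝓕.rees a) := by
  intro f g h
  apply Subtype.ext
  ext n
  have h1 : ((algebraMap A 𝓕.rees a * f : 𝓕.rees) : Polynomial A).coeff n =
      ((algebraMap A 𝓕.rees a * g : 𝓕.rees) : Polynomial A).coeff n := by
    have h' : algebraMap A 𝓕.rees a * f = algebraMap A 𝓕.rees a * g := h
    rw [h']
  change (Polynomial.C a * (f : Polynomial A)).coeff n =
    (Polynomial.C a * (g : Polynomial A)).coeff n at h1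
  rw [Polynomial.coeff_C_mul, Polynomial.coeff_C_mul] at h1
  exact ha h1

theorem dvd_iff {a : A} (f : 𝓕.rees) : algebraMap A 𝓕.rees a ∣ f ↔
    ∀ n, ∃ b ∈ 𝓕.F n, (f : Polynomial A).coeff n = a * b := by
  constructor
  · rintro ⟨g, rfl⟩ n
    refine ⟨(g : Polynomial A).coeff n, g.2 n, ?_⟩
    change (Polynomial.C a * (g : Polynomial A)).coeff n = _
    rw [Polynomial.coeff_C_mul]
  · intro h
    choose b hb hb' using h
    refine ⟨⟨∑ n ∈ (f : Polynomial A).support, Polynomial.C (b n) * Polynomial.X ^ n,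
      sum_mem fun n _ => C_mul_X_mem 𝓕 (hb n)⟩, ?_⟩
    apply Subtype.ext
    change (f : Polynomial A) = Polynomial.C a * ∑ n ∈ (f : Polynomial A).support,
      Polynomial.C (b n) * Polynomial.X ^ n
    conv_lhs => rw [Polynomial.as_sum_support_C_mul_X_pow (f : Polynomial A)]
    rw [Finset.mul_sum]
    refine Finset.sum_congr rfl fun n _ => ?_
    rw [hb' n, Polynomial.C_mul, mul_assoc]

/-- the product of scalars outside a prime. -/
theorem exists_common {p : Ideal A} [p.IsPrime] (s : Finset ℕ) (C : ℕ → A → Prop)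
    (hC : ∀ n a b, C n a → C n (b * a)) (h : ∀ n ∈ s, ∃ a, a ∉ p ∧ C n a) :
    ∃ a, a ∉ p ∧ ∀ n ∈ s, C n a := by
  classical
  induction s using Finset.induction_on with
  | empty => exact ⟨1, fun h => Ideal.IsPrime.ne_top ‹_› ((Ideal.eq_top_iff_one p).mpr h),
      fun n hn => absurd hn (Finset.notMem_empty n)⟩
  | insert n s hn ih =>
    obtain ⟨a, ha, hac⟩ := ih fun m hm => h m (Finset.mem_insert_of_mem hm)
    obtain ⟨b, hb, hbc⟩ := h n (Finset.mem_insert_self n s)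
    refine ⟨a * b, fun hab => (Ideal.IsPrime.mem_or_mem ‹_› hab).elim ha hb, ?_⟩
    intro m hm
    rcases Finset.mem_insert.mp hm with rfl | hm
    · exact hC m b a hbc
    · rw [mul_comm]
      exact hC m a b (hac m hm)

theorem minLe_of_mem [IsNoetherianRing A] (hfg : Algebra.FiniteType A 𝓕.rees)
    (hht : 2 ≤ (𝓕.F 1).height)
    (hR : LocCoh.HasSk 2 𝓕.extRees 𝓕.extRees) (P : Ideal 𝓕.rees) [P.IsPrime]
    (h1 : ∀ a ∈ 𝓕.F 1, algebraMap A 𝓕.rees a ∈ P)
    (h2 : ∀ (n : ℕ), 1 ≤ n → ∀ (a : A) (ha : a ∈ 𝓕.F n), mono 𝓕 a ha ∈ P) :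
    MinLe 2 (Localization.AtPrime P) := by
  have hN : IsNoetherianRing 𝓕.rees := Algebra.FiniteType.isNoetherianRing A 𝓕.rees
  have hN' := ExtRees.isNoetherianRing 𝓕 hfg
  have hA : LocCoh.HasSk 2 A A := ((ExtRees.hasSk_iff 𝓕 hfg 1).mp hR).2
  obtain ⟨a₀, ha₀, hreg⟩ := exists_regular hA _ hht
  let p : Ideal A := P.comap (algebraMap A 𝓕.rees)
  have hp : p.IsPrime := inferInstance
  have hFp : 𝓕.F 1 ≤ p := fun a ha => h1 a ha
  have hmem : ∀ f : 𝓕.rees, f ∈ P ↔ (f : Polynomial A).coeff 0 ∈ p := by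
    intro f
    have hsum : f = algebraMap A 𝓕.rees ((f : Polynomial A).coeff 0) +
        ∑ n ∈ (f : Polynomial A).support.erase 0, mono 𝓕 ((f : Polynomial A).coeff n) (f.2 n) := by
      apply Subtype.ext
      rw [AddMemClass.coe_add, AddSubmonoidClass.coe_finsetSum]
      change _ = Polynomial.C ((f : Polynomial A).coeff 0) +
        ∑ n ∈ (f : Polynomial A).support.erase 0,
          Polynomial.C ((f : Polynomial A).coeff n) * Polynomial.X ^ n
      conv_lhs => rw [Polynomial.as_sum_support_C_mul_X_pow (f : Polynomial A)]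
      by_cases h0 : (0 : ℕ) ∈ (f : Polynomial A).support
      · rw [← Finset.add_sum_erase _ _ h0, pow_zero, mul_one]
      · rw [Finset.erase_eq_of_notMem h0, Polynomial.notMem_support_iff.mp h0, Polynomial.C_0,
          zero_add]
    have hS : ∑ n ∈ (f : Polynomial A).support.erase 0,
        mono 𝓕 ((f : Polynomial A).coeff n) (f.2 n) ∈ P := by
      refine sum_mem fun n hn => h2 n ?_ _ _
      exact Nat.one_le_iff_ne_zero.mpr (Finset.ne_of_mem_erase hn)
    constructor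
    · intro hf
      rw [hsum] at hf
      exact (Ideal.add_mem_iff_left P hS).mp hf
    · intro hf
      rw [hsum]
      exact (Ideal.add_mem_iff_left P hS).mpr hf
  unfold Groth.Agent.Ega4C.SkFlat.MinLe
  refine le_trans (min_le_left _ _) ?_
  suffices h : (2 : ℕ∞) ≤ depth (Localization.AtPrime P) (Localization.AtPrime P) from
    (two_le_coe _).mpr h
  rw [DepthElt.two_le_depth_iff P (h1 a₀ ha₀) (isSMulRegular_rees 𝓕 hreg)]
  rintro ⟨y, hy⟩
  -- a homogeneous component with the same annihilator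
  have hy' : ∀ f : 𝓕.rees, f ∈ P ↔ ∀ n, ∃ b ∈ 𝓕.F n,
      ((f * y : 𝓕.rees) : Polynomial A).coeff n = a₀ * b := fun f => by
    rw [hy f, dvd_iff]
  have hC : ∀ (c : A) (n : ℕ), ((algebraMap A 𝓕.rees c * y : 𝓕.rees) : Polynomial A).coeff n =
      c * (y : Polynomial A).coeff n := by
    intro c n
    change (Polynomial.C c * (y : Polynomial A)).coeff n = _
    rw [Polynomial.coeff_C_mul]
  have hM : ∀ (m : ℕ) (c : A) (hc : c ∈ 𝓕.F m) (n : ℕ),
      ((mono 𝓕 c hc * y : 𝓕.rees) : Polynomial A).coeff (n + m) =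
      c * (y : Polynomial A).coeff n := by
    intro m c hc n
    change (Polynomial.C c * Polynomial.X ^ m * (y : Polynomial A)).coeff (n + m) = _
    rw [mul_assoc, Polynomial.coeff_C_mul, Polynomial.coeff_X_pow_mul]
  obtain ⟨n, hn⟩ : ∃ n : ℕ, ∀ s, s ∉ p → ¬ ∃ b ∈ 𝓕.F n, s * (y : Polynomial A).coeff n =
      a₀ * b := by
    by_contra hcon
    push Not at hcon
    obtain ⟨s, hs, hs'⟩ := exists_common (p := p) (y : Polynomial A).support
      (fun n s => ∃ b ∈ 𝓕.F n, s * (y : Polynomial A).coeff n = a₀ * b)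
      (fun n a b ⟨c, hc, hc'⟩ => ⟨b * c, Ideal.mul_mem_left _ _ hc, by
        rw [mul_assoc, hc']; ring⟩)
      (fun n _ => hcon n)
    apply hs
    change algebraMap A 𝓕.rees s ∈ P
    rw [hy']
    intro n
    rw [hC]
    by_cases hn : n ∈ (y : Polynomial A).support
    · exact hs' n hn
    · exact ⟨0, zero_mem _, by rw [Polynomial.notMem_support_iff.mp hn, mul_zero, mul_zero]⟩
  set a := (y : Polynomial A).coeff n with ha
  have hp1 : ∀ c ∈ p, ∃ b ∈ 𝓕.F n, c * a = a₀ * b := by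
    intro c hc
    have := (hy' (algebraMap A 𝓕.rees c)).mp hc n
    rwa [hC] at this
  have hp2 : ∀ (m : ℕ), 1 ≤ m → ∀ c ∈ 𝓕.F m, ∃ b ∈ 𝓕.F (n + m), c * a = a₀ * b := by
    intro m hm c hc
    have := (hy' (mono 𝓕 c hc)).mp (h2 m hm c hc) (n + m)
    rwa [hM] at this
  -- divide by `a₀`
  have hpdim : (2 : WithBot ℕ∞) ≤ ringKrullDim (Localization.AtPrime p) := by
    rw [IsLocalization.AtPrime.ringKrullDim_eq_height p (Localization.AtPrime p), two_le_coe]
    exact hht.trans (Ideal.height_mono hFp)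
  have hAp : (2 : ℕ∞) ≤ depth (Localization.AtPrime p) (Localization.AtPrime p) := by
    rw [Groth.Agent.Ega4C.SkFlat.hasSk_iff'] at hA
    exact two_le_depth_of_minLe (hA p) hpdim
  obtain ⟨s, hs, b, hb⟩ := DepthElt.exists_of_two_le_depth p (hFp ha₀) hreg hAp a (by
    intro c hc
    obtain ⟨b, _, hb⟩ := hp1 c hc
    exact ⟨b, hb⟩)
  have hb1 : ∀ c ∈ p, c * b ∈ 𝓕.F n := by
    intro c hc
    obtain ⟨d, hd, hd'⟩ := hp1 c hc
    have h3 : a₀ * (c * b) = a₀ * (s * d) := by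
      calc a₀ * (c * b) = c * (a₀ * b) := by ring
        _ = c * (s * a) := by rw [hb]
        _ = s * (c * a) := by ring
        _ = s * (a₀ * d) := by rw [hd']
        _ = a₀ * (s * d) := by ring
    rw [hreg h3]
    exact Ideal.mul_mem_left _ _ hd
  have hb2 : ∀ (m : ℕ), 1 ≤ m → ∀ c ∈ 𝓕.F m, c * b ∈ 𝓕.F (n + m) := by
    intro m hm c hc
    obtain ⟨d, hd, hd'⟩ := hp2 m hm c hc
    have h3 : a₀ * (c * b) = a₀ * (s * d) := by
      calc a₀ * (c * b) = c * (a₀ * b) := by ring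
        _ = c * (s * a) := by rw [hb]
        _ = s * (c * a) := by ring
        _ = s * (a₀ * d) := by rw [hd']
        _ = a₀ * (s * d) := by ring
    rw [hreg h3]
    exact Ideal.mul_mem_left _ _ hd
  have hb3 : ∀ t, t ∉ p → t * b ∉ 𝓕.F n := by
    intro t ht htb
    refine hn (t * s) (fun h => (hp.mem_or_mem h).elim ht hs) ⟨t * b, htb, ?_⟩
    rw [mul_assoc, hb]
    ring
  -- the order of `b` along `p`
  classical
  have hex : ∃ m, ∀ t, t ∉ p → t * b ∉ 𝓕.F m := ⟨n, hb3⟩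
  have hm0 : Nat.find hex ≠ 0 := by
    intro h0
    have := Nat.find_spec hex 1 (fun h => hp.ne_top ((Ideal.eq_top_iff_one p).mpr h))
    rw [h0, 𝓕.zero_eq] at this
    exact this trivial
  obtain ⟨j, hj⟩ := Nat.exists_eq_succ_of_ne_zero hm0
  have hjn : j + 1 ≤ n := by
    rw [← Nat.succ_eq_add_one, ← hj]
    exact Nat.find_min' hex hb3
  have hjlt : ¬ ∀ t, t ∉ p → t * b ∉ 𝓕.F j := Nat.find_min hex (by rw [hj]; exact Nat.lt_succ_self j)
  push Not at hjlt
  obtain ⟨t, ht, htb⟩ := hjlt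
  have hj1 : ∀ t', t' ∉ p → t' * (t * b) ∉ 𝓕.F (j + 1) := by
    intro t' ht' h
    have := Nat.find_spec hex (t' * t) (fun h => (hp.mem_or_mem h).elim ht' ht)
    rw [hj, mul_assoc] at this
    exact this h
  -- the class of `t b T^j` in the quotient by `u`
  set b' := t * b with hb'
  let ξ : 𝓕.extRees := ⟨C b' * T (j : ℤ), ExtRees.C_mul_T_mem 𝓕 _ _ (by simpa using htb)⟩
  have hξ : ∀ (f : 𝓕.extRees) (i : ℤ), ((f * ξ : 𝓕.extRees) : A[T;T⁻¹]).coeff i =
      (f : A[T;T⁻¹]).coeff (i - j) * b' := by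
    intro f i
    change ((f : A[T;T⁻¹]) * (C b' * T (j : ℤ))).coeff i = _
    rw [← mul_assoc, ExtRees.coeff_mul_T, mul_comm, ExtRees.coeff_C_mul, mul_comm]
  have hbig := ExtRees.isPrime_big 𝓕 p hFp
  have hdim : (2 : WithBot ℕ∞) ≤ ringKrullDim (Localization.AtPrime (ExtRees.big 𝓕 p hFp)) := by
    rw [IsLocalization.AtPrime.ringKrullDim_eq_height (ExtRees.big 𝓕 p hFp)
      (Localization.AtPrime (ExtRees.big 𝓕 p hFp)), two_le_coe]
    have h4 := Ideal.height_mono (ExtRees.ext_le_big 𝓕 p hFp)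
    rw [height_ext 𝓕 p] at h4
    exact (hht.trans (Ideal.height_mono hFp)).trans h4
  have hdepth : (2 : ℕ∞) ≤ depth (Localization.AtPrime (ExtRees.big 𝓕 p hFp))
      (Localization.AtPrime (ExtRees.big 𝓕 p hFp)) := by
    rw [Groth.Agent.Ega4C.SkFlat.hasSk_iff'] at hR
    exact two_le_depth_of_minLe (hR _) hdim
  rw [DepthElt.two_le_depth_iff _ (ExtRees.u_mem_big 𝓕 p hFp) (ExtRees.isSMulRegular_u 𝓕)]
    at hdepth
  refine hdepth ⟨ξ, fun f => ?_⟩
  rw [← Ideal.mem_span_singleton, ExtRees.mem_span_u_iff, ExtRees.mem_big_iff]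
  constructor
  · intro hf i
    rw [hξ]
    rcases lt_trichotomy (i - (j : ℤ)) 0 with hlt | heq | hgt
    · refine Ideal.mul_mem_left _ _ (𝓕.antitone ?_ htb)
      omega
    · rw [heq]
      have h6 : (f : A[T;T⁻¹]).coeff 0 * b' = t * ((f : A[T;T⁻¹]).coeff 0 * b) := by
        rw [hb']; ring
      rw [h6]
      refine Ideal.mul_mem_left _ _ (𝓕.antitone ?_ (hb1 _ hf))
      omega
    · have h6 : (f : A[T;T⁻¹]).coeff (i - j) * b' = t * ((f : A[T;T⁻¹]).coeff (i - j) * b) := by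
        rw [hb']; ring
      rw [h6]
      refine Ideal.mul_mem_left _ _ (𝓕.antitone ?_
        (hb2 (i - j).toNat (by omega) _ (f.2 (i - j))))
      omega
  · intro hf
    have h6 := hf j
    rw [hξ, sub_self] at h6
    by_contra hcon
    refine hj1 _ hcon ?_
    have : ((j : ℤ) + 1).toNat = j + 1 := by omega
    rwa [this] at h6

theorem hasS2 [IsNoetherianRing A] (hfg : Algebra.FiniteType A 𝓕.rees)
    (hht : 2 ≤ (𝓕.F 1).height)
    (hR : LocCoh.HasSk 2 𝓕.extRees 𝓕.extRees) : LocCoh.HasSk 2 𝓕.rees 𝓕.rees := by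
  have hA : LocCoh.HasSk 2 A A := ((ExtRees.hasSk_iff 𝓕 hfg 1).mp hR).2
  rw [Groth.Agent.Ega4C.SkFlat.hasSk_iff']
  intro P hP
  by_cases h1 : ∀ a ∈ 𝓕.F 1, algebraMap A 𝓕.rees a ∈ P
  · by_cases h2 : ∀ (n : ℕ), 1 ≤ n → ∀ (a : A) (ha : a ∈ 𝓕.F n), mono 𝓕 a ha ∈ P
    · exact minLe_of_mem 𝓕 hfg hht hR P h1 h2
    · push Not at h2
      obtain ⟨n, hn, a, ha, haP⟩ := h2
      exact minLe_of_notMem_pos 𝓕 2 P n hn a ha haP hR
  · push Not at h1
    obtain ⟨a, ha, haP⟩ := h1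
    exact minLe_of_notMem_F_one 𝓕 2 P a ha haP hA

end K830.ReesS2
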