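import Mathlib.RingTheory.Polynomial.GaussNorm
import Mathlib.RingTheory.Valuation.Integral
import Mathlib.RingTheory.Polynomial.IsIntegral
import Mathlib.Analysis.SpecialFunctions.Exp
import Groth.Prelude.Def_W4c2filtblowupsingRees

/-!
Integral closedness of Rees algebras of filtrations defined by valuations.
-/

set_option autoImplicit false

open Polynomial

namespace K830.ReesVal

section AbsV

variable {K : Type*} [Field K] (v : AddValuation K (WithTop ℤ))

/-- The integer value of a nonzero element. -/
noncomputable def iv (x : K) : ℤ := (v x).untopD 0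

theorem coe_iv {x : K} (hx : x ≠ 0) : ((iv v x : ℤ) : WithTop ℤ) = v x := by
  have h : v x ≠ ⊤ := fun h => hx (v.top_iff.mp h)
  obtain ⟨n, hn⟩ := WithTop.ne_top_iff_exists.mp h
  unfold iv
  rw [← hn, WithTop.untopD_coe]

theorem iv_mul {x y : K} (hx : x ≠ 0) (hy : y ≠ 0) : iv v (x * y) = iv v x + iv v y := by
  have h : ((iv v (x * y) : ℤ) : WithTop ℤ) = ((iv v x + iv v y : ℤ) : WithTop ℤ) := by
    rw [coe_iv v (mul_ne_zero hx hy), v.map_mul, WithTop.coe_add, coe_iv v hx, coe_iv v hy]
  exact_mod_cast h

theorem min_le_iv_add {x y : K} (hx : x ≠ 0) (hy : y ≠ 0) (hxy : x + y ≠ 0) :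
    min (iv v x) (iv v y) ≤ iv v (x + y) := by
  have h := v.map_add x y
  rw [← coe_iv v hx, ← coe_iv v hy, ← coe_iv v hxy] at h
  exact_mod_cast h

open Classical in
/-- The real absolute value attached to an additive valuation with integer values. -/
noncomputable def absFun (x : K) : ℝ := if x = 0 then 0 else Real.exp (-(iv v x : ℝ))

theorem absFun_zero : absFun v 0 = 0 := by simp [absFun]

theorem absFun_of_ne {x : K} (hx : x ≠ 0) : absFun v x = Real.exp (-(iv v x : ℝ)) := by
  simp [absFun, hx]

theorem absFun_nonneg (x : K) : 0 ≤ absFun v x := by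
  unfold absFun
  split_ifs
  · exact le_rfl
  · exact (Real.exp_pos _).le

theorem absFun_mul (x y : K) : absFun v (x * y) = absFun v x * absFun v y := by
  by_cases hx : x = 0
  · simp [hx, absFun_zero]
  by_cases hy : y = 0
  · simp [hy, absFun_zero]
  rw [absFun_of_ne v hx, absFun_of_ne v hy, absFun_of_ne v (mul_ne_zero hx hy), iv_mul v hx hy,
    ← Real.exp_add]
  push_cast
  ring_nf

theorem absFun_add (x y : K) : absFun v (x + y) ≤ max (absFun v x) (absFun v y) := by
  by_cases hx : x = 0
  · simp [hx]
  by_cases hy : y = 0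
  · simp [hy]
  by_cases hxy : x + y = 0
  · rw [hxy, absFun_zero]; exact le_max_of_le_left (absFun_nonneg v x)
  rw [absFun_of_ne v hx, absFun_of_ne v hy, absFun_of_ne v hxy]
  have h := min_le_iv_add v hx hy hxy
  rcases min_le_iff.mp h with h | h
  · refine le_max_of_le_left (Real.exp_le_exp.mpr ?_)
    have : (iv v x : ℝ) ≤ iv v (x + y) := by exact_mod_cast h
    linarith
  · refine le_max_of_le_right (Real.exp_le_exp.mpr ?_)
    have : (iv v y : ℝ) ≤ iv v (x + y) := by exact_mod_cast h
    linarith

/-- The absolute value `exp (-v)`. -/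
noncomputable def absV : AbsoluteValue K ℝ where
  toFun := absFun v
  map_mul' := absFun_mul v
  nonneg' := absFun_nonneg v
  eq_zero' x := by
    constructor
    · intro h
      by_contra hx
      rw [absFun_of_ne v hx] at h
      exact (Real.exp_pos _).ne' h
    · rintro rfl; exact absFun_zero v
  add_le' x y := (absFun_add v x y).trans (max_le_add_of_nonneg (absFun_nonneg v x)
    (absFun_nonneg v y))

theorem absV_apply (x : K) : absV v x = absFun v x := rfl

theorem isNonarchimedean_absV : IsNonarchimedean (absV v) := absFun_add v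

/-- The Gauss norm as a valuation. -/
noncomputable def gaussVal (c : ℝ) (hc : 0 < c) : Valuation K[X] NNReal where
  toFun f := ⟨gaussNorm (absV v) c f, gaussNorm_nonneg (absV v) f hc.le⟩
  map_zero' := NNReal.eq (by
    change gaussNorm (absV v) c (0 : K[X]) = 0
    exact gaussNorm_zero _ _)
  map_one' := NNReal.eq (by
    change gaussNorm (absV v) c (1 : K[X]) = 1
    rw [← Polynomial.C_1, gaussNorm_C, map_one])
  map_mul' f g := NNReal.eq (gaussNorm_mul (isNonarchimedean_absV v) hc f g)
  map_add_le_max' f g := by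
    have h := isNonarchimedean_gaussNorm (absV v) (isNonarchimedean_absV v) hc.le f g
    exact h

theorem gaussVal_le_one_iff (c : ℝ) (hc : 0 < c) (f : K[X]) :
    gaussVal v c hc f ≤ 1 ↔ ∀ n, absV v (f.coeff n) * c ^ n ≤ 1 := by
  change gaussNorm (absV v) c f ≤ 1 ↔ _
  constructor
  · intro h n
    exact (le_gaussNorm (absV v) f hc.le n).trans h
  · intro h
    obtain ⟨i, hi⟩ := exists_eq_gaussNorm (absV v) c f
    rw [hi]
    exact h i

end AbsV

theorem coeff_bound {K : Type*} [Field K] (v : AddValuation K (WithTop ℤ)) (p q : ℕ) (hq : 0 < q)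
    (n : ℕ) (x : K) :
    absV v x * (Real.exp ((p : ℝ) / q)) ^ n ≤ 1 ↔
      ((n * p : ℕ) : WithTop ℤ) ≤ (q : WithTop ℤ) * v x := by
  have hq' : (0 : ℝ) < q := by exact_mod_cast hq
  by_cases hx : x = 0
  · subst hx
    rw [absV_apply, absFun_zero, zero_mul, v.map_zero, WithTop.mul_top (by exact_mod_cast hq.ne')]
    simp
  · rw [absV_apply, absFun_of_ne v hx, ← Real.exp_nat_mul, ← Real.exp_add, Real.exp_le_one_iff,
      ← coe_iv v hx]
    have h1 : (((n * p : ℕ) : WithTop ℤ) ≤ (q : WithTop ℤ) * ((iv v x : ℤ) : WithTop ℤ)) ↔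
        (((n * p : ℕ) : ℤ) ≤ (q : ℤ) * iv v x) := by
      have h2 : (q : WithTop ℤ) * ((iv v x : ℤ) : WithTop ℤ) =
          (((q : ℤ) * iv v x : ℤ) : WithTop ℤ) := by
        rw [WithTop.coe_mul]; rfl
      have h3 : ((n * p : ℕ) : WithTop ℤ) = ((((n * p : ℕ) : ℤ)) : WithTop ℤ) := rfl
      rw [h2, h3, WithTop.coe_le_coe]
    rw [h1]
    constructor
    · intro h
      have h2 : (n : ℝ) * p ≤ q * iv v x := by
        have h3 : -(iv v x : ℝ) + n * (p / q) = (n * p - q * iv v x) / q := by
          field_simp; ring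
        rw [h3, div_le_iff₀ hq', zero_mul] at h
        linarith
      exact_mod_cast h2
    · intro h
      have h2 : (n : ℝ) * p ≤ q * iv v x := by exact_mod_cast h
      have h3 : -(iv v x : ℝ) + n * (p / q) = (n * p - q * iv v x) / q := by
        field_simp; ring
      rw [h3, div_le_iff₀ hq', zero_mul]
      linarith

/-- A subalgebra of an integrally closed domain which is integrally closed in it is integrally
closed. -/
theorem isIntegrallyClosed_of_mem {A B : Type*} [CommRing A] [CommRing B] [IsDomain B] [Algebra A B]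
    [IsIntegrallyClosed B] (S : Subalgebra A B)
    (h : ∀ x : B, IsIntegral S x → x ∈ S) : IsIntegrallyClosed S := by
  rw [isIntegrallyClosed_iff (FractionRing S)]
  intro x hx
  let ι : FractionRing S →+* FractionRing B :=
    IsFractionRing.map (A := S) (B := B) (K := FractionRing S) (L := FractionRing B)
      (j := algebraMap S B) Subtype.val_injective
  have hι : ∀ s : S, ι (algebraMap S _ s) = algebraMap B _ (s : B) := fun s => by
    simp only [ι, IsFractionRing.map]
    exact IsLocalization.map_eq _ s
  have hιinj : Function.Injective ι := ι.injective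
  have hxB : IsIntegral B (ι x) := by
    obtain ⟨f, hf, hfx⟩ := hx
    refine ⟨f.map (algebraMap S B), hf.map _, ?_⟩
    rw [Polynomial.eval₂_map]
    have h1 : (algebraMap B (FractionRing B)).comp (algebraMap S B) =
        ι.comp (algebraMap S (FractionRing S)) := RingHom.ext fun s => (hι s).symm
    rw [h1, ← Polynomial.hom_eval₂, hfx, map_zero]
  obtain ⟨b, hb⟩ := IsIntegrallyClosed.isIntegral_iff.mp hxB
  have hbS : IsIntegral S b := by
    obtain ⟨f, hf, hfx⟩ := hx
    refine ⟨f, hf, ?_⟩
    apply IsFractionRing.injective B (FractionRing B)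
    rw [Polynomial.hom_eval₂, map_zero, hb]
    have h1 : (algebraMap B (FractionRing B)).comp (algebraMap S B) =
        ι.comp (algebraMap S (FractionRing S)) := RingHom.ext fun s => (hι s).symm
    rw [h1, ← Polynomial.hom_eval₂, hfx, map_zero]
  refine ⟨⟨b, h b hbS⟩, hιinj ?_⟩
  rw [hι, hb]

end K830.ReesVal
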