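import Mathlib.RingTheory.GradedAlgebra.Basic
import Mathlib.RingTheory.GradedAlgebra.Homogeneous.Ideal
import Mathlib.Algebra.Polynomial.Laurent

set_option autoImplicit false

open DirectSum

namespace K830.Tw

section Tw

variable {R : Type*} [CommRing R] {σ : Type*} [SetLike σ R] [AddSubgroupClass σ R] (𝒜 : ℤ → σ)
  [GradedRing 𝒜]
variable {S : Type*} [CommRing S]

/-- The twist of a ring homomorphism `f` by a unit `U`, on the direct sum of the pieces. -/
noncomputable def twAux (f : R →+* S) (U : Sˣ) : (⨁ i, 𝒜 i) →+* S :=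
  DirectSum.toSemiring (A := fun i => 𝒜 i)
    (fun i => ((AddMonoidHom.mulRight ((U ^ i : Sˣ) : S)).comp (f : R →+ S)).comp
      (AddSubmonoidClass.subtype (𝒜 i)))
    (by
      change f (1 : R) * ((U ^ (0 : ℤ) : Sˣ) : S) = 1
      simp)
    (fun {i j} a b => by
      change f ((a : R) * (b : R)) * ((U ^ (i + j) : Sˣ) : S) =
        (f (a : R) * ((U ^ i : Sˣ) : S)) * (f (b : R) * ((U ^ j : Sˣ) : S))
      rw [map_mul, zpow_add, Units.val_mul]; ring)

theorem twAux_of (f : R →+* S) (U : Sˣ) {i : ℤ} (r : 𝒜 i) :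
    twAux 𝒜 f U (DirectSum.of (fun i => 𝒜 i) i r) = f r * ((U ^ i : Sˣ) : S) := by
  unfold twAux
  rw [DirectSum.toSemiring_of]
  rfl

/-- The twist of a ring homomorphism `f` out of a `ℤ`-graded ring by a unit `U` of the target:
`r ↦ ∑ f (r_i) U^i`. -/
noncomputable def tw (f : R →+* S) (U : Sˣ) : R →+* S :=
  (twAux 𝒜 f U).comp (DirectSum.decomposeRingEquiv 𝒜 : R →+* ⨁ i, 𝒜 i)

theorem tw_of_mem (f : R →+* S) (U : Sˣ) {i : ℤ} {r : R} (hr : r ∈ 𝒜 i) :
    tw 𝒜 f U r = f r * ((U ^ i : Sˣ) : S) := by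
  change twAux 𝒜 f U (decompose 𝒜 r) = _
  rw [decompose_of_mem 𝒜 hr, twAux_of]

/-- Two ring homomorphisms out of a graded ring agree if they agree on homogeneous elements. -/
theorem hom_ext {f g : R →+* S} (h : ∀ i : ℤ, ∀ r ∈ 𝒜 i, f r = g r) : f = g := by
  classical
  ext r
  rw [← DirectSum.sum_support_decompose 𝒜 r, map_sum, map_sum]
  exact Finset.sum_congr rfl fun i _ => h i _ (SetLike.coe_mem _)

end Tw

end K830.Tw
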